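import Cfsg.Agent.Lib.Spor.NineClasses.Six
import Cfsg.Agent.Lib.Small.SelfCentralPrime

/-!
# Ten classes: impossible centraliser vectors of large order

A class with centraliser order six needs an involution with centraliser order divisible by twelve
but not by nine, and a self-centralising prime with dihedral normaliser gives an identity for the
centraliser of a central involution.
-/

set_option autoImplicit false
set_option maxRecDepth 100000
set_option linter.style.haveILetI false

open Subgroup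

namespace CfsgLib.Spor.TenClasses.Big

open CfsgLib.Spor.NineClasses

universe u

variable {G : Type u} [Group G] [Finite G] {n : ℕ}

theorem card_eq (V : Vec G n) {cs : List ℕ} (h : V.cs = cs) {L : ℕ}
    (hL : cs.foldr Nat.lcm 1 = L) : Nat.card G = L := by
  have h1 : ∀ l : List ℕ, ∀ x ∈ l, x ∣ l.foldr Nat.lcm 1 := by
    intro l
    induction l with
    | nil => simp
    | cons a l ih =>
      intro x hx
      rcases List.mem_cons.1 hx with rfl | hx
      · exact Nat.dvd_lcm_left _ _
      · exact (ih x hx).trans (Nat.dvd_lcm_right _ _)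
  have h2 : ∀ l : List ℕ, (∀ x ∈ l, x ∣ Nat.card G) → l.foldr Nat.lcm 1 ∣ Nat.card G := by
    intro l
    induction l with
    | nil => simp
    | cons a l ih =>
      exact fun hl => Nat.lcm_dvd (hl a List.mem_cons_self)
        (ih fun x hx => hl x (List.mem_cons_of_mem _ hx))
  subst hL
  refine Nat.dvd_antisymm (V.dvd_of_forall_dvd fun x hx => h1 _ x (h ▸ hx)) (h2 _ fun x hx => ?_)
  rw [← h] at hx
  obtain ⟨i, rfl⟩ := V.mem_cs.1 hx
  exact cord_dvd _

theorem cord_mem (V : Vec G n) {cs : List ℕ} (h : V.cs = cs) {g : G} (hg : g ≠ 1) :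
    cord g ∈ cs := by
  rw [← h, ← V.cord_idx g hg]
  exact V.mem_cs.2 ⟨_, rfl⟩

/-- A class with centraliser order six. -/
theorem six_kill (V : Vec G n) {cs : List ℕ} (h : V.cs = cs) (h4 : 4 ∣ Nat.card G)
    (h9 : 9 ∣ Nat.card G) (h6 : 6 ∈ cs) (hall : ∀ x ∈ cs, x % 12 = 0 → x % 9 = 0) : False := by
  rw [← h] at h6
  obtain ⟨i, hi⟩ := V.mem_cs.1 h6
  have hd : orderOf (V.rep i) ∣ 6 := hi ▸ orderOf_dvd_cord _
  have hle := Nat.le_of_dvd (by norm_num) hd
  have ho : orderOf (V.rep i) = 6 := by
    have h2 : orderOf (V.rep i) ≠ 2 := fun e => by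
      have := sq_dvd_centralizer Nat.prime_two e (by norm_num; exact h4)
      rw [hi] at this
      norm_num at this
    have h3 : orderOf (V.rep i) ≠ 3 := fun e => by
      have := sq_dvd_centralizer Nat.prime_three e (by norm_num; exact h9)
      rw [hi] at this
      norm_num at this
    have h1 : orderOf (V.rep i) ≠ 1 := fun e => V.ne_one i (orderOf_eq_one_iff.1 e)
    interval_cases hv : orderOf (V.rep i) <;> first | rfl | omega
  have S : SixElt (V.rep i) := ⟨ho, hi⟩
  have hne : V.rep i ^ 3 ≠ 1 := fun e => by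
    have := S.ho3
    rw [e, orderOf_one] at this
    exact absurd this (by norm_num)
  exact S.not_nine_dvd (Nat.dvd_of_mod_eq_zero
    (hall _ (cord_mem V h hne) (Nat.mod_eq_zero_of_dvd (S.twelve_dvd h4))))

variable [IsSimpleGroup G]

/-- The normaliser of a self-centralising subgroup of prime order with `(p-1)/2` classes. -/
theorem dihedral_normalizer (hG : ¬ IsMulCommutative G) (V : Vec G n) {p : ℕ} (hp : p.Prime)
    (hp5 : 5 ≤ p) (hcount : 2 * V.cs.count p = p - 1) :
    ∃ u : G, orderOf u = p ∧ ¬ p ^ 2 ∣ Nat.card G ∧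
      centralizer ((zpowers u : Subgroup G) : Set G) = zpowers u ∧
      Nat.card (normalizer ((zpowers u : Subgroup G) : Set G)) = p * 2 := by
  classical
  haveI : Fact p.Prime := ⟨hp⟩
  have hs : p ∈ V.cs := List.count_pos_iff.1 (by omega)
  obtain ⟨i0, hi0⟩ := V.mem_cs.1 hs
  obtain ⟨ho, hsq, hall⟩ := prime_cord hp (V.ne_one i0) hi0
  have hP : ∀ P : Sylow p G, Nat.card (P : Subgroup G) = p := by
    intro P
    obtain ⟨k, hk⟩ := IsPGroup.iff_card.1 P.2
    have hd : p ^ 1 ∣ Nat.card G := by rw [pow_one, ← hi0]; exact cord_dvd _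
    have h1 := P.pow_dvd_card_of_pow_dvd_card hd
    rw [hk, Nat.pow_dvd_pow_iff_le_right hp.one_lt] at h1
    rw [hk]
    rcases Nat.lt_or_ge k 2 with h | h
    · rw [show k = 1 by omega, pow_one]
    · exact absurd (dvd_trans (dvd_trans (pow_dvd_pow p h) hk.symm.dvd)
        (card_subgroup_dvd_card _)) hsq
  obtain ⟨P, hxP⟩ := (IsPGroup.of_card (p := p) (n := 1)
    (show Nat.card (zpowers (V.rep i0)) = p ^ 1 by rw [Nat.card_zpowers, ho, pow_one])).exists_le_sylow
  have hPx : zpowers (V.rep i0) = (P : Subgroup G) :=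
    Subgroup.eq_of_le_of_card_ge hxP (by rw [Nat.card_zpowers, ho, hP P])
  have hCP : centralizer ((P : Subgroup G) : Set G) = centralizer ({V.rep i0} : Set G) := by
    rw [← hPx, zpowers_eq_closure, centralizer_closure]
  have hCc : Nat.card (centralizer ((P : Subgroup G) : Set G)) = p := by rw [hCP]; exact hi0
  obtain ⟨e, he1, hed, heN⟩ := CfsgLib.Small.exists_normalizer_centralizer hG P (hP P)
  rw [hCc] at heN
  have hNn := CfsgLib.Small.card_normalizer_mul P
  have hn1 := CfsgLib.Small.one_lt_card_sylow hG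
    (show p ∣ Nat.card G from hP P ▸ card_subgroup_dvd_card _)
  set N := Nat.card (Sylow p G) with hN
  have hL : Nat.card G = N * (p * e) := by rw [← hNn, ← heN]; ring
  have hcnt : V.cs.count p * (Nat.card G / p) = N * (p - 1) := by
    rw [hN, ← CfsgLib.Small.card_orderOf_eq_prime hP,
      V.card_elems (fun g => orderOf g = p) (fun a b hab h => orderOf_conj hab ▸ h)
        (by rw [orderOf_one]; exact hp.one_lt.ne),
      show V.cs.count p = Nat.card {i : Fin n // cord (V.rep i) = p} by
        rw [List.count, V.countP_cs]; simp,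
      Nat.card_eq_fintype_card, Fintype.card_subtype, ← Finset.sum_filter]
    have hset : (Finset.univ.filter fun i => orderOf (V.rep i) = p) =
        Finset.univ.filter fun i => cord (V.rep i) = p := by
      refine Finset.filter_congr fun i _ => ⟨fun h => ?_, fun h => ?_⟩
      · exact (hall _ (V.ne_one i) (h ▸ orderOf_dvd_cord _)).1
      · exact (hall _ (V.ne_one i) h.symm.dvd).2
    rw [hset, Finset.sum_congr rfl (fun i hi => by rw [(Finset.mem_filter.1 hi).2]),
      Finset.sum_const, smul_eq_mul]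
  rw [hL, show N * (p * e) = p * (N * e) by ring, Nat.mul_div_cancel_left _ hp.pos] at hcnt
  have hse : V.cs.count p * e = V.cs.count p * 2 := by
    have : N * (V.cs.count p * e) = N * (V.cs.count p * 2) := by
      rw [mul_comm (V.cs.count p) 2, hcount, ← hcnt]; ring
    exact Nat.eq_of_mul_eq_mul_left (by omega) this
  have he : e = 2 := Nat.eq_of_mul_eq_mul_left (List.count_pos_iff.2 hs) hse
  refine ⟨V.rep i0, ho, hsq, ?_, by rw [hPx, ← heN, he]⟩
  rw [hPx]
  haveI : IsCyclic (P : Subgroup G) := isCyclic_of_prime_card (hP P)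
  refine (Subgroup.eq_of_le_of_card_ge (le_centralizer (G := G) (P : Subgroup G)) ?_).symm
  rw [hCc, hP P]

/-- The products of the divisors of three prime powers. -/
def smooth (a b c : ℕ) : List ℕ :=
  (List.range (a + 1)).flatMap fun i => (List.range (b + 1)).flatMap fun j =>
    (List.range (c + 1)).map fun k => 2 ^ i * 3 ^ j * 7 ^ k

theorem mem_smooth {a b c d : ℕ} (h : d ∣ 2 ^ a * 3 ^ b * 7 ^ c) : d ∈ smooth a b c := by
  obtain ⟨d12, d3, h12, h3, rfl⟩ := exists_dvd_and_dvd_of_dvd_mul h
  obtain ⟨d1, d2, h1, h2, rfl⟩ := exists_dvd_and_dvd_of_dvd_mul h12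
  obtain ⟨i, hi, rfl⟩ := (Nat.dvd_prime_pow Nat.prime_two).1 h1
  obtain ⟨j, hj, rfl⟩ := (Nat.dvd_prime_pow Nat.prime_three).1 h2
  obtain ⟨k, hk, rfl⟩ := (Nat.dvd_prime_pow (by norm_num : Nat.Prime 7)).1 h3
  simp only [smooth, List.mem_flatMap, List.mem_range, List.mem_map]
  exact ⟨i, by omega, j, by omega, k, by omega, rfl⟩

/-- The check for the identity of the dihedral normaliser. -/
def dihCheck (p L k : ℕ) (D cs : List ℕ) : Bool :=
  D.all fun d => D.all fun f =>
    !((d % p == 1 && f == d + 1) || ((d + 1) % p == 0 && f + 1 == d)) || Nat.ble f 1 ||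
      Nat.ble d 1 || cs.all fun x => !(x % 2 ^ k == 0) ||
        (List.range (2 * d + 1)).all fun z => !(x ^ 2 * p * d * f == L * z ^ 2)

/-- The identity of the dihedral normaliser has no solution. -/
theorem dihedral_kill (hG : ¬ IsMulCommutative G) (V : Vec G n) {cs : List ℕ} (h : V.cs = cs)
    {p a b c k : ℕ} (hp : p.Prime) (hp5 : 5 ≤ p) (hcount : 2 * cs.count p = p - 1) (hk : 0 < k)
    (hL : Nat.card G = 2 ^ a * 3 ^ b * 7 ^ c * 5) (h2 : 2 ^ k ∣ Nat.card G)
    (hp' : p = 5) (hchk : dihCheck p (2 ^ a * 3 ^ b * 7 ^ c * 5) k (smooth a b c) cs = true) :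
    False := by
  subst hp'
  haveI : Fact (Nat.Prime 5) := ⟨hp⟩
  haveI := Fintype.ofFinite G
  obtain ⟨u, hu, hsq, hC, hN⟩ := dihedral_normalizer hG V hp hp5 (h.symm ▸ hcount)
  obtain ⟨d, f, a', ε, ha, hε, hmod, heq, hd, hf, hdL, hfL, hpd, hpf, ht⟩ :=
    CfsgLib.Small.dihedral_data hG u hu hsq hC hN hp5
  obtain ⟨z, hz, hzc⟩ := exists_central (G := G) Nat.prime_two
    (dvd_trans (dvd_pow_self 2 hk.ne') h2)
  have hz1 : z ≠ 1 := by rintro rfl; rw [orderOf_one] at hz; exact absurd hz (by norm_num)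
  obtain ⟨w, -, hw2, heq2⟩ := ht z hz
  have hN0 : 2 ^ a * 3 ^ b * 7 ^ c ≠ 0 := by positivity
  have hcand := CfsgLib.Small.mem_dihedral_candidates (p := 5) hN0 ha hε hmod heq hd hf
    (hL ▸ hdL) (hL ▸ hfL) hpd hpf
  simp only [Finset.mem_filter, Finset.mem_product, Nat.mem_divisors] at hcand
  obtain ⟨⟨⟨hdN, -⟩, hfN, -⟩, -, -, hpair⟩ := hcand
  simp only [dihCheck, List.all_eq_true] at hchk
  have h' := hchk d (mem_smooth hdN) f (mem_smooth hfN)
  simp only [Bool.or_eq_true, Bool.not_eq_true', Bool.or_eq_false_iff, Bool.and_eq_false_iff,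
    beq_eq_false_iff_ne, Nat.ble_eq, List.all_eq_true] at h'
  rcases h' with ((⟨h1, h2'⟩ | h') | h') | h'
  · rcases hpair with ⟨e1, e2⟩ | ⟨e1, e2⟩
    · rcases h1 with h1 | h1 <;> contradiction
    · rcases h2' with h1 | h1 <;> contradiction
  · omega
  · omega
  · rcases h' (cord z) (cord_mem V h hz1) with h3 | h3
    · exact h3 (Nat.mod_eq_zero_of_dvd (hzc k h2))
    · exact h3 w (List.mem_range.2 (by omega)) (by rw [cord, ← hL]; exact heq2)

theorem ne272160a (hG : ¬ IsMulCommutative G) (V : Vec G n) :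
    V.cs ≠ [5, 5, 6, 7, 7, 7, 432, 486, 2592] := fun h => by
  have hc := card_eq V h (L := 272160) (by decide +kernel)
  exact dihedral_kill hG V h (a := 5) (b := 5) (c := 1) (k := 5) (by norm_num : Nat.Prime 5) le_rfl
    (by decide) (by norm_num) (by rw [hc]; norm_num) (by rw [hc]; norm_num) rfl (by decide +kernel)

theorem ne272160b (hG : ¬ IsMulCommutative G) (V : Vec G n) :
    V.cs ≠ [5, 5, 6, 7, 7, 7, 486, 648, 864] := fun h => by
  have hc := card_eq V h (L := 272160) (by decide +kernel)
  exact dihedral_kill hG V h (a := 5) (b := 5) (c := 1) (k := 5) (by norm_num : Nat.Prime 5) le_rfl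
    (by decide) (by norm_num) (by rw [hc]; norm_num) (by rw [hc]; norm_num) rfl (by decide +kernel)

theorem ne725760 (hG : ¬ IsMulCommutative G) (V : Vec G n) :
    V.cs ≠ [5, 5, 6, 7, 7, 8, 54, 256, 5184] := fun h => by
  have hc := card_eq V h (L := 725760) (by decide +kernel)
  exact dihedral_kill hG V h (a := 8) (b := 4) (c := 1) (k := 8) (by norm_num : Nat.Prime 5) le_rfl
    (by decide) (by norm_num) (by rw [hc]; norm_num) (by rw [hc]; norm_num) rfl (by decide +kernel)

theorem ne92160 (hG : ¬ IsMulCommutative G) (V : Vec G n) :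
    V.cs ≠ [5, 5, 6, 8, 8, 8, 18, 384, 6144] := fun h => by
  have hc := card_eq V h (L := 92160) (by decide +kernel)
  exact dihedral_kill hG V h (a := 11) (b := 2) (c := 0) (k := 11) (by norm_num : Nat.Prime 5) le_rfl
    (by decide) (by norm_num) (by rw [hc]; norm_num) (by rw [hc]; norm_num) rfl (by decide +kernel)

theorem ne466560 (hG : ¬ IsMulCommutative G) (V : Vec G n) :
    V.cs ≠ [5, 5, 6, 8, 8, 8, 18, 384, 5832] := fun h => by
  have hc := card_eq V h (L := 466560) (by decide +kernel)
  exact dihedral_kill hG V h (a := 7) (b := 6) (c := 0) (k := 7) (by norm_num : Nat.Prime 5) le_rfl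
    (by decide) (by norm_num) (by rw [hc]; norm_num) (by rw [hc]; norm_num) rfl (by decide +kernel)

omit [IsSimpleGroup G] in
theorem ne34560 (V : Vec G n) : V.cs ≠ [5, 5, 6, 8, 8, 8, 18, 432, 2304] := fun h => by
  have hc := card_eq V h (L := 34560) (by decide +kernel)
  exact six_kill V h (by rw [hc]; norm_num) (by rw [hc]; norm_num) (by decide) (by decide)

omit [IsSimpleGroup G] in
theorem ne174960 (V : Vec G n) : V.cs ≠ [5, 5, 6, 8, 8, 8, 18, 432, 2187] := fun h => by
  have hc := card_eq V h (L := 174960) (by decide +kernel)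
  exact six_kill V h (by rw [hc]; norm_num) (by rw [hc]; norm_num) (by decide) (by decide)

omit [IsSimpleGroup G] in
theorem ne77760a (V : Vec G n) : V.cs ≠ [5, 5, 6, 8, 8, 8, 18, 576, 972] := fun h => by
  have hc := card_eq V h (L := 77760) (by decide +kernel)
  exact six_kill V h (by rw [hc]; norm_num) (by rw [hc]; norm_num) (by decide) (by decide)

omit [IsSimpleGroup G] in
theorem ne77760b (V : Vec G n) : V.cs ≠ [5, 5, 6, 8, 8, 9, 18, 64, 972] := fun h => by
  have hc := card_eq V h (L := 77760) (by decide +kernel)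
  exact six_kill V h (by rw [hc]; norm_num) (by rw [hc]; norm_num) (by decide) (by decide)

end CfsgLib.Spor.TenClasses.Big
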