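import Cfsg.Agent.Lib.Spor.TenClasses.Dfs
import Cfsg.Agent.Lib.Spor.TenClasses.CertA
import Cfsg.Agent.Lib.Spor.TenClasses.CertB
import Cfsg.Agent.Lib.Spor.TenClasses.CertC
import Cfsg.Agent.Lib.Spor.TenClasses.CertD
import Cfsg.Agent.Lib.Spor.TenClasses.CertE
import Cfsg.Agent.Lib.Spor.TenClasses.CertF
import Cfsg.Agent.Lib.Spor.TenClasses.CertG
import Cfsg.Agent.Lib.Spor.TenClasses.CertH
import Cfsg.Agent.Lib.Spor.TenClasses.CertI
import Cfsg.Agent.Lib.Spor.TenClasses.CertJ
import Cfsg.Agent.Lib.Spor.TenClasses.CertK
import Cfsg.Agent.Lib.Spor.TenClasses.CertL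
import Cfsg.Agent.Lib.Spor.TenClasses.CertM
import Cfsg.Agent.Lib.Spor.TenClasses.CertN
import Cfsg.Agent.Lib.Spor.TenClasses.CertO
import Cfsg.Agent.Lib.Spor.TenClasses.CertP
import Cfsg.Agent.Lib.Spor.TenClasses.CertQ
import Cfsg.Agent.Lib.Spor.TenClasses.CertR
import Cfsg.Agent.Lib.Spor.TenClasses.CertS
import Cfsg.Agent.Lib.Spor.TenClasses.CertT

/-!
# The complete search over nine centraliser orders
-/

set_option autoImplicit false
set_option maxRecDepth 100000

namespace CfsgLib.Spor.TenClasses

/-- The test of one child in the search above the last but one level. -/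
def Kid (r : ℕ) (pre : List ℕ) (N M : ℕ) (D : List ℕ) (x : ℕ) : Prop :=
  (prune pre x || dfs (r + 1) (x :: pre) (N * (x / Nat.gcd x M) - M * (x / Nat.gcd x M) / x)
    (M * (x / Nat.gcd x M)) (moreDivs D (x / Nat.gcd x M))) = true

theorem node_of_kids {r : ℕ} {pre : List ℕ} {N M : ℕ} {D : List ℕ} (lo w : ℕ)
    (hlo : max (pre.headD 5) (M / N + 1) = lo) (hw : (r + 1 + 3) * M / N + 1 - lo = w)
    (h : ∀ x ∈ List.range' lo w, Kid r pre N M D x) : dfs (r + 1 + 1) pre N M D = true :=
  dfs_succ lo w hlo hw h

theorem kids_nil {r : ℕ} {pre : List ℕ} {N M : ℕ} {D : List ℕ} (lo : ℕ) :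
    ∀ x ∈ List.range' lo 0, Kid r pre N M D x := by simp

theorem kids_cons {r : ℕ} {pre : List ℕ} {N M : ℕ} {D : List ℕ} {lo w : ℕ} (lo' w' : ℕ)
    (e1 : Nat.beq (lo + 1) lo' = true) (e2 : Nat.beq (w' + 1) w = true) (h0 : Kid r pre N M D lo)
    (h : ∀ x ∈ List.range' lo' w', Kid r pre N M D x) :
    ∀ x ∈ List.range' lo w, Kid r pre N M D x := by
  intro x hx
  rw [← Nat.eq_of_beq_eq_true e2, List.range'_succ, Nat.eq_of_beq_eq_true e1,
    List.mem_cons] at hx
  rcases hx with rfl | hx
  · exact h0
  · exact h x hx

theorem kid_prune {r : ℕ} {pre : List ℕ} {N M : ℕ} {D : List ℕ} {x : ℕ} (h : prune pre x = true) :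
    Kid r pre N M D x := of_prune h

theorem kid_child {r : ℕ} {pre : List ℕ} {x N M N' M' : ℕ} {D D' : List ℕ}
    (h : dfs (r + 1) (x :: pre) N' M' D' = true) (hN : N' = N * (x / Nat.gcd x M) -
      M * (x / Nat.gcd x M) / x) (hM : M' = M * (x / Nat.gcd x M))
    (hD : D' = moreDivs D (x / Nat.gcd x M)) : Kid r pre N M D x := of_child h hN hM hD

theorem node115 : dfs 2 [12, 6, 6, 6, 5, 5] 1 60 [1, 5, 6, 30, 2, 10, 3, 15, 2, 10, 12, 60, 4, 20, 6, 30] = true := by
  refine node_of_kids 61 180 (by decide) (by decide) ?_
  refine kids_cons 62 179 rfl rfl (kid_prune (by decide +kernel)) ?_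
  refine kids_cons 63 178 rfl rfl (kid_child node1 (by decide +kernel) (by decide +kernel) (by decide +kernel)) ?_
  refine kids_cons 64 177 rfl rfl (kid_child node2 (by decide +kernel) (by decide +kernel) (by decide +kernel)) ?_
  refine kids_cons 65 176 rfl rfl (kid_child node3 (by decide +kernel) (by decide +kernel) (by decide +kernel)) ?_
  refine kids_cons 66 175 rfl rfl (kid_prune (by decide +kernel)) ?_
  refine kids_cons 67 174 rfl rfl (kid_child node4 (by decide +kernel) (by decide +kernel) (by decide +kernel)) ?_
  refine kids_cons 68 173 rfl rfl (kid_prune (by decide +kernel)) ?_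
  refine kids_cons 69 172 rfl rfl (kid_child node5 (by decide +kernel) (by decide +kernel) (by decide +kernel)) ?_
  refine kids_cons 70 171 rfl rfl (kid_child node6 (by decide +kernel) (by decide +kernel) (by decide +kernel)) ?_
  refine kids_cons 71 170 rfl rfl (kid_prune (by decide +kernel)) ?_
  refine kids_cons 72 169 rfl rfl (kid_prune (by decide +kernel)) ?_
  refine kids_cons 73 168 rfl rfl (kid_child node7 (by decide +kernel) (by decide +kernel) (by decide +kernel)) ?_
  refine kids_cons 74 167 rfl rfl (kid_prune (by decide +kernel)) ?_
  refine kids_cons 75 166 rfl rfl (kid_child node8 (by decide +kernel) (by decide +kernel) (by decide +kernel)) ?_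
  refine kids_cons 76 165 rfl rfl (kid_prune (by decide +kernel)) ?_
  refine kids_cons 77 164 rfl rfl (kid_child node9 (by decide +kernel) (by decide +kernel) (by decide +kernel)) ?_
  refine kids_cons 78 163 rfl rfl (kid_child node10 (by decide +kernel) (by decide +kernel) (by decide +kernel)) ?_
  refine kids_cons 79 162 rfl rfl (kid_child node11 (by decide +kernel) (by decide +kernel) (by decide +kernel)) ?_
  refine kids_cons 80 161 rfl rfl (kid_prune (by decide +kernel)) ?_
  refine kids_cons 81 160 rfl rfl (kid_prune (by decide +kernel)) ?_
  refine kids_cons 82 159 rfl rfl (kid_child node12 (by decide +kernel) (by decide +kernel) (by decide +kernel)) ?_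
  refine kids_cons 83 158 rfl rfl (kid_child node13 (by decide +kernel) (by decide +kernel) (by decide +kernel)) ?_
  refine kids_cons 84 157 rfl rfl (kid_child node14 (by decide +kernel) (by decide +kernel) (by decide +kernel)) ?_
  refine kids_cons 85 156 rfl rfl (kid_child node15 (by decide +kernel) (by decide +kernel) (by decide +kernel)) ?_
  refine kids_cons 86 155 rfl rfl (kid_prune (by decide +kernel)) ?_
  refine kids_cons 87 154 rfl rfl (kid_child node16 (by decide +kernel) (by decide +kernel) (by decide +kernel)) ?_
  refine kids_cons 88 153 rfl rfl (kid_child node17 (by decide +kernel) (by decide +kernel) (by decide +kernel)) ?_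
  refine kids_cons 89 152 rfl rfl (kid_child node18 (by decide +kernel) (by decide +kernel) (by decide +kernel)) ?_
  refine kids_cons 90 151 rfl rfl (kid_prune (by decide +kernel)) ?_
  refine kids_cons 91 150 rfl rfl (kid_prune (by decide +kernel)) ?_
  refine kids_cons 92 149 rfl rfl (kid_child node19 (by decide +kernel) (by decide +kernel) (by decide +kernel)) ?_
  refine kids_cons 93 148 rfl rfl (kid_child node20 (by decide +kernel) (by decide +kernel) (by decide +kernel)) ?_
  refine kids_cons 94 147 rfl rfl (kid_child node21 (by decide +kernel) (by decide +kernel) (by decide +kernel)) ?_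
  refine kids_cons 95 146 rfl rfl (kid_child node22 (by decide +kernel) (by decide +kernel) (by decide +kernel)) ?_
  refine kids_cons 96 145 rfl rfl (kid_prune (by decide +kernel)) ?_
  refine kids_cons 97 144 rfl rfl (kid_child node23 (by decide +kernel) (by decide +kernel) (by decide +kernel)) ?_
  refine kids_cons 98 143 rfl rfl (kid_prune (by decide +kernel)) ?_
  refine kids_cons 99 142 rfl rfl (kid_child node24 (by decide +kernel) (by decide +kernel) (by decide +kernel)) ?_
  refine kids_cons 100 141 rfl rfl (kid_child node25 (by decide +kernel) (by decide +kernel) (by decide +kernel)) ?_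
  refine kids_cons 101 140 rfl rfl (kid_prune (by decide +kernel)) ?_
  refine kids_cons 102 139 rfl rfl (kid_prune (by decide +kernel)) ?_
  refine kids_cons 103 138 rfl rfl (kid_child node26 (by decide +kernel) (by decide +kernel) (by decide +kernel)) ?_
  refine kids_cons 104 137 rfl rfl (kid_prune (by decide +kernel)) ?_
  refine kids_cons 105 136 rfl rfl (kid_child node27 (by decide +kernel) (by decide +kernel) (by decide +kernel)) ?_
  refine kids_cons 106 135 rfl rfl (kid_prune (by decide +kernel)) ?_
  refine kids_cons 107 134 rfl rfl (kid_child node28 (by decide +kernel) (by decide +kernel) (by decide +kernel)) ?_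
  refine kids_cons 108 133 rfl rfl (kid_child node29 (by decide +kernel) (by decide +kernel) (by decide +kernel)) ?_
  refine kids_cons 109 132 rfl rfl (kid_child node30 (by decide +kernel) (by decide +kernel) (by decide +kernel)) ?_
  refine kids_cons 110 131 rfl rfl (kid_prune (by decide +kernel)) ?_
  refine kids_cons 111 130 rfl rfl (kid_prune (by decide +kernel)) ?_
  refine kids_cons 112 129 rfl rfl (kid_child node31 (by decide +kernel) (by decide +kernel) (by decide +kernel)) ?_
  refine kids_cons 113 128 rfl rfl (kid_child node32 (by decide +kernel) (by decide +kernel) (by decide +kernel)) ?_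
  refine kids_cons 114 127 rfl rfl (kid_prune (by decide +kernel)) ?_
  refine kids_cons 115 126 rfl rfl (kid_child node33 (by decide +kernel) (by decide +kernel) (by decide +kernel)) ?_
  refine kids_cons 116 125 rfl rfl (kid_prune (by decide +kernel)) ?_
  refine kids_cons 117 124 rfl rfl (kid_child node34 (by decide +kernel) (by decide +kernel) (by decide +kernel)) ?_
  refine kids_cons 118 123 rfl rfl (kid_child node35 (by decide +kernel) (by decide +kernel) (by decide +kernel)) ?_
  refine kids_cons 119 122 rfl rfl (kid_child node36 (by decide +kernel) (by decide +kernel) (by decide +kernel)) ?_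
  refine kids_cons 120 121 rfl rfl (kid_child node37 (by decide +kernel) (by decide +kernel) (by decide +kernel)) ?_
  refine kids_cons 121 120 rfl rfl (kid_prune (by decide +kernel)) ?_
  refine kids_cons 122 119 rfl rfl (kid_child node38 (by decide +kernel) (by decide +kernel) (by decide +kernel)) ?_
  refine kids_cons 123 118 rfl rfl (kid_child node39 (by decide +kernel) (by decide +kernel) (by decide +kernel)) ?_
  refine kids_cons 124 117 rfl rfl (kid_child node40 (by decide +kernel) (by decide +kernel) (by decide +kernel)) ?_
  refine kids_cons 125 116 rfl rfl (kid_child node41 (by decide +kernel) (by decide +kernel) (by decide +kernel)) ?_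
  refine kids_cons 126 115 rfl rfl (kid_prune (by decide +kernel)) ?_
  refine kids_cons 127 114 rfl rfl (kid_child node42 (by decide +kernel) (by decide +kernel) (by decide +kernel)) ?_
  refine kids_cons 128 113 rfl rfl (kid_prune (by decide +kernel)) ?_
  refine kids_cons 129 112 rfl rfl (kid_child node43 (by decide +kernel) (by decide +kernel) (by decide +kernel)) ?_
  refine kids_cons 130 111 rfl rfl (kid_child node44 (by decide +kernel) (by decide +kernel) (by decide +kernel)) ?_
  refine kids_cons 131 110 rfl rfl (kid_prune (by decide +kernel)) ?_
  refine kids_cons 132 109 rfl rfl (kid_prune (by decide +kernel)) ?_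
  refine kids_cons 133 108 rfl rfl (kid_child node45 (by decide +kernel) (by decide +kernel) (by decide +kernel)) ?_
  refine kids_cons 134 107 rfl rfl (kid_child node46 (by decide +kernel) (by decide +kernel) (by decide +kernel)) ?_
  refine kids_cons 135 106 rfl rfl (kid_child node47 (by decide +kernel) (by decide +kernel) (by decide +kernel)) ?_
  refine kids_cons 136 105 rfl rfl (kid_prune (by decide +kernel)) ?_
  refine kids_cons 137 104 rfl rfl (kid_child node48 (by decide +kernel) (by decide +kernel) (by decide +kernel)) ?_
  refine kids_cons 138 103 rfl rfl (kid_prune (by decide +kernel)) ?_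
  refine kids_cons 139 102 rfl rfl (kid_child node49 (by decide +kernel) (by decide +kernel) (by decide +kernel)) ?_
  refine kids_cons 140 101 rfl rfl (kid_prune (by decide +kernel)) ?_
  refine kids_cons 141 100 rfl rfl (kid_prune (by decide +kernel)) ?_
  refine kids_cons 142 99 rfl rfl (kid_child node50 (by decide +kernel) (by decide +kernel) (by decide +kernel)) ?_
  refine kids_cons 143 98 rfl rfl (kid_child node51 (by decide +kernel) (by decide +kernel) (by decide +kernel)) ?_
  refine kids_cons 144 97 rfl rfl (kid_child node52 (by decide +kernel) (by decide +kernel) (by decide +kernel)) ?_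
  refine kids_cons 145 96 rfl rfl (kid_child node53 (by decide +kernel) (by decide +kernel) (by decide +kernel)) ?_
  refine kids_cons 146 95 rfl rfl (kid_prune (by decide +kernel)) ?_
  refine kids_cons 147 94 rfl rfl (kid_child node54 (by decide +kernel) (by decide +kernel) (by decide +kernel)) ?_
  refine kids_cons 148 93 rfl rfl (kid_child node55 (by decide +kernel) (by decide +kernel) (by decide +kernel)) ?_
  refine kids_cons 149 92 rfl rfl (kid_child node56 (by decide +kernel) (by decide +kernel) (by decide +kernel)) ?_
  refine kids_cons 150 91 rfl rfl (kid_prune (by decide +kernel)) ?_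
  refine kids_cons 151 90 rfl rfl (kid_prune (by decide +kernel)) ?_
  refine kids_cons 152 89 rfl rfl (kid_prune (by decide +kernel)) ?_
  refine kids_cons 153 88 rfl rfl (kid_child node57 (by decide +kernel) (by decide +kernel) (by decide +kernel)) ?_
  refine kids_cons 154 87 rfl rfl (kid_child node58 (by decide +kernel) (by decide +kernel) (by decide +kernel)) ?_
  refine kids_cons 155 86 rfl rfl (kid_child node59 (by decide +kernel) (by decide +kernel) (by decide +kernel)) ?_
  refine kids_cons 156 85 rfl rfl (kid_prune (by decide +kernel)) ?_
  refine kids_cons 157 84 rfl rfl (kid_child node60 (by decide +kernel) (by decide +kernel) (by decide +kernel)) ?_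
  refine kids_cons 158 83 rfl rfl (kid_prune (by decide +kernel)) ?_
  refine kids_cons 159 82 rfl rfl (kid_child node61 (by decide +kernel) (by decide +kernel) (by decide +kernel)) ?_
  refine kids_cons 160 81 rfl rfl (kid_child node62 (by decide +kernel) (by decide +kernel) (by decide +kernel)) ?_
  refine kids_cons 161 80 rfl rfl (kid_prune (by decide +kernel)) ?_
  refine kids_cons 162 79 rfl rfl (kid_child node63 (by decide +kernel) (by decide +kernel) (by decide +kernel)) ?_
  refine kids_cons 163 78 rfl rfl (kid_child node64 (by decide +kernel) (by decide +kernel) (by decide +kernel)) ?_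
  refine kids_cons 164 77 rfl rfl (kid_prune (by decide +kernel)) ?_
  refine kids_cons 165 76 rfl rfl (kid_child node65 (by decide +kernel) (by decide +kernel) (by decide +kernel)) ?_
  refine kids_cons 166 75 rfl rfl (kid_prune (by decide +kernel)) ?_
  refine kids_cons 167 74 rfl rfl (kid_child node66 (by decide +kernel) (by decide +kernel) (by decide +kernel)) ?_
  refine kids_cons 168 73 rfl rfl (kid_child node67 (by decide +kernel) (by decide +kernel) (by decide +kernel)) ?_
  refine kids_cons 169 72 rfl rfl (kid_child node68 (by decide +kernel) (by decide +kernel) (by decide +kernel)) ?_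
  refine kids_cons 170 71 rfl rfl (kid_child node69 (by decide +kernel) (by decide +kernel) (by decide +kernel)) ?_
  refine kids_cons 171 70 rfl rfl (kid_prune (by decide +kernel)) ?_
  refine kids_cons 172 69 rfl rfl (kid_child node70 (by decide +kernel) (by decide +kernel) (by decide +kernel)) ?_
  refine kids_cons 173 68 rfl rfl (kid_child node71 (by decide +kernel) (by decide +kernel) (by decide +kernel)) ?_
  refine kids_cons 174 67 rfl rfl (kid_prune (by decide +kernel)) ?_
  refine kids_cons 175 66 rfl rfl (kid_child node72 (by decide +kernel) (by decide +kernel) (by decide +kernel)) ?_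
  refine kids_cons 176 65 rfl rfl (kid_prune (by decide +kernel)) ?_
  refine kids_cons 177 64 rfl rfl (kid_child node73 (by decide +kernel) (by decide +kernel) (by decide +kernel)) ?_
  refine kids_cons 178 63 rfl rfl (kid_child node74 (by decide +kernel) (by decide +kernel) (by decide +kernel)) ?_
  refine kids_cons 179 62 rfl rfl (kid_child node75 (by decide +kernel) (by decide +kernel) (by decide +kernel)) ?_
  refine kids_cons 180 61 rfl rfl (kid_child node76 (by decide +kernel) (by decide +kernel) (by decide +kernel)) ?_
  refine kids_cons 181 60 rfl rfl (kid_prune (by decide +kernel)) ?_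
  refine kids_cons 182 59 rfl rfl (kid_prune (by decide +kernel)) ?_
  refine kids_cons 183 58 rfl rfl (kid_child node77 (by decide +kernel) (by decide +kernel) (by decide +kernel)) ?_
  refine kids_cons 184 57 rfl rfl (kid_child node78 (by decide +kernel) (by decide +kernel) (by decide +kernel)) ?_
  refine kids_cons 185 56 rfl rfl (kid_child node79 (by decide +kernel) (by decide +kernel) (by decide +kernel)) ?_
  refine kids_cons 186 55 rfl rfl (kid_prune (by decide +kernel)) ?_
  refine kids_cons 187 54 rfl rfl (kid_child node80 (by decide +kernel) (by decide +kernel) (by decide +kernel)) ?_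
  refine kids_cons 188 53 rfl rfl (kid_child node81 (by decide +kernel) (by decide +kernel) (by decide +kernel)) ?_
  refine kids_cons 189 52 rfl rfl (kid_child node82 (by decide +kernel) (by decide +kernel) (by decide +kernel)) ?_
  refine kids_cons 190 51 rfl rfl (kid_child node83 (by decide +kernel) (by decide +kernel) (by decide +kernel)) ?_
  refine kids_cons 191 50 rfl rfl (kid_prune (by decide +kernel)) ?_
  refine kids_cons 192 49 rfl rfl (kid_prune (by decide +kernel)) ?_
  refine kids_cons 193 48 rfl rfl (kid_child node84 (by decide +kernel) (by decide +kernel) (by decide +kernel)) ?_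
  refine kids_cons 194 47 rfl rfl (kid_prune (by decide +kernel)) ?_
  refine kids_cons 195 46 rfl rfl (kid_child node85 (by decide +kernel) (by decide +kernel) (by decide +kernel)) ?_
  refine kids_cons 196 45 rfl rfl (kid_prune (by decide +kernel)) ?_
  refine kids_cons 197 44 rfl rfl (kid_child node86 (by decide +kernel) (by decide +kernel) (by decide +kernel)) ?_
  refine kids_cons 198 43 rfl rfl (kid_prune (by decide +kernel)) ?_
  refine kids_cons 199 42 rfl rfl (kid_child node87 (by decide +kernel) (by decide +kernel) (by decide +kernel)) ?_
  refine kids_cons 200 41 rfl rfl (kid_prune (by decide +kernel)) ?_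
  refine kids_cons 201 40 rfl rfl (kid_prune (by decide +kernel)) ?_
  refine kids_cons 202 39 rfl rfl (kid_child node88 (by decide +kernel) (by decide +kernel) (by decide +kernel)) ?_
  refine kids_cons 203 38 rfl rfl (kid_child node89 (by decide +kernel) (by decide +kernel) (by decide +kernel)) ?_
  refine kids_cons 204 37 rfl rfl (kid_child node90 (by decide +kernel) (by decide +kernel) (by decide +kernel)) ?_
  refine kids_cons 205 36 rfl rfl (kid_child node91 (by decide +kernel) (by decide +kernel) (by decide +kernel)) ?_
  refine kids_cons 206 35 rfl rfl (kid_prune (by decide +kernel)) ?_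
  refine kids_cons 207 34 rfl rfl (kid_child node92 (by decide +kernel) (by decide +kernel) (by decide +kernel)) ?_
  refine kids_cons 208 33 rfl rfl (kid_child node93 (by decide +kernel) (by decide +kernel) (by decide +kernel)) ?_
  refine kids_cons 209 32 rfl rfl (kid_child node94 (by decide +kernel) (by decide +kernel) (by decide +kernel)) ?_
  refine kids_cons 210 31 rfl rfl (kid_child node95 (by decide +kernel) (by decide +kernel) (by decide +kernel)) ?_
  refine kids_cons 211 30 rfl rfl (kid_prune (by decide +kernel)) ?_
  refine kids_cons 212 29 rfl rfl (kid_prune (by decide +kernel)) ?_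
  refine kids_cons 213 28 rfl rfl (kid_child node96 (by decide +kernel) (by decide +kernel) (by decide +kernel)) ?_
  refine kids_cons 214 27 rfl rfl (kid_child node97 (by decide +kernel) (by decide +kernel) (by decide +kernel)) ?_
  refine kids_cons 215 26 rfl rfl (kid_child node98 (by decide +kernel) (by decide +kernel) (by decide +kernel)) ?_
  refine kids_cons 216 25 rfl rfl (kid_prune (by decide +kernel)) ?_
  refine kids_cons 217 24 rfl rfl (kid_child node99 (by decide +kernel) (by decide +kernel) (by decide +kernel)) ?_
  refine kids_cons 218 23 rfl rfl (kid_child node100 (by decide +kernel) (by decide +kernel) (by decide +kernel)) ?_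
  refine kids_cons 219 22 rfl rfl (kid_child node101 (by decide +kernel) (by decide +kernel) (by decide +kernel)) ?_
  refine kids_cons 220 21 rfl rfl (kid_child node102 (by decide +kernel) (by decide +kernel) (by decide +kernel)) ?_
  refine kids_cons 221 20 rfl rfl (kid_prune (by decide +kernel)) ?_
  refine kids_cons 222 19 rfl rfl (kid_child node103 (by decide +kernel) (by decide +kernel) (by decide +kernel)) ?_
  refine kids_cons 223 18 rfl rfl (kid_child node104 (by decide +kernel) (by decide +kernel) (by decide +kernel)) ?_
  refine kids_cons 224 17 rfl rfl (kid_prune (by decide +kernel)) ?_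
  refine kids_cons 225 16 rfl rfl (kid_child node105 (by decide +kernel) (by decide +kernel) (by decide +kernel)) ?_
  refine kids_cons 226 15 rfl rfl (kid_prune (by decide +kernel)) ?_
  refine kids_cons 227 14 rfl rfl (kid_child node106 (by decide +kernel) (by decide +kernel) (by decide +kernel)) ?_
  refine kids_cons 228 13 rfl rfl (kid_child node107 (by decide +kernel) (by decide +kernel) (by decide +kernel)) ?_
  refine kids_cons 229 12 rfl rfl (kid_child node108 (by decide +kernel) (by decide +kernel) (by decide +kernel)) ?_
  refine kids_cons 230 11 rfl rfl (kid_prune (by decide +kernel)) ?_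
  refine kids_cons 231 10 rfl rfl (kid_prune (by decide +kernel)) ?_
  refine kids_cons 232 9 rfl rfl (kid_child node109 (by decide +kernel) (by decide +kernel) (by decide +kernel)) ?_
  refine kids_cons 233 8 rfl rfl (kid_child node110 (by decide +kernel) (by decide +kernel) (by decide +kernel)) ?_
  refine kids_cons 234 7 rfl rfl (kid_prune (by decide +kernel)) ?_
  refine kids_cons 235 6 rfl rfl (kid_child node111 (by decide +kernel) (by decide +kernel) (by decide +kernel)) ?_
  refine kids_cons 236 5 rfl rfl (kid_prune (by decide +kernel)) ?_
  refine kids_cons 237 4 rfl rfl (kid_child node112 (by decide +kernel) (by decide +kernel) (by decide +kernel)) ?_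
  refine kids_cons 238 3 rfl rfl (kid_child node113 (by decide +kernel) (by decide +kernel) (by decide +kernel)) ?_
  refine kids_cons 239 2 rfl rfl (kid_child node114 (by decide +kernel) (by decide +kernel) (by decide +kernel)) ?_
  refine kids_cons 240 1 rfl rfl (kid_prune (by decide +kernel)) ?_
  refine kids_cons 241 0 rfl rfl (kid_prune (by decide +kernel)) ?_
  exact kids_nil 241

theorem node182 : dfs 2 [14, 6, 6, 6, 5, 5] 6 210 [1, 5, 6, 30, 2, 10, 3, 15, 7, 35, 42, 210, 14, 70, 21, 105] = true := by
  refine node_of_kids 36 105 (by decide) (by decide) ?_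
  refine kids_cons 37 104 rfl rfl (kid_child node117 (by decide +kernel) (by decide +kernel) (by decide +kernel)) ?_
  refine kids_cons 38 103 rfl rfl (kid_prune (by decide +kernel)) ?_
  refine kids_cons 39 102 rfl rfl (kid_child node118 (by decide +kernel) (by decide +kernel) (by decide +kernel)) ?_
  refine kids_cons 40 101 rfl rfl (kid_child node119 (by decide +kernel) (by decide +kernel) (by decide +kernel)) ?_
  refine kids_cons 41 100 rfl rfl (kid_prune (by decide +kernel)) ?_
  refine kids_cons 42 99 rfl rfl (kid_prune (by decide +kernel)) ?_
  refine kids_cons 43 98 rfl rfl (kid_child node120 (by decide +kernel) (by decide +kernel) (by decide +kernel)) ?_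
  refine kids_cons 44 97 rfl rfl (kid_prune (by decide +kernel)) ?_
  refine kids_cons 45 96 rfl rfl (kid_child node121 (by decide +kernel) (by decide +kernel) (by decide +kernel)) ?_
  refine kids_cons 46 95 rfl rfl (kid_prune (by decide +kernel)) ?_
  refine kids_cons 47 94 rfl rfl (kid_child node122 (by decide +kernel) (by decide +kernel) (by decide +kernel)) ?_
  refine kids_cons 48 93 rfl rfl (kid_child node123 (by decide +kernel) (by decide +kernel) (by decide +kernel)) ?_
  refine kids_cons 49 92 rfl rfl (kid_child node124 (by decide +kernel) (by decide +kernel) (by decide +kernel)) ?_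
  refine kids_cons 50 91 rfl rfl (kid_child node125 (by decide +kernel) (by decide +kernel) (by decide +kernel)) ?_
  refine kids_cons 51 90 rfl rfl (kid_prune (by decide +kernel)) ?_
  refine kids_cons 52 89 rfl rfl (kid_child node126 (by decide +kernel) (by decide +kernel) (by decide +kernel)) ?_
  refine kids_cons 53 88 rfl rfl (kid_child node127 (by decide +kernel) (by decide +kernel) (by decide +kernel)) ?_
  refine kids_cons 54 87 rfl rfl (kid_prune (by decide +kernel)) ?_
  refine kids_cons 55 86 rfl rfl (kid_child node128 (by decide +kernel) (by decide +kernel) (by decide +kernel)) ?_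
  refine kids_cons 56 85 rfl rfl (kid_prune (by decide +kernel)) ?_
  refine kids_cons 57 84 rfl rfl (kid_child node129 (by decide +kernel) (by decide +kernel) (by decide +kernel)) ?_
  refine kids_cons 58 83 rfl rfl (kid_child node130 (by decide +kernel) (by decide +kernel) (by decide +kernel)) ?_
  refine kids_cons 59 82 rfl rfl (kid_child node131 (by decide +kernel) (by decide +kernel) (by decide +kernel)) ?_
  refine kids_cons 60 81 rfl rfl (kid_child node132 (by decide +kernel) (by decide +kernel) (by decide +kernel)) ?_
  refine kids_cons 61 80 rfl rfl (kid_prune (by decide +kernel)) ?_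
  refine kids_cons 62 79 rfl rfl (kid_prune (by decide +kernel)) ?_
  refine kids_cons 63 78 rfl rfl (kid_child node133 (by decide +kernel) (by decide +kernel) (by decide +kernel)) ?_
  refine kids_cons 64 77 rfl rfl (kid_child node134 (by decide +kernel) (by decide +kernel) (by decide +kernel)) ?_
  refine kids_cons 65 76 rfl rfl (kid_child node135 (by decide +kernel) (by decide +kernel) (by decide +kernel)) ?_
  refine kids_cons 66 75 rfl rfl (kid_prune (by decide +kernel)) ?_
  refine kids_cons 67 74 rfl rfl (kid_child node136 (by decide +kernel) (by decide +kernel) (by decide +kernel)) ?_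
  refine kids_cons 68 73 rfl rfl (kid_prune (by decide +kernel)) ?_
  refine kids_cons 69 72 rfl rfl (kid_child node137 (by decide +kernel) (by decide +kernel) (by decide +kernel)) ?_
  refine kids_cons 70 71 rfl rfl (kid_child node138 (by decide +kernel) (by decide +kernel) (by decide +kernel)) ?_
  refine kids_cons 71 70 rfl rfl (kid_prune (by decide +kernel)) ?_
  refine kids_cons 72 69 rfl rfl (kid_prune (by decide +kernel)) ?_
  refine kids_cons 73 68 rfl rfl (kid_child node139 (by decide +kernel) (by decide +kernel) (by decide +kernel)) ?_
  refine kids_cons 74 67 rfl rfl (kid_prune (by decide +kernel)) ?_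
  refine kids_cons 75 66 rfl rfl (kid_child node140 (by decide +kernel) (by decide +kernel) (by decide +kernel)) ?_
  refine kids_cons 76 65 rfl rfl (kid_prune (by decide +kernel)) ?_
  refine kids_cons 77 64 rfl rfl (kid_child node141 (by decide +kernel) (by decide +kernel) (by decide +kernel)) ?_
  refine kids_cons 78 63 rfl rfl (kid_child node142 (by decide +kernel) (by decide +kernel) (by decide +kernel)) ?_
  refine kids_cons 79 62 rfl rfl (kid_child node143 (by decide +kernel) (by decide +kernel) (by decide +kernel)) ?_
  refine kids_cons 80 61 rfl rfl (kid_prune (by decide +kernel)) ?_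
  refine kids_cons 81 60 rfl rfl (kid_prune (by decide +kernel)) ?_
  refine kids_cons 82 59 rfl rfl (kid_child node144 (by decide +kernel) (by decide +kernel) (by decide +kernel)) ?_
  refine kids_cons 83 58 rfl rfl (kid_child node145 (by decide +kernel) (by decide +kernel) (by decide +kernel)) ?_
  refine kids_cons 84 57 rfl rfl (kid_child node146 (by decide +kernel) (by decide +kernel) (by decide +kernel)) ?_
  refine kids_cons 85 56 rfl rfl (kid_child node147 (by decide +kernel) (by decide +kernel) (by decide +kernel)) ?_
  refine kids_cons 86 55 rfl rfl (kid_prune (by decide +kernel)) ?_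
  refine kids_cons 87 54 rfl rfl (kid_child node148 (by decide +kernel) (by decide +kernel) (by decide +kernel)) ?_
  refine kids_cons 88 53 rfl rfl (kid_child node149 (by decide +kernel) (by decide +kernel) (by decide +kernel)) ?_
  refine kids_cons 89 52 rfl rfl (kid_child node150 (by decide +kernel) (by decide +kernel) (by decide +kernel)) ?_
  refine kids_cons 90 51 rfl rfl (kid_prune (by decide +kernel)) ?_
  refine kids_cons 91 50 rfl rfl (kid_prune (by decide +kernel)) ?_
  refine kids_cons 92 49 rfl rfl (kid_child node151 (by decide +kernel) (by decide +kernel) (by decide +kernel)) ?_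
  refine kids_cons 93 48 rfl rfl (kid_child node152 (by decide +kernel) (by decide +kernel) (by decide +kernel)) ?_
  refine kids_cons 94 47 rfl rfl (kid_child node153 (by decide +kernel) (by decide +kernel) (by decide +kernel)) ?_
  refine kids_cons 95 46 rfl rfl (kid_child node154 (by decide +kernel) (by decide +kernel) (by decide +kernel)) ?_
  refine kids_cons 96 45 rfl rfl (kid_prune (by decide +kernel)) ?_
  refine kids_cons 97 44 rfl rfl (kid_child node155 (by decide +kernel) (by decide +kernel) (by decide +kernel)) ?_
  refine kids_cons 98 43 rfl rfl (kid_prune (by decide +kernel)) ?_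
  refine kids_cons 99 42 rfl rfl (kid_child node156 (by decide +kernel) (by decide +kernel) (by decide +kernel)) ?_
  refine kids_cons 100 41 rfl rfl (kid_child node157 (by decide +kernel) (by decide +kernel) (by decide +kernel)) ?_
  refine kids_cons 101 40 rfl rfl (kid_prune (by decide +kernel)) ?_
  refine kids_cons 102 39 rfl rfl (kid_prune (by decide +kernel)) ?_
  refine kids_cons 103 38 rfl rfl (kid_child node158 (by decide +kernel) (by decide +kernel) (by decide +kernel)) ?_
  refine kids_cons 104 37 rfl rfl (kid_prune (by decide +kernel)) ?_
  refine kids_cons 105 36 rfl rfl (kid_child node159 (by decide +kernel) (by decide +kernel) (by decide +kernel)) ?_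
  refine kids_cons 106 35 rfl rfl (kid_prune (by decide +kernel)) ?_
  refine kids_cons 107 34 rfl rfl (kid_child node160 (by decide +kernel) (by decide +kernel) (by decide +kernel)) ?_
  refine kids_cons 108 33 rfl rfl (kid_child node161 (by decide +kernel) (by decide +kernel) (by decide +kernel)) ?_
  refine kids_cons 109 32 rfl rfl (kid_child node162 (by decide +kernel) (by decide +kernel) (by decide +kernel)) ?_
  refine kids_cons 110 31 rfl rfl (kid_prune (by decide +kernel)) ?_
  refine kids_cons 111 30 rfl rfl (kid_prune (by decide +kernel)) ?_
  refine kids_cons 112 29 rfl rfl (kid_child node163 (by decide +kernel) (by decide +kernel) (by decide +kernel)) ?_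
  refine kids_cons 113 28 rfl rfl (kid_child node164 (by decide +kernel) (by decide +kernel) (by decide +kernel)) ?_
  refine kids_cons 114 27 rfl rfl (kid_prune (by decide +kernel)) ?_
  refine kids_cons 115 26 rfl rfl (kid_child node165 (by decide +kernel) (by decide +kernel) (by decide +kernel)) ?_
  refine kids_cons 116 25 rfl rfl (kid_prune (by decide +kernel)) ?_
  refine kids_cons 117 24 rfl rfl (kid_child node166 (by decide +kernel) (by decide +kernel) (by decide +kernel)) ?_
  refine kids_cons 118 23 rfl rfl (kid_child node167 (by decide +kernel) (by decide +kernel) (by decide +kernel)) ?_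
  refine kids_cons 119 22 rfl rfl (kid_child node168 (by decide +kernel) (by decide +kernel) (by decide +kernel)) ?_
  refine kids_cons 120 21 rfl rfl (kid_child node169 (by decide +kernel) (by decide +kernel) (by decide +kernel)) ?_
  refine kids_cons 121 20 rfl rfl (kid_prune (by decide +kernel)) ?_
  refine kids_cons 122 19 rfl rfl (kid_child node170 (by decide +kernel) (by decide +kernel) (by decide +kernel)) ?_
  refine kids_cons 123 18 rfl rfl (kid_child node171 (by decide +kernel) (by decide +kernel) (by decide +kernel)) ?_
  refine kids_cons 124 17 rfl rfl (kid_child node172 (by decide +kernel) (by decide +kernel) (by decide +kernel)) ?_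
  refine kids_cons 125 16 rfl rfl (kid_child node173 (by decide +kernel) (by decide +kernel) (by decide +kernel)) ?_
  refine kids_cons 126 15 rfl rfl (kid_prune (by decide +kernel)) ?_
  refine kids_cons 127 14 rfl rfl (kid_child node174 (by decide +kernel) (by decide +kernel) (by decide +kernel)) ?_
  refine kids_cons 128 13 rfl rfl (kid_prune (by decide +kernel)) ?_
  refine kids_cons 129 12 rfl rfl (kid_child node175 (by decide +kernel) (by decide +kernel) (by decide +kernel)) ?_
  refine kids_cons 130 11 rfl rfl (kid_child node176 (by decide +kernel) (by decide +kernel) (by decide +kernel)) ?_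
  refine kids_cons 131 10 rfl rfl (kid_prune (by decide +kernel)) ?_
  refine kids_cons 132 9 rfl rfl (kid_prune (by decide +kernel)) ?_
  refine kids_cons 133 8 rfl rfl (kid_child node177 (by decide +kernel) (by decide +kernel) (by decide +kernel)) ?_
  refine kids_cons 134 7 rfl rfl (kid_child node178 (by decide +kernel) (by decide +kernel) (by decide +kernel)) ?_
  refine kids_cons 135 6 rfl rfl (kid_child node179 (by decide +kernel) (by decide +kernel) (by decide +kernel)) ?_
  refine kids_cons 136 5 rfl rfl (kid_prune (by decide +kernel)) ?_
  refine kids_cons 137 4 rfl rfl (kid_child node180 (by decide +kernel) (by decide +kernel) (by decide +kernel)) ?_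
  refine kids_cons 138 3 rfl rfl (kid_prune (by decide +kernel)) ?_
  refine kids_cons 139 2 rfl rfl (kid_child node181 (by decide +kernel) (by decide +kernel) (by decide +kernel)) ?_
  refine kids_cons 140 1 rfl rfl (kid_prune (by decide +kernel)) ?_
  refine kids_cons 141 0 rfl rfl (kid_prune (by decide +kernel)) ?_
  exact kids_nil 141

theorem node232 : dfs 2 [16, 6, 6, 6, 5, 5] 9 240 [1, 5, 6, 30, 2, 10, 3, 15, 8, 40, 48, 240, 16, 80, 24, 120, 2, 10, 12, 60, 4, 20, 6, 30, 4, 20, 24, 120, 8, 40, 12, 60] = true := by
  refine node_of_kids 27 80 (by decide) (by decide) ?_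
  refine kids_cons 28 79 rfl rfl (kid_child node183 (by decide +kernel) (by decide +kernel) (by decide +kernel)) ?_
  refine kids_cons 29 78 rfl rfl (kid_child node184 (by decide +kernel) (by decide +kernel) (by decide +kernel)) ?_
  refine kids_cons 30 77 rfl rfl (kid_prune (by decide +kernel)) ?_
  refine kids_cons 31 76 rfl rfl (kid_prune (by decide +kernel)) ?_
  refine kids_cons 32 75 rfl rfl (kid_prune (by decide +kernel)) ?_
  refine kids_cons 33 74 rfl rfl (kid_child node185 (by decide +kernel) (by decide +kernel) (by decide +kernel)) ?_
  refine kids_cons 34 73 rfl rfl (kid_child node186 (by decide +kernel) (by decide +kernel) (by decide +kernel)) ?_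
  refine kids_cons 35 72 rfl rfl (kid_child node187 (by decide +kernel) (by decide +kernel) (by decide +kernel)) ?_
  refine kids_cons 36 71 rfl rfl (kid_prune (by decide +kernel)) ?_
  refine kids_cons 37 70 rfl rfl (kid_child node188 (by decide +kernel) (by decide +kernel) (by decide +kernel)) ?_
  refine kids_cons 38 69 rfl rfl (kid_prune (by decide +kernel)) ?_
  refine kids_cons 39 68 rfl rfl (kid_child node189 (by decide +kernel) (by decide +kernel) (by decide +kernel)) ?_
  refine kids_cons 40 67 rfl rfl (kid_child node190 (by decide +kernel) (by decide +kernel) (by decide +kernel)) ?_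
  refine kids_cons 41 66 rfl rfl (kid_prune (by decide +kernel)) ?_
  refine kids_cons 42 65 rfl rfl (kid_prune (by decide +kernel)) ?_
  refine kids_cons 43 64 rfl rfl (kid_child node191 (by decide +kernel) (by decide +kernel) (by decide +kernel)) ?_
  refine kids_cons 44 63 rfl rfl (kid_prune (by decide +kernel)) ?_
  refine kids_cons 45 62 rfl rfl (kid_child node192 (by decide +kernel) (by decide +kernel) (by decide +kernel)) ?_
  refine kids_cons 46 61 rfl rfl (kid_prune (by decide +kernel)) ?_
  refine kids_cons 47 60 rfl rfl (kid_child node193 (by decide +kernel) (by decide +kernel) (by decide +kernel)) ?_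
  refine kids_cons 48 59 rfl rfl (kid_child node194 (by decide +kernel) (by decide +kernel) (by decide +kernel)) ?_
  refine kids_cons 49 58 rfl rfl (kid_child node195 (by decide +kernel) (by decide +kernel) (by decide +kernel)) ?_
  refine kids_cons 50 57 rfl rfl (kid_child node196 (by decide +kernel) (by decide +kernel) (by decide +kernel)) ?_
  refine kids_cons 51 56 rfl rfl (kid_prune (by decide +kernel)) ?_
  refine kids_cons 52 55 rfl rfl (kid_child node197 (by decide +kernel) (by decide +kernel) (by decide +kernel)) ?_
  refine kids_cons 53 54 rfl rfl (kid_child node198 (by decide +kernel) (by decide +kernel) (by decide +kernel)) ?_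
  refine kids_cons 54 53 rfl rfl (kid_prune (by decide +kernel)) ?_
  refine kids_cons 55 52 rfl rfl (kid_child node199 (by decide +kernel) (by decide +kernel) (by decide +kernel)) ?_
  refine kids_cons 56 51 rfl rfl (kid_prune (by decide +kernel)) ?_
  refine kids_cons 57 50 rfl rfl (kid_child node200 (by decide +kernel) (by decide +kernel) (by decide +kernel)) ?_
  refine kids_cons 58 49 rfl rfl (kid_child node201 (by decide +kernel) (by decide +kernel) (by decide +kernel)) ?_
  refine kids_cons 59 48 rfl rfl (kid_child node202 (by decide +kernel) (by decide +kernel) (by decide +kernel)) ?_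
  refine kids_cons 60 47 rfl rfl (kid_child node203 (by decide +kernel) (by decide +kernel) (by decide +kernel)) ?_
  refine kids_cons 61 46 rfl rfl (kid_prune (by decide +kernel)) ?_
  refine kids_cons 62 45 rfl rfl (kid_prune (by decide +kernel)) ?_
  refine kids_cons 63 44 rfl rfl (kid_child node204 (by decide +kernel) (by decide +kernel) (by decide +kernel)) ?_
  refine kids_cons 64 43 rfl rfl (kid_child node205 (by decide +kernel) (by decide +kernel) (by decide +kernel)) ?_
  refine kids_cons 65 42 rfl rfl (kid_child node206 (by decide +kernel) (by decide +kernel) (by decide +kernel)) ?_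
  refine kids_cons 66 41 rfl rfl (kid_prune (by decide +kernel)) ?_
  refine kids_cons 67 40 rfl rfl (kid_child node207 (by decide +kernel) (by decide +kernel) (by decide +kernel)) ?_
  refine kids_cons 68 39 rfl rfl (kid_prune (by decide +kernel)) ?_
  refine kids_cons 69 38 rfl rfl (kid_child node208 (by decide +kernel) (by decide +kernel) (by decide +kernel)) ?_
  refine kids_cons 70 37 rfl rfl (kid_child node209 (by decide +kernel) (by decide +kernel) (by decide +kernel)) ?_
  refine kids_cons 71 36 rfl rfl (kid_prune (by decide +kernel)) ?_
  refine kids_cons 72 35 rfl rfl (kid_prune (by decide +kernel)) ?_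
  refine kids_cons 73 34 rfl rfl (kid_child node210 (by decide +kernel) (by decide +kernel) (by decide +kernel)) ?_
  refine kids_cons 74 33 rfl rfl (kid_prune (by decide +kernel)) ?_
  refine kids_cons 75 32 rfl rfl (kid_child node211 (by decide +kernel) (by decide +kernel) (by decide +kernel)) ?_
  refine kids_cons 76 31 rfl rfl (kid_prune (by decide +kernel)) ?_
  refine kids_cons 77 30 rfl rfl (kid_child node212 (by decide +kernel) (by decide +kernel) (by decide +kernel)) ?_
  refine kids_cons 78 29 rfl rfl (kid_child node213 (by decide +kernel) (by decide +kernel) (by decide +kernel)) ?_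
  refine kids_cons 79 28 rfl rfl (kid_child node214 (by decide +kernel) (by decide +kernel) (by decide +kernel)) ?_
  refine kids_cons 80 27 rfl rfl (kid_prune (by decide +kernel)) ?_
  refine kids_cons 81 26 rfl rfl (kid_prune (by decide +kernel)) ?_
  refine kids_cons 82 25 rfl rfl (kid_child node215 (by decide +kernel) (by decide +kernel) (by decide +kernel)) ?_
  refine kids_cons 83 24 rfl rfl (kid_child node216 (by decide +kernel) (by decide +kernel) (by decide +kernel)) ?_
  refine kids_cons 84 23 rfl rfl (kid_child node217 (by decide +kernel) (by decide +kernel) (by decide +kernel)) ?_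
  refine kids_cons 85 22 rfl rfl (kid_child node218 (by decide +kernel) (by decide +kernel) (by decide +kernel)) ?_
  refine kids_cons 86 21 rfl rfl (kid_prune (by decide +kernel)) ?_
  refine kids_cons 87 20 rfl rfl (kid_child node219 (by decide +kernel) (by decide +kernel) (by decide +kernel)) ?_
  refine kids_cons 88 19 rfl rfl (kid_child node220 (by decide +kernel) (by decide +kernel) (by decide +kernel)) ?_
  refine kids_cons 89 18 rfl rfl (kid_child node221 (by decide +kernel) (by decide +kernel) (by decide +kernel)) ?_
  refine kids_cons 90 17 rfl rfl (kid_prune (by decide +kernel)) ?_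
  refine kids_cons 91 16 rfl rfl (kid_prune (by decide +kernel)) ?_
  refine kids_cons 92 15 rfl rfl (kid_child node222 (by decide +kernel) (by decide +kernel) (by decide +kernel)) ?_
  refine kids_cons 93 14 rfl rfl (kid_child node223 (by decide +kernel) (by decide +kernel) (by decide +kernel)) ?_
  refine kids_cons 94 13 rfl rfl (kid_child node224 (by decide +kernel) (by decide +kernel) (by decide +kernel)) ?_
  refine kids_cons 95 12 rfl rfl (kid_child node225 (by decide +kernel) (by decide +kernel) (by decide +kernel)) ?_
  refine kids_cons 96 11 rfl rfl (kid_prune (by decide +kernel)) ?_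
  refine kids_cons 97 10 rfl rfl (kid_child node226 (by decide +kernel) (by decide +kernel) (by decide +kernel)) ?_
  refine kids_cons 98 9 rfl rfl (kid_prune (by decide +kernel)) ?_
  refine kids_cons 99 8 rfl rfl (kid_child node227 (by decide +kernel) (by decide +kernel) (by decide +kernel)) ?_
  refine kids_cons 100 7 rfl rfl (kid_child node228 (by decide +kernel) (by decide +kernel) (by decide +kernel)) ?_
  refine kids_cons 101 6 rfl rfl (kid_prune (by decide +kernel)) ?_
  refine kids_cons 102 5 rfl rfl (kid_prune (by decide +kernel)) ?_
  refine kids_cons 103 4 rfl rfl (kid_child node229 (by decide +kernel) (by decide +kernel) (by decide +kernel)) ?_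
  refine kids_cons 104 3 rfl rfl (kid_prune (by decide +kernel)) ?_
  refine kids_cons 105 2 rfl rfl (kid_child node230 (by decide +kernel) (by decide +kernel) (by decide +kernel)) ?_
  refine kids_cons 106 1 rfl rfl (kid_prune (by decide +kernel)) ?_
  refine kids_cons 107 0 rfl rfl (kid_child node231 (by decide +kernel) (by decide +kernel) (by decide +kernel)) ?_
  exact kids_nil 107

theorem node275 : dfs 2 [18, 6, 6, 6, 5, 5] 4 90 [1, 5, 6, 30, 2, 10, 3, 15, 3, 15, 18, 90, 6, 30, 9, 45] = true := by
  refine node_of_kids 23 68 (by decide) (by decide) ?_
  refine kids_cons 24 67 rfl rfl (kid_child node233 (by decide +kernel) (by decide +kernel) (by decide +kernel)) ?_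
  refine kids_cons 25 66 rfl rfl (kid_child node234 (by decide +kernel) (by decide +kernel) (by decide +kernel)) ?_
  refine kids_cons 26 65 rfl rfl (kid_prune (by decide +kernel)) ?_
  refine kids_cons 27 64 rfl rfl (kid_child node235 (by decide +kernel) (by decide +kernel) (by decide +kernel)) ?_
  refine kids_cons 28 63 rfl rfl (kid_child node236 (by decide +kernel) (by decide +kernel) (by decide +kernel)) ?_
  refine kids_cons 29 62 rfl rfl (kid_child node237 (by decide +kernel) (by decide +kernel) (by decide +kernel)) ?_
  refine kids_cons 30 61 rfl rfl (kid_prune (by decide +kernel)) ?_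
  refine kids_cons 31 60 rfl rfl (kid_prune (by decide +kernel)) ?_
  refine kids_cons 32 59 rfl rfl (kid_prune (by decide +kernel)) ?_
  refine kids_cons 33 58 rfl rfl (kid_child node238 (by decide +kernel) (by decide +kernel) (by decide +kernel)) ?_
  refine kids_cons 34 57 rfl rfl (kid_child node239 (by decide +kernel) (by decide +kernel) (by decide +kernel)) ?_
  refine kids_cons 35 56 rfl rfl (kid_child node240 (by decide +kernel) (by decide +kernel) (by decide +kernel)) ?_
  refine kids_cons 36 55 rfl rfl (kid_prune (by decide +kernel)) ?_
  refine kids_cons 37 54 rfl rfl (kid_child node241 (by decide +kernel) (by decide +kernel) (by decide +kernel)) ?_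
  refine kids_cons 38 53 rfl rfl (kid_prune (by decide +kernel)) ?_
  refine kids_cons 39 52 rfl rfl (kid_child node242 (by decide +kernel) (by decide +kernel) (by decide +kernel)) ?_
  refine kids_cons 40 51 rfl rfl (kid_child node243 (by decide +kernel) (by decide +kernel) (by decide +kernel)) ?_
  refine kids_cons 41 50 rfl rfl (kid_prune (by decide +kernel)) ?_
  refine kids_cons 42 49 rfl rfl (kid_prune (by decide +kernel)) ?_
  refine kids_cons 43 48 rfl rfl (kid_child node244 (by decide +kernel) (by decide +kernel) (by decide +kernel)) ?_
  refine kids_cons 44 47 rfl rfl (kid_prune (by decide +kernel)) ?_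
  refine kids_cons 45 46 rfl rfl (kid_child node245 (by decide +kernel) (by decide +kernel) (by decide +kernel)) ?_
  refine kids_cons 46 45 rfl rfl (kid_prune (by decide +kernel)) ?_
  refine kids_cons 47 44 rfl rfl (kid_child node246 (by decide +kernel) (by decide +kernel) (by decide +kernel)) ?_
  refine kids_cons 48 43 rfl rfl (kid_child node247 (by decide +kernel) (by decide +kernel) (by decide +kernel)) ?_
  refine kids_cons 49 42 rfl rfl (kid_child node248 (by decide +kernel) (by decide +kernel) (by decide +kernel)) ?_
  refine kids_cons 50 41 rfl rfl (kid_child node249 (by decide +kernel) (by decide +kernel) (by decide +kernel)) ?_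
  refine kids_cons 51 40 rfl rfl (kid_prune (by decide +kernel)) ?_
  refine kids_cons 52 39 rfl rfl (kid_child node250 (by decide +kernel) (by decide +kernel) (by decide +kernel)) ?_
  refine kids_cons 53 38 rfl rfl (kid_child node251 (by decide +kernel) (by decide +kernel) (by decide +kernel)) ?_
  refine kids_cons 54 37 rfl rfl (kid_prune (by decide +kernel)) ?_
  refine kids_cons 55 36 rfl rfl (kid_child node252 (by decide +kernel) (by decide +kernel) (by decide +kernel)) ?_
  refine kids_cons 56 35 rfl rfl (kid_prune (by decide +kernel)) ?_
  refine kids_cons 57 34 rfl rfl (kid_child node253 (by decide +kernel) (by decide +kernel) (by decide +kernel)) ?_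
  refine kids_cons 58 33 rfl rfl (kid_child node254 (by decide +kernel) (by decide +kernel) (by decide +kernel)) ?_
  refine kids_cons 59 32 rfl rfl (kid_child node255 (by decide +kernel) (by decide +kernel) (by decide +kernel)) ?_
  refine kids_cons 60 31 rfl rfl (kid_child node256 (by decide +kernel) (by decide +kernel) (by decide +kernel)) ?_
  refine kids_cons 61 30 rfl rfl (kid_prune (by decide +kernel)) ?_
  refine kids_cons 62 29 rfl rfl (kid_prune (by decide +kernel)) ?_
  refine kids_cons 63 28 rfl rfl (kid_child node257 (by decide +kernel) (by decide +kernel) (by decide +kernel)) ?_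
  refine kids_cons 64 27 rfl rfl (kid_child node258 (by decide +kernel) (by decide +kernel) (by decide +kernel)) ?_
  refine kids_cons 65 26 rfl rfl (kid_child node259 (by decide +kernel) (by decide +kernel) (by decide +kernel)) ?_
  refine kids_cons 66 25 rfl rfl (kid_prune (by decide +kernel)) ?_
  refine kids_cons 67 24 rfl rfl (kid_child node260 (by decide +kernel) (by decide +kernel) (by decide +kernel)) ?_
  refine kids_cons 68 23 rfl rfl (kid_prune (by decide +kernel)) ?_
  refine kids_cons 69 22 rfl rfl (kid_child node261 (by decide +kernel) (by decide +kernel) (by decide +kernel)) ?_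
  refine kids_cons 70 21 rfl rfl (kid_child node262 (by decide +kernel) (by decide +kernel) (by decide +kernel)) ?_
  refine kids_cons 71 20 rfl rfl (kid_prune (by decide +kernel)) ?_
  refine kids_cons 72 19 rfl rfl (kid_prune (by decide +kernel)) ?_
  refine kids_cons 73 18 rfl rfl (kid_child node263 (by decide +kernel) (by decide +kernel) (by decide +kernel)) ?_
  refine kids_cons 74 17 rfl rfl (kid_prune (by decide +kernel)) ?_
  refine kids_cons 75 16 rfl rfl (kid_child node264 (by decide +kernel) (by decide +kernel) (by decide +kernel)) ?_
  refine kids_cons 76 15 rfl rfl (kid_prune (by decide +kernel)) ?_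
  refine kids_cons 77 14 rfl rfl (kid_child node265 (by decide +kernel) (by decide +kernel) (by decide +kernel)) ?_
  refine kids_cons 78 13 rfl rfl (kid_child node266 (by decide +kernel) (by decide +kernel) (by decide +kernel)) ?_
  refine kids_cons 79 12 rfl rfl (kid_child node267 (by decide +kernel) (by decide +kernel) (by decide +kernel)) ?_
  refine kids_cons 80 11 rfl rfl (kid_prune (by decide +kernel)) ?_
  refine kids_cons 81 10 rfl rfl (kid_prune (by decide +kernel)) ?_
  refine kids_cons 82 9 rfl rfl (kid_child node268 (by decide +kernel) (by decide +kernel) (by decide +kernel)) ?_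
  refine kids_cons 83 8 rfl rfl (kid_child node269 (by decide +kernel) (by decide +kernel) (by decide +kernel)) ?_
  refine kids_cons 84 7 rfl rfl (kid_child node270 (by decide +kernel) (by decide +kernel) (by decide +kernel)) ?_
  refine kids_cons 85 6 rfl rfl (kid_child node271 (by decide +kernel) (by decide +kernel) (by decide +kernel)) ?_
  refine kids_cons 86 5 rfl rfl (kid_prune (by decide +kernel)) ?_
  refine kids_cons 87 4 rfl rfl (kid_child node272 (by decide +kernel) (by decide +kernel) (by decide +kernel)) ?_
  refine kids_cons 88 3 rfl rfl (kid_child node273 (by decide +kernel) (by decide +kernel) (by decide +kernel)) ?_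
  refine kids_cons 89 2 rfl rfl (kid_child node274 (by decide +kernel) (by decide +kernel) (by decide +kernel)) ?_
  refine kids_cons 90 1 rfl rfl (kid_prune (by decide +kernel)) ?_
  refine kids_cons 91 0 rfl rfl (kid_prune (by decide +kernel)) ?_
  exact kids_nil 91

theorem node296 : dfs 3 [6, 6, 6, 5, 5] 3 30 [1, 5, 6, 30, 2, 10, 3, 15] = true := by
  refine node_of_kids 11 40 (by decide) (by decide) ?_
  refine kids_cons 12 39 rfl rfl (kid_child node0 (by decide +kernel) (by decide +kernel) (by decide +kernel)) ?_
  refine kids_cons 13 38 rfl rfl (kid_child node115 (by decide +kernel) (by decide +kernel) (by decide +kernel)) ?_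
  refine kids_cons 14 37 rfl rfl (kid_child node116 (by decide +kernel) (by decide +kernel) (by decide +kernel)) ?_
  refine kids_cons 15 36 rfl rfl (kid_child node182 (by decide +kernel) (by decide +kernel) (by decide +kernel)) ?_
  refine kids_cons 16 35 rfl rfl (kid_prune (by decide +kernel)) ?_
  refine kids_cons 17 34 rfl rfl (kid_child node232 (by decide +kernel) (by decide +kernel) (by decide +kernel)) ?_
  refine kids_cons 18 33 rfl rfl (kid_prune (by decide +kernel)) ?_
  refine kids_cons 19 32 rfl rfl (kid_child node275 (by decide +kernel) (by decide +kernel) (by decide +kernel)) ?_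
  refine kids_cons 20 31 rfl rfl (kid_child node276 (by decide +kernel) (by decide +kernel) (by decide +kernel)) ?_
  refine kids_cons 21 30 rfl rfl (kid_prune (by decide +kernel)) ?_
  refine kids_cons 22 29 rfl rfl (kid_child node277 (by decide +kernel) (by decide +kernel) (by decide +kernel)) ?_
  refine kids_cons 23 28 rfl rfl (kid_child node278 (by decide +kernel) (by decide +kernel) (by decide +kernel)) ?_
  refine kids_cons 24 27 rfl rfl (kid_child node279 (by decide +kernel) (by decide +kernel) (by decide +kernel)) ?_
  refine kids_cons 25 26 rfl rfl (kid_child node280 (by decide +kernel) (by decide +kernel) (by decide +kernel)) ?_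
  refine kids_cons 26 25 rfl rfl (kid_prune (by decide +kernel)) ?_
  refine kids_cons 27 24 rfl rfl (kid_child node281 (by decide +kernel) (by decide +kernel) (by decide +kernel)) ?_
  refine kids_cons 28 23 rfl rfl (kid_child node282 (by decide +kernel) (by decide +kernel) (by decide +kernel)) ?_
  refine kids_cons 29 22 rfl rfl (kid_child node283 (by decide +kernel) (by decide +kernel) (by decide +kernel)) ?_
  refine kids_cons 30 21 rfl rfl (kid_prune (by decide +kernel)) ?_
  refine kids_cons 31 20 rfl rfl (kid_prune (by decide +kernel)) ?_
  refine kids_cons 32 19 rfl rfl (kid_prune (by decide +kernel)) ?_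
  refine kids_cons 33 18 rfl rfl (kid_child node284 (by decide +kernel) (by decide +kernel) (by decide +kernel)) ?_
  refine kids_cons 34 17 rfl rfl (kid_child node285 (by decide +kernel) (by decide +kernel) (by decide +kernel)) ?_
  refine kids_cons 35 16 rfl rfl (kid_child node286 (by decide +kernel) (by decide +kernel) (by decide +kernel)) ?_
  refine kids_cons 36 15 rfl rfl (kid_prune (by decide +kernel)) ?_
  refine kids_cons 37 14 rfl rfl (kid_child node287 (by decide +kernel) (by decide +kernel) (by decide +kernel)) ?_
  refine kids_cons 38 13 rfl rfl (kid_prune (by decide +kernel)) ?_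
  refine kids_cons 39 12 rfl rfl (kid_child node288 (by decide +kernel) (by decide +kernel) (by decide +kernel)) ?_
  refine kids_cons 40 11 rfl rfl (kid_child node289 (by decide +kernel) (by decide +kernel) (by decide +kernel)) ?_
  refine kids_cons 41 10 rfl rfl (kid_prune (by decide +kernel)) ?_
  refine kids_cons 42 9 rfl rfl (kid_prune (by decide +kernel)) ?_
  refine kids_cons 43 8 rfl rfl (kid_child node290 (by decide +kernel) (by decide +kernel) (by decide +kernel)) ?_
  refine kids_cons 44 7 rfl rfl (kid_prune (by decide +kernel)) ?_
  refine kids_cons 45 6 rfl rfl (kid_child node291 (by decide +kernel) (by decide +kernel) (by decide +kernel)) ?_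
  refine kids_cons 46 5 rfl rfl (kid_prune (by decide +kernel)) ?_
  refine kids_cons 47 4 rfl rfl (kid_child node292 (by decide +kernel) (by decide +kernel) (by decide +kernel)) ?_
  refine kids_cons 48 3 rfl rfl (kid_child node293 (by decide +kernel) (by decide +kernel) (by decide +kernel)) ?_
  refine kids_cons 49 2 rfl rfl (kid_child node294 (by decide +kernel) (by decide +kernel) (by decide +kernel)) ?_
  refine kids_cons 50 1 rfl rfl (kid_child node295 (by decide +kernel) (by decide +kernel) (by decide +kernel)) ?_
  refine kids_cons 51 0 rfl rfl (kid_prune (by decide +kernel)) ?_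
  exact kids_nil 51

theorem node421 : dfs 2 [9, 7, 6, 6, 5, 5] 8 630 [1, 5, 6, 30, 2, 10, 3, 15, 7, 35, 42, 210, 14, 70, 21, 105, 3, 15, 18, 90, 6, 30, 9, 45, 21, 105, 126, 630, 42, 210, 63, 315] = true := by
  refine node_of_kids 79 237 (by decide) (by decide) ?_
  refine kids_cons 80 236 rfl rfl (kid_prune (by decide +kernel)) ?_
  refine kids_cons 81 235 rfl rfl (kid_prune (by decide +kernel)) ?_
  refine kids_cons 82 234 rfl rfl (kid_child node297 (by decide +kernel) (by decide +kernel) (by decide +kernel)) ?_
  refine kids_cons 83 233 rfl rfl (kid_child node298 (by decide +kernel) (by decide +kernel) (by decide +kernel)) ?_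
  refine kids_cons 84 232 rfl rfl (kid_child node299 (by decide +kernel) (by decide +kernel) (by decide +kernel)) ?_
  refine kids_cons 85 231 rfl rfl (kid_prune (by decide +kernel)) ?_
  refine kids_cons 86 230 rfl rfl (kid_prune (by decide +kernel)) ?_
  refine kids_cons 87 229 rfl rfl (kid_child node300 (by decide +kernel) (by decide +kernel) (by decide +kernel)) ?_
  refine kids_cons 88 228 rfl rfl (kid_child node301 (by decide +kernel) (by decide +kernel) (by decide +kernel)) ?_
  refine kids_cons 89 227 rfl rfl (kid_child node302 (by decide +kernel) (by decide +kernel) (by decide +kernel)) ?_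
  refine kids_cons 90 226 rfl rfl (kid_prune (by decide +kernel)) ?_
  refine kids_cons 91 225 rfl rfl (kid_prune (by decide +kernel)) ?_
  refine kids_cons 92 224 rfl rfl (kid_prune (by decide +kernel)) ?_
  refine kids_cons 93 223 rfl rfl (kid_child node303 (by decide +kernel) (by decide +kernel) (by decide +kernel)) ?_
  refine kids_cons 94 222 rfl rfl (kid_child node304 (by decide +kernel) (by decide +kernel) (by decide +kernel)) ?_
  refine kids_cons 95 221 rfl rfl (kid_child node305 (by decide +kernel) (by decide +kernel) (by decide +kernel)) ?_
  refine kids_cons 96 220 rfl rfl (kid_prune (by decide +kernel)) ?_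
  refine kids_cons 97 219 rfl rfl (kid_child node306 (by decide +kernel) (by decide +kernel) (by decide +kernel)) ?_
  refine kids_cons 98 218 rfl rfl (kid_prune (by decide +kernel)) ?_
  refine kids_cons 99 217 rfl rfl (kid_prune (by decide +kernel)) ?_
  refine kids_cons 100 216 rfl rfl (kid_child node307 (by decide +kernel) (by decide +kernel) (by decide +kernel)) ?_
  refine kids_cons 101 215 rfl rfl (kid_prune (by decide +kernel)) ?_
  refine kids_cons 102 214 rfl rfl (kid_prune (by decide +kernel)) ?_
  refine kids_cons 103 213 rfl rfl (kid_child node308 (by decide +kernel) (by decide +kernel) (by decide +kernel)) ?_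
  refine kids_cons 104 212 rfl rfl (kid_prune (by decide +kernel)) ?_
  refine kids_cons 105 211 rfl rfl (kid_child node309 (by decide +kernel) (by decide +kernel) (by decide +kernel)) ?_
  refine kids_cons 106 210 rfl rfl (kid_prune (by decide +kernel)) ?_
  refine kids_cons 107 209 rfl rfl (kid_child node310 (by decide +kernel) (by decide +kernel) (by decide +kernel)) ?_
  refine kids_cons 108 208 rfl rfl (kid_child node311 (by decide +kernel) (by decide +kernel) (by decide +kernel)) ?_
  refine kids_cons 109 207 rfl rfl (kid_child node312 (by decide +kernel) (by decide +kernel) (by decide +kernel)) ?_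
  refine kids_cons 110 206 rfl rfl (kid_prune (by decide +kernel)) ?_
  refine kids_cons 111 205 rfl rfl (kid_prune (by decide +kernel)) ?_
  refine kids_cons 112 204 rfl rfl (kid_child node313 (by decide +kernel) (by decide +kernel) (by decide +kernel)) ?_
  refine kids_cons 113 203 rfl rfl (kid_prune (by decide +kernel)) ?_
  refine kids_cons 114 202 rfl rfl (kid_prune (by decide +kernel)) ?_
  refine kids_cons 115 201 rfl rfl (kid_child node314 (by decide +kernel) (by decide +kernel) (by decide +kernel)) ?_
  refine kids_cons 116 200 rfl rfl (kid_prune (by decide +kernel)) ?_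
  refine kids_cons 117 199 rfl rfl (kid_child node315 (by decide +kernel) (by decide +kernel) (by decide +kernel)) ?_
  refine kids_cons 118 198 rfl rfl (kid_child node316 (by decide +kernel) (by decide +kernel) (by decide +kernel)) ?_
  refine kids_cons 119 197 rfl rfl (kid_child node317 (by decide +kernel) (by decide +kernel) (by decide +kernel)) ?_
  refine kids_cons 120 196 rfl rfl (kid_prune (by decide +kernel)) ?_
  refine kids_cons 121 195 rfl rfl (kid_prune (by decide +kernel)) ?_
  refine kids_cons 122 194 rfl rfl (kid_child node318 (by decide +kernel) (by decide +kernel) (by decide +kernel)) ?_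
  refine kids_cons 123 193 rfl rfl (kid_child node319 (by decide +kernel) (by decide +kernel) (by decide +kernel)) ?_
  refine kids_cons 124 192 rfl rfl (kid_child node320 (by decide +kernel) (by decide +kernel) (by decide +kernel)) ?_
  refine kids_cons 125 191 rfl rfl (kid_child node321 (by decide +kernel) (by decide +kernel) (by decide +kernel)) ?_
  refine kids_cons 126 190 rfl rfl (kid_prune (by decide +kernel)) ?_
  refine kids_cons 127 189 rfl rfl (kid_prune (by decide +kernel)) ?_
  refine kids_cons 128 188 rfl rfl (kid_prune (by decide +kernel)) ?_
  refine kids_cons 129 187 rfl rfl (kid_child node322 (by decide +kernel) (by decide +kernel) (by decide +kernel)) ?_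
  refine kids_cons 130 186 rfl rfl (kid_child node323 (by decide +kernel) (by decide +kernel) (by decide +kernel)) ?_
  refine kids_cons 131 185 rfl rfl (kid_prune (by decide +kernel)) ?_
  refine kids_cons 132 184 rfl rfl (kid_prune (by decide +kernel)) ?_
  refine kids_cons 133 183 rfl rfl (kid_child node324 (by decide +kernel) (by decide +kernel) (by decide +kernel)) ?_
  refine kids_cons 134 182 rfl rfl (kid_prune (by decide +kernel)) ?_
  refine kids_cons 135 181 rfl rfl (kid_child node325 (by decide +kernel) (by decide +kernel) (by decide +kernel)) ?_
  refine kids_cons 136 180 rfl rfl (kid_prune (by decide +kernel)) ?_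
  refine kids_cons 137 179 rfl rfl (kid_child node326 (by decide +kernel) (by decide +kernel) (by decide +kernel)) ?_
  refine kids_cons 138 178 rfl rfl (kid_prune (by decide +kernel)) ?_
  refine kids_cons 139 177 rfl rfl (kid_child node327 (by decide +kernel) (by decide +kernel) (by decide +kernel)) ?_
  refine kids_cons 140 176 rfl rfl (kid_prune (by decide +kernel)) ?_
  refine kids_cons 141 175 rfl rfl (kid_prune (by decide +kernel)) ?_
  refine kids_cons 142 174 rfl rfl (kid_child node328 (by decide +kernel) (by decide +kernel) (by decide +kernel)) ?_
  refine kids_cons 143 173 rfl rfl (kid_child node329 (by decide +kernel) (by decide +kernel) (by decide +kernel)) ?_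
  refine kids_cons 144 172 rfl rfl (kid_child node330 (by decide +kernel) (by decide +kernel) (by decide +kernel)) ?_
  refine kids_cons 145 171 rfl rfl (kid_child node331 (by decide +kernel) (by decide +kernel) (by decide +kernel)) ?_
  refine kids_cons 146 170 rfl rfl (kid_prune (by decide +kernel)) ?_
  refine kids_cons 147 169 rfl rfl (kid_child node332 (by decide +kernel) (by decide +kernel) (by decide +kernel)) ?_
  refine kids_cons 148 168 rfl rfl (kid_prune (by decide +kernel)) ?_
  refine kids_cons 149 167 rfl rfl (kid_child node333 (by decide +kernel) (by decide +kernel) (by decide +kernel)) ?_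
  refine kids_cons 150 166 rfl rfl (kid_prune (by decide +kernel)) ?_
  refine kids_cons 151 165 rfl rfl (kid_prune (by decide +kernel)) ?_
  refine kids_cons 152 164 rfl rfl (kid_prune (by decide +kernel)) ?_
  refine kids_cons 153 163 rfl rfl (kid_child node334 (by decide +kernel) (by decide +kernel) (by decide +kernel)) ?_
  refine kids_cons 154 162 rfl rfl (kid_child node335 (by decide +kernel) (by decide +kernel) (by decide +kernel)) ?_
  refine kids_cons 155 161 rfl rfl (kid_prune (by decide +kernel)) ?_
  refine kids_cons 156 160 rfl rfl (kid_prune (by decide +kernel)) ?_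
  refine kids_cons 157 159 rfl rfl (kid_child node336 (by decide +kernel) (by decide +kernel) (by decide +kernel)) ?_
  refine kids_cons 158 158 rfl rfl (kid_prune (by decide +kernel)) ?_
  refine kids_cons 159 157 rfl rfl (kid_child node337 (by decide +kernel) (by decide +kernel) (by decide +kernel)) ?_
  refine kids_cons 160 156 rfl rfl (kid_child node338 (by decide +kernel) (by decide +kernel) (by decide +kernel)) ?_
  refine kids_cons 161 155 rfl rfl (kid_prune (by decide +kernel)) ?_
  refine kids_cons 162 154 rfl rfl (kid_prune (by decide +kernel)) ?_
  refine kids_cons 163 153 rfl rfl (kid_child node339 (by decide +kernel) (by decide +kernel) (by decide +kernel)) ?_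
  refine kids_cons 164 152 rfl rfl (kid_prune (by decide +kernel)) ?_
  refine kids_cons 165 151 rfl rfl (kid_child node340 (by decide +kernel) (by decide +kernel) (by decide +kernel)) ?_
  refine kids_cons 166 150 rfl rfl (kid_prune (by decide +kernel)) ?_
  refine kids_cons 167 149 rfl rfl (kid_child node341 (by decide +kernel) (by decide +kernel) (by decide +kernel)) ?_
  refine kids_cons 168 148 rfl rfl (kid_child node342 (by decide +kernel) (by decide +kernel) (by decide +kernel)) ?_
  refine kids_cons 169 147 rfl rfl (kid_prune (by decide +kernel)) ?_
  refine kids_cons 170 146 rfl rfl (kid_child node343 (by decide +kernel) (by decide +kernel) (by decide +kernel)) ?_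
  refine kids_cons 171 145 rfl rfl (kid_prune (by decide +kernel)) ?_
  refine kids_cons 172 144 rfl rfl (kid_child node344 (by decide +kernel) (by decide +kernel) (by decide +kernel)) ?_
  refine kids_cons 173 143 rfl rfl (kid_child node345 (by decide +kernel) (by decide +kernel) (by decide +kernel)) ?_
  refine kids_cons 174 142 rfl rfl (kid_prune (by decide +kernel)) ?_
  refine kids_cons 175 141 rfl rfl (kid_child node346 (by decide +kernel) (by decide +kernel) (by decide +kernel)) ?_
  refine kids_cons 176 140 rfl rfl (kid_prune (by decide +kernel)) ?_
  refine kids_cons 177 139 rfl rfl (kid_child node347 (by decide +kernel) (by decide +kernel) (by decide +kernel)) ?_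
  refine kids_cons 178 138 rfl rfl (kid_child node348 (by decide +kernel) (by decide +kernel) (by decide +kernel)) ?_
  refine kids_cons 179 137 rfl rfl (kid_child node349 (by decide +kernel) (by decide +kernel) (by decide +kernel)) ?_
  refine kids_cons 180 136 rfl rfl (kid_child node350 (by decide +kernel) (by decide +kernel) (by decide +kernel)) ?_
  refine kids_cons 181 135 rfl rfl (kid_prune (by decide +kernel)) ?_
  refine kids_cons 182 134 rfl rfl (kid_prune (by decide +kernel)) ?_
  refine kids_cons 183 133 rfl rfl (kid_prune (by decide +kernel)) ?_
  refine kids_cons 184 132 rfl rfl (kid_child node351 (by decide +kernel) (by decide +kernel) (by decide +kernel)) ?_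
  refine kids_cons 185 131 rfl rfl (kid_child node352 (by decide +kernel) (by decide +kernel) (by decide +kernel)) ?_
  refine kids_cons 186 130 rfl rfl (kid_prune (by decide +kernel)) ?_
  refine kids_cons 187 129 rfl rfl (kid_child node353 (by decide +kernel) (by decide +kernel) (by decide +kernel)) ?_
  refine kids_cons 188 128 rfl rfl (kid_child node354 (by decide +kernel) (by decide +kernel) (by decide +kernel)) ?_
  refine kids_cons 189 127 rfl rfl (kid_child node355 (by decide +kernel) (by decide +kernel) (by decide +kernel)) ?_
  refine kids_cons 190 126 rfl rfl (kid_prune (by decide +kernel)) ?_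
  refine kids_cons 191 125 rfl rfl (kid_prune (by decide +kernel)) ?_
  refine kids_cons 192 124 rfl rfl (kid_prune (by decide +kernel)) ?_
  refine kids_cons 193 123 rfl rfl (kid_child node356 (by decide +kernel) (by decide +kernel) (by decide +kernel)) ?_
  refine kids_cons 194 122 rfl rfl (kid_prune (by decide +kernel)) ?_
  refine kids_cons 195 121 rfl rfl (kid_child node357 (by decide +kernel) (by decide +kernel) (by decide +kernel)) ?_
  refine kids_cons 196 120 rfl rfl (kid_prune (by decide +kernel)) ?_
  refine kids_cons 197 119 rfl rfl (kid_prune (by decide +kernel)) ?_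
  refine kids_cons 198 118 rfl rfl (kid_prune (by decide +kernel)) ?_
  refine kids_cons 199 117 rfl rfl (kid_child node358 (by decide +kernel) (by decide +kernel) (by decide +kernel)) ?_
  refine kids_cons 200 116 rfl rfl (kid_prune (by decide +kernel)) ?_
  refine kids_cons 201 115 rfl rfl (kid_prune (by decide +kernel)) ?_
  refine kids_cons 202 114 rfl rfl (kid_child node359 (by decide +kernel) (by decide +kernel) (by decide +kernel)) ?_
  refine kids_cons 203 113 rfl rfl (kid_child node360 (by decide +kernel) (by decide +kernel) (by decide +kernel)) ?_
  refine kids_cons 204 112 rfl rfl (kid_prune (by decide +kernel)) ?_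
  refine kids_cons 205 111 rfl rfl (kid_child node361 (by decide +kernel) (by decide +kernel) (by decide +kernel)) ?_
  refine kids_cons 206 110 rfl rfl (kid_prune (by decide +kernel)) ?_
  refine kids_cons 207 109 rfl rfl (kid_child node362 (by decide +kernel) (by decide +kernel) (by decide +kernel)) ?_
  refine kids_cons 208 108 rfl rfl (kid_child node363 (by decide +kernel) (by decide +kernel) (by decide +kernel)) ?_
  refine kids_cons 209 107 rfl rfl (kid_child node364 (by decide +kernel) (by decide +kernel) (by decide +kernel)) ?_
  refine kids_cons 210 106 rfl rfl (kid_child node365 (by decide +kernel) (by decide +kernel) (by decide +kernel)) ?_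
  refine kids_cons 211 105 rfl rfl (kid_prune (by decide +kernel)) ?_
  refine kids_cons 212 104 rfl rfl (kid_prune (by decide +kernel)) ?_
  refine kids_cons 213 103 rfl rfl (kid_child node366 (by decide +kernel) (by decide +kernel) (by decide +kernel)) ?_
  refine kids_cons 214 102 rfl rfl (kid_child node367 (by decide +kernel) (by decide +kernel) (by decide +kernel)) ?_
  refine kids_cons 215 101 rfl rfl (kid_child node368 (by decide +kernel) (by decide +kernel) (by decide +kernel)) ?_
  refine kids_cons 216 100 rfl rfl (kid_prune (by decide +kernel)) ?_
  refine kids_cons 217 99 rfl rfl (kid_child node369 (by decide +kernel) (by decide +kernel) (by decide +kernel)) ?_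
  refine kids_cons 218 98 rfl rfl (kid_prune (by decide +kernel)) ?_
  refine kids_cons 219 97 rfl rfl (kid_child node370 (by decide +kernel) (by decide +kernel) (by decide +kernel)) ?_
  refine kids_cons 220 96 rfl rfl (kid_child node371 (by decide +kernel) (by decide +kernel) (by decide +kernel)) ?_
  refine kids_cons 221 95 rfl rfl (kid_prune (by decide +kernel)) ?_
  refine kids_cons 222 94 rfl rfl (kid_child node372 (by decide +kernel) (by decide +kernel) (by decide +kernel)) ?_
  refine kids_cons 223 93 rfl rfl (kid_child node373 (by decide +kernel) (by decide +kernel) (by decide +kernel)) ?_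
  refine kids_cons 224 92 rfl rfl (kid_prune (by decide +kernel)) ?_
  refine kids_cons 225 91 rfl rfl (kid_prune (by decide +kernel)) ?_
  refine kids_cons 226 90 rfl rfl (kid_prune (by decide +kernel)) ?_
  refine kids_cons 227 89 rfl rfl (kid_child node374 (by decide +kernel) (by decide +kernel) (by decide +kernel)) ?_
  refine kids_cons 228 88 rfl rfl (kid_child node375 (by decide +kernel) (by decide +kernel) (by decide +kernel)) ?_
  refine kids_cons 229 87 rfl rfl (kid_child node376 (by decide +kernel) (by decide +kernel) (by decide +kernel)) ?_
  refine kids_cons 230 86 rfl rfl (kid_prune (by decide +kernel)) ?_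
  refine kids_cons 231 85 rfl rfl (kid_prune (by decide +kernel)) ?_
  refine kids_cons 232 84 rfl rfl (kid_prune (by decide +kernel)) ?_
  refine kids_cons 233 83 rfl rfl (kid_child node377 (by decide +kernel) (by decide +kernel) (by decide +kernel)) ?_
  refine kids_cons 234 82 rfl rfl (kid_prune (by decide +kernel)) ?_
  refine kids_cons 235 81 rfl rfl (kid_child node378 (by decide +kernel) (by decide +kernel) (by decide +kernel)) ?_
  refine kids_cons 236 80 rfl rfl (kid_prune (by decide +kernel)) ?_
  refine kids_cons 237 79 rfl rfl (kid_child node379 (by decide +kernel) (by decide +kernel) (by decide +kernel)) ?_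
  refine kids_cons 238 78 rfl rfl (kid_child node380 (by decide +kernel) (by decide +kernel) (by decide +kernel)) ?_
  refine kids_cons 239 77 rfl rfl (kid_prune (by decide +kernel)) ?_
  refine kids_cons 240 76 rfl rfl (kid_prune (by decide +kernel)) ?_
  refine kids_cons 241 75 rfl rfl (kid_prune (by decide +kernel)) ?_
  refine kids_cons 242 74 rfl rfl (kid_prune (by decide +kernel)) ?_
  refine kids_cons 243 73 rfl rfl (kid_child node381 (by decide +kernel) (by decide +kernel) (by decide +kernel)) ?_
  refine kids_cons 244 72 rfl rfl (kid_child node382 (by decide +kernel) (by decide +kernel) (by decide +kernel)) ?_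
  refine kids_cons 245 71 rfl rfl (kid_child node383 (by decide +kernel) (by decide +kernel) (by decide +kernel)) ?_
  refine kids_cons 246 70 rfl rfl (kid_prune (by decide +kernel)) ?_
  refine kids_cons 247 69 rfl rfl (kid_child node384 (by decide +kernel) (by decide +kernel) (by decide +kernel)) ?_
  refine kids_cons 248 68 rfl rfl (kid_child node385 (by decide +kernel) (by decide +kernel) (by decide +kernel)) ?_
  refine kids_cons 249 67 rfl rfl (kid_child node386 (by decide +kernel) (by decide +kernel) (by decide +kernel)) ?_
  refine kids_cons 250 66 rfl rfl (kid_child node387 (by decide +kernel) (by decide +kernel) (by decide +kernel)) ?_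
  refine kids_cons 251 65 rfl rfl (kid_prune (by decide +kernel)) ?_
  refine kids_cons 252 64 rfl rfl (kid_prune (by decide +kernel)) ?_
  refine kids_cons 253 63 rfl rfl (kid_prune (by decide +kernel)) ?_
  refine kids_cons 254 62 rfl rfl (kid_child node388 (by decide +kernel) (by decide +kernel) (by decide +kernel)) ?_
  refine kids_cons 255 61 rfl rfl (kid_child node389 (by decide +kernel) (by decide +kernel) (by decide +kernel)) ?_
  refine kids_cons 256 60 rfl rfl (kid_prune (by decide +kernel)) ?_
  refine kids_cons 257 59 rfl rfl (kid_child node390 (by decide +kernel) (by decide +kernel) (by decide +kernel)) ?_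
  refine kids_cons 258 58 rfl rfl (kid_prune (by decide +kernel)) ?_
  refine kids_cons 259 57 rfl rfl (kid_child node391 (by decide +kernel) (by decide +kernel) (by decide +kernel)) ?_
  refine kids_cons 260 56 rfl rfl (kid_prune (by decide +kernel)) ?_
  refine kids_cons 261 55 rfl rfl (kid_prune (by decide +kernel)) ?_
  refine kids_cons 262 54 rfl rfl (kid_child node392 (by decide +kernel) (by decide +kernel) (by decide +kernel)) ?_
  refine kids_cons 263 53 rfl rfl (kid_child node393 (by decide +kernel) (by decide +kernel) (by decide +kernel)) ?_
  refine kids_cons 264 52 rfl rfl (kid_child node394 (by decide +kernel) (by decide +kernel) (by decide +kernel)) ?_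
  refine kids_cons 265 51 rfl rfl (kid_child node395 (by decide +kernel) (by decide +kernel) (by decide +kernel)) ?_
  refine kids_cons 266 50 rfl rfl (kid_prune (by decide +kernel)) ?_
  refine kids_cons 267 49 rfl rfl (kid_prune (by decide +kernel)) ?_
  refine kids_cons 268 48 rfl rfl (kid_child node396 (by decide +kernel) (by decide +kernel) (by decide +kernel)) ?_
  refine kids_cons 269 47 rfl rfl (kid_child node397 (by decide +kernel) (by decide +kernel) (by decide +kernel)) ?_
  refine kids_cons 270 46 rfl rfl (kid_prune (by decide +kernel)) ?_
  refine kids_cons 271 45 rfl rfl (kid_prune (by decide +kernel)) ?_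
  refine kids_cons 272 44 rfl rfl (kid_prune (by decide +kernel)) ?_
  refine kids_cons 273 43 rfl rfl (kid_child node398 (by decide +kernel) (by decide +kernel) (by decide +kernel)) ?_
  refine kids_cons 274 42 rfl rfl (kid_prune (by decide +kernel)) ?_
  refine kids_cons 275 41 rfl rfl (kid_child node399 (by decide +kernel) (by decide +kernel) (by decide +kernel)) ?_
  refine kids_cons 276 40 rfl rfl (kid_prune (by decide +kernel)) ?_
  refine kids_cons 277 39 rfl rfl (kid_child node400 (by decide +kernel) (by decide +kernel) (by decide +kernel)) ?_
  refine kids_cons 278 38 rfl rfl (kid_prune (by decide +kernel)) ?_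
  refine kids_cons 279 37 rfl rfl (kid_child node401 (by decide +kernel) (by decide +kernel) (by decide +kernel)) ?_
  refine kids_cons 280 36 rfl rfl (kid_child node402 (by decide +kernel) (by decide +kernel) (by decide +kernel)) ?_
  refine kids_cons 281 35 rfl rfl (kid_prune (by decide +kernel)) ?_
  refine kids_cons 282 34 rfl rfl (kid_prune (by decide +kernel)) ?_
  refine kids_cons 283 33 rfl rfl (kid_child node403 (by decide +kernel) (by decide +kernel) (by decide +kernel)) ?_
  refine kids_cons 284 32 rfl rfl (kid_prune (by decide +kernel)) ?_
  refine kids_cons 285 31 rfl rfl (kid_child node404 (by decide +kernel) (by decide +kernel) (by decide +kernel)) ?_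
  refine kids_cons 286 30 rfl rfl (kid_prune (by decide +kernel)) ?_
  refine kids_cons 287 29 rfl rfl (kid_child node405 (by decide +kernel) (by decide +kernel) (by decide +kernel)) ?_
  refine kids_cons 288 28 rfl rfl (kid_prune (by decide +kernel)) ?_
  refine kids_cons 289 27 rfl rfl (kid_child node406 (by decide +kernel) (by decide +kernel) (by decide +kernel)) ?_
  refine kids_cons 290 26 rfl rfl (kid_child node407 (by decide +kernel) (by decide +kernel) (by decide +kernel)) ?_
  refine kids_cons 291 25 rfl rfl (kid_prune (by decide +kernel)) ?_
  refine kids_cons 292 24 rfl rfl (kid_child node408 (by decide +kernel) (by decide +kernel) (by decide +kernel)) ?_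
  refine kids_cons 293 23 rfl rfl (kid_child node409 (by decide +kernel) (by decide +kernel) (by decide +kernel)) ?_
  refine kids_cons 294 22 rfl rfl (kid_prune (by decide +kernel)) ?_
  refine kids_cons 295 21 rfl rfl (kid_prune (by decide +kernel)) ?_
  refine kids_cons 296 20 rfl rfl (kid_prune (by decide +kernel)) ?_
  refine kids_cons 297 19 rfl rfl (kid_child node410 (by decide +kernel) (by decide +kernel) (by decide +kernel)) ?_
  refine kids_cons 298 18 rfl rfl (kid_child node411 (by decide +kernel) (by decide +kernel) (by decide +kernel)) ?_
  refine kids_cons 299 17 rfl rfl (kid_child node412 (by decide +kernel) (by decide +kernel) (by decide +kernel)) ?_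
  refine kids_cons 300 16 rfl rfl (kid_child node413 (by decide +kernel) (by decide +kernel) (by decide +kernel)) ?_
  refine kids_cons 301 15 rfl rfl (kid_prune (by decide +kernel)) ?_
  refine kids_cons 302 14 rfl rfl (kid_prune (by decide +kernel)) ?_
  refine kids_cons 303 13 rfl rfl (kid_child node414 (by decide +kernel) (by decide +kernel) (by decide +kernel)) ?_
  refine kids_cons 304 12 rfl rfl (kid_child node415 (by decide +kernel) (by decide +kernel) (by decide +kernel)) ?_
  refine kids_cons 305 11 rfl rfl (kid_child node416 (by decide +kernel) (by decide +kernel) (by decide +kernel)) ?_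
  refine kids_cons 306 10 rfl rfl (kid_prune (by decide +kernel)) ?_
  refine kids_cons 307 9 rfl rfl (kid_child node417 (by decide +kernel) (by decide +kernel) (by decide +kernel)) ?_
  refine kids_cons 308 8 rfl rfl (kid_prune (by decide +kernel)) ?_
  refine kids_cons 309 7 rfl rfl (kid_prune (by decide +kernel)) ?_
  refine kids_cons 310 6 rfl rfl (kid_child node418 (by decide +kernel) (by decide +kernel) (by decide +kernel)) ?_
  refine kids_cons 311 5 rfl rfl (kid_prune (by decide +kernel)) ?_
  refine kids_cons 312 4 rfl rfl (kid_prune (by decide +kernel)) ?_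
  refine kids_cons 313 3 rfl rfl (kid_child node419 (by decide +kernel) (by decide +kernel) (by decide +kernel)) ?_
  refine kids_cons 314 2 rfl rfl (kid_prune (by decide +kernel)) ?_
  refine kids_cons 315 1 rfl rfl (kid_child node420 (by decide +kernel) (by decide +kernel) (by decide +kernel)) ?_
  refine kids_cons 316 0 rfl rfl (kid_prune (by decide +kernel)) ?_
  exact kids_nil 316

theorem node460 : dfs 2 [12, 7, 6, 6, 5, 5] 17 420 [1, 5, 6, 30, 2, 10, 3, 15, 7, 35, 42, 210, 14, 70, 21, 105, 2, 10, 12, 60, 4, 20, 6, 30, 14, 70, 84, 420, 28, 140, 42, 210] = true := by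
  refine node_of_kids 25 74 (by decide) (by decide) ?_
  refine kids_cons 26 73 rfl rfl (kid_prune (by decide +kernel)) ?_
  refine kids_cons 27 72 rfl rfl (kid_child node423 (by decide +kernel) (by decide +kernel) (by decide +kernel)) ?_
  refine kids_cons 28 71 rfl rfl (kid_child node424 (by decide +kernel) (by decide +kernel) (by decide +kernel)) ?_
  refine kids_cons 29 70 rfl rfl (kid_prune (by decide +kernel)) ?_
  refine kids_cons 30 69 rfl rfl (kid_prune (by decide +kernel)) ?_
  refine kids_cons 31 68 rfl rfl (kid_prune (by decide +kernel)) ?_
  refine kids_cons 32 67 rfl rfl (kid_prune (by decide +kernel)) ?_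
  refine kids_cons 33 66 rfl rfl (kid_child node425 (by decide +kernel) (by decide +kernel) (by decide +kernel)) ?_
  refine kids_cons 34 65 rfl rfl (kid_child node426 (by decide +kernel) (by decide +kernel) (by decide +kernel)) ?_
  refine kids_cons 35 64 rfl rfl (kid_child node427 (by decide +kernel) (by decide +kernel) (by decide +kernel)) ?_
  refine kids_cons 36 63 rfl rfl (kid_prune (by decide +kernel)) ?_
  refine kids_cons 37 62 rfl rfl (kid_child node428 (by decide +kernel) (by decide +kernel) (by decide +kernel)) ?_
  refine kids_cons 38 61 rfl rfl (kid_prune (by decide +kernel)) ?_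
  refine kids_cons 39 60 rfl rfl (kid_child node429 (by decide +kernel) (by decide +kernel) (by decide +kernel)) ?_
  refine kids_cons 40 59 rfl rfl (kid_child node430 (by decide +kernel) (by decide +kernel) (by decide +kernel)) ?_
  refine kids_cons 41 58 rfl rfl (kid_prune (by decide +kernel)) ?_
  refine kids_cons 42 57 rfl rfl (kid_prune (by decide +kernel)) ?_
  refine kids_cons 43 56 rfl rfl (kid_prune (by decide +kernel)) ?_
  refine kids_cons 44 55 rfl rfl (kid_prune (by decide +kernel)) ?_
  refine kids_cons 45 54 rfl rfl (kid_child node431 (by decide +kernel) (by decide +kernel) (by decide +kernel)) ?_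
  refine kids_cons 46 53 rfl rfl (kid_prune (by decide +kernel)) ?_
  refine kids_cons 47 52 rfl rfl (kid_child node432 (by decide +kernel) (by decide +kernel) (by decide +kernel)) ?_
  refine kids_cons 48 51 rfl rfl (kid_child node433 (by decide +kernel) (by decide +kernel) (by decide +kernel)) ?_
  refine kids_cons 49 50 rfl rfl (kid_child node434 (by decide +kernel) (by decide +kernel) (by decide +kernel)) ?_
  refine kids_cons 50 49 rfl rfl (kid_prune (by decide +kernel)) ?_
  refine kids_cons 51 48 rfl rfl (kid_prune (by decide +kernel)) ?_
  refine kids_cons 52 47 rfl rfl (kid_child node435 (by decide +kernel) (by decide +kernel) (by decide +kernel)) ?_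
  refine kids_cons 53 46 rfl rfl (kid_child node436 (by decide +kernel) (by decide +kernel) (by decide +kernel)) ?_
  refine kids_cons 54 45 rfl rfl (kid_prune (by decide +kernel)) ?_
  refine kids_cons 55 44 rfl rfl (kid_child node437 (by decide +kernel) (by decide +kernel) (by decide +kernel)) ?_
  refine kids_cons 56 43 rfl rfl (kid_prune (by decide +kernel)) ?_
  refine kids_cons 57 42 rfl rfl (kid_prune (by decide +kernel)) ?_
  refine kids_cons 58 41 rfl rfl (kid_child node438 (by decide +kernel) (by decide +kernel) (by decide +kernel)) ?_
  refine kids_cons 59 40 rfl rfl (kid_child node439 (by decide +kernel) (by decide +kernel) (by decide +kernel)) ?_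
  refine kids_cons 60 39 rfl rfl (kid_child node440 (by decide +kernel) (by decide +kernel) (by decide +kernel)) ?_
  refine kids_cons 61 38 rfl rfl (kid_prune (by decide +kernel)) ?_
  refine kids_cons 62 37 rfl rfl (kid_prune (by decide +kernel)) ?_
  refine kids_cons 63 36 rfl rfl (kid_child node441 (by decide +kernel) (by decide +kernel) (by decide +kernel)) ?_
  refine kids_cons 64 35 rfl rfl (kid_prune (by decide +kernel)) ?_
  refine kids_cons 65 34 rfl rfl (kid_child node442 (by decide +kernel) (by decide +kernel) (by decide +kernel)) ?_
  refine kids_cons 66 33 rfl rfl (kid_prune (by decide +kernel)) ?_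
  refine kids_cons 67 32 rfl rfl (kid_child node443 (by decide +kernel) (by decide +kernel) (by decide +kernel)) ?_
  refine kids_cons 68 31 rfl rfl (kid_prune (by decide +kernel)) ?_
  refine kids_cons 69 30 rfl rfl (kid_child node444 (by decide +kernel) (by decide +kernel) (by decide +kernel)) ?_
  refine kids_cons 70 29 rfl rfl (kid_child node445 (by decide +kernel) (by decide +kernel) (by decide +kernel)) ?_
  refine kids_cons 71 28 rfl rfl (kid_prune (by decide +kernel)) ?_
  refine kids_cons 72 27 rfl rfl (kid_prune (by decide +kernel)) ?_
  refine kids_cons 73 26 rfl rfl (kid_child node446 (by decide +kernel) (by decide +kernel) (by decide +kernel)) ?_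
  refine kids_cons 74 25 rfl rfl (kid_prune (by decide +kernel)) ?_
  refine kids_cons 75 24 rfl rfl (kid_child node447 (by decide +kernel) (by decide +kernel) (by decide +kernel)) ?_
  refine kids_cons 76 23 rfl rfl (kid_prune (by decide +kernel)) ?_
  refine kids_cons 77 22 rfl rfl (kid_child node448 (by decide +kernel) (by decide +kernel) (by decide +kernel)) ?_
  refine kids_cons 78 21 rfl rfl (kid_prune (by decide +kernel)) ?_
  refine kids_cons 79 20 rfl rfl (kid_child node449 (by decide +kernel) (by decide +kernel) (by decide +kernel)) ?_
  refine kids_cons 80 19 rfl rfl (kid_prune (by decide +kernel)) ?_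
  refine kids_cons 81 18 rfl rfl (kid_prune (by decide +kernel)) ?_
  refine kids_cons 82 17 rfl rfl (kid_child node450 (by decide +kernel) (by decide +kernel) (by decide +kernel)) ?_
  refine kids_cons 83 16 rfl rfl (kid_child node451 (by decide +kernel) (by decide +kernel) (by decide +kernel)) ?_
  refine kids_cons 84 15 rfl rfl (kid_child node452 (by decide +kernel) (by decide +kernel) (by decide +kernel)) ?_
  refine kids_cons 85 14 rfl rfl (kid_prune (by decide +kernel)) ?_
  refine kids_cons 86 13 rfl rfl (kid_prune (by decide +kernel)) ?_
  refine kids_cons 87 12 rfl rfl (kid_child node453 (by decide +kernel) (by decide +kernel) (by decide +kernel)) ?_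
  refine kids_cons 88 11 rfl rfl (kid_child node454 (by decide +kernel) (by decide +kernel) (by decide +kernel)) ?_
  refine kids_cons 89 10 rfl rfl (kid_child node455 (by decide +kernel) (by decide +kernel) (by decide +kernel)) ?_
  refine kids_cons 90 9 rfl rfl (kid_prune (by decide +kernel)) ?_
  refine kids_cons 91 8 rfl rfl (kid_prune (by decide +kernel)) ?_
  refine kids_cons 92 7 rfl rfl (kid_prune (by decide +kernel)) ?_
  refine kids_cons 93 6 rfl rfl (kid_child node456 (by decide +kernel) (by decide +kernel) (by decide +kernel)) ?_
  refine kids_cons 94 5 rfl rfl (kid_child node457 (by decide +kernel) (by decide +kernel) (by decide +kernel)) ?_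
  refine kids_cons 95 4 rfl rfl (kid_child node458 (by decide +kernel) (by decide +kernel) (by decide +kernel)) ?_
  refine kids_cons 96 3 rfl rfl (kid_prune (by decide +kernel)) ?_
  refine kids_cons 97 2 rfl rfl (kid_child node459 (by decide +kernel) (by decide +kernel) (by decide +kernel)) ?_
  refine kids_cons 98 1 rfl rfl (kid_prune (by decide +kernel)) ?_
  refine kids_cons 99 0 rfl rfl (kid_prune (by decide +kernel)) ?_
  exact kids_nil 99

theorem node477 : dfs 3 [7, 6, 6, 5, 5] 26 210 [1, 5, 6, 30, 2, 10, 3, 15, 7, 35, 42, 210, 14, 70, 21, 105] = true := by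
  refine node_of_kids 9 32 (by decide) (by decide) ?_
  refine kids_cons 10 31 rfl rfl (kid_child node421 (by decide +kernel) (by decide +kernel) (by decide +kernel)) ?_
  refine kids_cons 11 30 rfl rfl (kid_prune (by decide +kernel)) ?_
  refine kids_cons 12 29 rfl rfl (kid_child node422 (by decide +kernel) (by decide +kernel) (by decide +kernel)) ?_
  refine kids_cons 13 28 rfl rfl (kid_child node460 (by decide +kernel) (by decide +kernel) (by decide +kernel)) ?_
  refine kids_cons 14 27 rfl rfl (kid_child node461 (by decide +kernel) (by decide +kernel) (by decide +kernel)) ?_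
  refine kids_cons 15 26 rfl rfl (kid_prune (by decide +kernel)) ?_
  refine kids_cons 16 25 rfl rfl (kid_prune (by decide +kernel)) ?_
  refine kids_cons 17 24 rfl rfl (kid_child node462 (by decide +kernel) (by decide +kernel) (by decide +kernel)) ?_
  refine kids_cons 18 23 rfl rfl (kid_prune (by decide +kernel)) ?_
  refine kids_cons 19 22 rfl rfl (kid_child node463 (by decide +kernel) (by decide +kernel) (by decide +kernel)) ?_
  refine kids_cons 20 21 rfl rfl (kid_child node464 (by decide +kernel) (by decide +kernel) (by decide +kernel)) ?_
  refine kids_cons 21 20 rfl rfl (kid_prune (by decide +kernel)) ?_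
  refine kids_cons 22 19 rfl rfl (kid_prune (by decide +kernel)) ?_
  refine kids_cons 23 18 rfl rfl (kid_child node465 (by decide +kernel) (by decide +kernel) (by decide +kernel)) ?_
  refine kids_cons 24 17 rfl rfl (kid_child node466 (by decide +kernel) (by decide +kernel) (by decide +kernel)) ?_
  refine kids_cons 25 16 rfl rfl (kid_child node467 (by decide +kernel) (by decide +kernel) (by decide +kernel)) ?_
  refine kids_cons 26 15 rfl rfl (kid_prune (by decide +kernel)) ?_
  refine kids_cons 27 14 rfl rfl (kid_child node468 (by decide +kernel) (by decide +kernel) (by decide +kernel)) ?_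
  refine kids_cons 28 13 rfl rfl (kid_child node469 (by decide +kernel) (by decide +kernel) (by decide +kernel)) ?_
  refine kids_cons 29 12 rfl rfl (kid_prune (by decide +kernel)) ?_
  refine kids_cons 30 11 rfl rfl (kid_child node470 (by decide +kernel) (by decide +kernel) (by decide +kernel)) ?_
  refine kids_cons 31 10 rfl rfl (kid_prune (by decide +kernel)) ?_
  refine kids_cons 32 9 rfl rfl (kid_prune (by decide +kernel)) ?_
  refine kids_cons 33 8 rfl rfl (kid_child node471 (by decide +kernel) (by decide +kernel) (by decide +kernel)) ?_
  refine kids_cons 34 7 rfl rfl (kid_child node472 (by decide +kernel) (by decide +kernel) (by decide +kernel)) ?_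
  refine kids_cons 35 6 rfl rfl (kid_child node473 (by decide +kernel) (by decide +kernel) (by decide +kernel)) ?_
  refine kids_cons 36 5 rfl rfl (kid_prune (by decide +kernel)) ?_
  refine kids_cons 37 4 rfl rfl (kid_child node474 (by decide +kernel) (by decide +kernel) (by decide +kernel)) ?_
  refine kids_cons 38 3 rfl rfl (kid_prune (by decide +kernel)) ?_
  refine kids_cons 39 2 rfl rfl (kid_child node475 (by decide +kernel) (by decide +kernel) (by decide +kernel)) ?_
  refine kids_cons 40 1 rfl rfl (kid_child node476 (by decide +kernel) (by decide +kernel) (by decide +kernel)) ?_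
  refine kids_cons 41 0 rfl rfl (kid_prune (by decide +kernel)) ?_
  exact kids_nil 41

theorem node592 : dfs 2 [8, 8, 6, 6, 5, 5] 2 120 [1, 5, 6, 30, 2, 10, 3, 15, 4, 20, 24, 120, 8, 40, 12, 60, 2, 10, 12, 60, 4, 20, 6, 30, 2, 10, 12, 60, 4, 20, 6, 30] = true := by
  refine node_of_kids 61 180 (by decide) (by decide) ?_
  refine kids_cons 62 179 rfl rfl (kid_prune (by decide +kernel)) ?_
  refine kids_cons 63 178 rfl rfl (kid_child node478 (by decide +kernel) (by decide +kernel) (by decide +kernel)) ?_
  refine kids_cons 64 177 rfl rfl (kid_child node479 (by decide +kernel) (by decide +kernel) (by decide +kernel)) ?_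
  refine kids_cons 65 176 rfl rfl (kid_child node480 (by decide +kernel) (by decide +kernel) (by decide +kernel)) ?_
  refine kids_cons 66 175 rfl rfl (kid_prune (by decide +kernel)) ?_
  refine kids_cons 67 174 rfl rfl (kid_child node481 (by decide +kernel) (by decide +kernel) (by decide +kernel)) ?_
  refine kids_cons 68 173 rfl rfl (kid_prune (by decide +kernel)) ?_
  refine kids_cons 69 172 rfl rfl (kid_child node482 (by decide +kernel) (by decide +kernel) (by decide +kernel)) ?_
  refine kids_cons 70 171 rfl rfl (kid_child node483 (by decide +kernel) (by decide +kernel) (by decide +kernel)) ?_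
  refine kids_cons 71 170 rfl rfl (kid_prune (by decide +kernel)) ?_
  refine kids_cons 72 169 rfl rfl (kid_prune (by decide +kernel)) ?_
  refine kids_cons 73 168 rfl rfl (kid_child node484 (by decide +kernel) (by decide +kernel) (by decide +kernel)) ?_
  refine kids_cons 74 167 rfl rfl (kid_prune (by decide +kernel)) ?_
  refine kids_cons 75 166 rfl rfl (kid_child node485 (by decide +kernel) (by decide +kernel) (by decide +kernel)) ?_
  refine kids_cons 76 165 rfl rfl (kid_prune (by decide +kernel)) ?_
  refine kids_cons 77 164 rfl rfl (kid_child node486 (by decide +kernel) (by decide +kernel) (by decide +kernel)) ?_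
  refine kids_cons 78 163 rfl rfl (kid_child node487 (by decide +kernel) (by decide +kernel) (by decide +kernel)) ?_
  refine kids_cons 79 162 rfl rfl (kid_child node488 (by decide +kernel) (by decide +kernel) (by decide +kernel)) ?_
  refine kids_cons 80 161 rfl rfl (kid_prune (by decide +kernel)) ?_
  refine kids_cons 81 160 rfl rfl (kid_prune (by decide +kernel)) ?_
  refine kids_cons 82 159 rfl rfl (kid_child node489 (by decide +kernel) (by decide +kernel) (by decide +kernel)) ?_
  refine kids_cons 83 158 rfl rfl (kid_child node490 (by decide +kernel) (by decide +kernel) (by decide +kernel)) ?_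
  refine kids_cons 84 157 rfl rfl (kid_child node491 (by decide +kernel) (by decide +kernel) (by decide +kernel)) ?_
  refine kids_cons 85 156 rfl rfl (kid_child node492 (by decide +kernel) (by decide +kernel) (by decide +kernel)) ?_
  refine kids_cons 86 155 rfl rfl (kid_prune (by decide +kernel)) ?_
  refine kids_cons 87 154 rfl rfl (kid_child node493 (by decide +kernel) (by decide +kernel) (by decide +kernel)) ?_
  refine kids_cons 88 153 rfl rfl (kid_child node494 (by decide +kernel) (by decide +kernel) (by decide +kernel)) ?_
  refine kids_cons 89 152 rfl rfl (kid_child node495 (by decide +kernel) (by decide +kernel) (by decide +kernel)) ?_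
  refine kids_cons 90 151 rfl rfl (kid_prune (by decide +kernel)) ?_
  refine kids_cons 91 150 rfl rfl (kid_prune (by decide +kernel)) ?_
  refine kids_cons 92 149 rfl rfl (kid_child node496 (by decide +kernel) (by decide +kernel) (by decide +kernel)) ?_
  refine kids_cons 93 148 rfl rfl (kid_child node497 (by decide +kernel) (by decide +kernel) (by decide +kernel)) ?_
  refine kids_cons 94 147 rfl rfl (kid_child node498 (by decide +kernel) (by decide +kernel) (by decide +kernel)) ?_
  refine kids_cons 95 146 rfl rfl (kid_child node499 (by decide +kernel) (by decide +kernel) (by decide +kernel)) ?_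
  refine kids_cons 96 145 rfl rfl (kid_prune (by decide +kernel)) ?_
  refine kids_cons 97 144 rfl rfl (kid_child node500 (by decide +kernel) (by decide +kernel) (by decide +kernel)) ?_
  refine kids_cons 98 143 rfl rfl (kid_prune (by decide +kernel)) ?_
  refine kids_cons 99 142 rfl rfl (kid_child node501 (by decide +kernel) (by decide +kernel) (by decide +kernel)) ?_
  refine kids_cons 100 141 rfl rfl (kid_child node502 (by decide +kernel) (by decide +kernel) (by decide +kernel)) ?_
  refine kids_cons 101 140 rfl rfl (kid_prune (by decide +kernel)) ?_
  refine kids_cons 102 139 rfl rfl (kid_prune (by decide +kernel)) ?_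
  refine kids_cons 103 138 rfl rfl (kid_child node503 (by decide +kernel) (by decide +kernel) (by decide +kernel)) ?_
  refine kids_cons 104 137 rfl rfl (kid_prune (by decide +kernel)) ?_
  refine kids_cons 105 136 rfl rfl (kid_child node504 (by decide +kernel) (by decide +kernel) (by decide +kernel)) ?_
  refine kids_cons 106 135 rfl rfl (kid_prune (by decide +kernel)) ?_
  refine kids_cons 107 134 rfl rfl (kid_child node505 (by decide +kernel) (by decide +kernel) (by decide +kernel)) ?_
  refine kids_cons 108 133 rfl rfl (kid_child node506 (by decide +kernel) (by decide +kernel) (by decide +kernel)) ?_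
  refine kids_cons 109 132 rfl rfl (kid_child node507 (by decide +kernel) (by decide +kernel) (by decide +kernel)) ?_
  refine kids_cons 110 131 rfl rfl (kid_prune (by decide +kernel)) ?_
  refine kids_cons 111 130 rfl rfl (kid_prune (by decide +kernel)) ?_
  refine kids_cons 112 129 rfl rfl (kid_child node508 (by decide +kernel) (by decide +kernel) (by decide +kernel)) ?_
  refine kids_cons 113 128 rfl rfl (kid_child node509 (by decide +kernel) (by decide +kernel) (by decide +kernel)) ?_
  refine kids_cons 114 127 rfl rfl (kid_prune (by decide +kernel)) ?_
  refine kids_cons 115 126 rfl rfl (kid_child node510 (by decide +kernel) (by decide +kernel) (by decide +kernel)) ?_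
  refine kids_cons 116 125 rfl rfl (kid_prune (by decide +kernel)) ?_
  refine kids_cons 117 124 rfl rfl (kid_child node511 (by decide +kernel) (by decide +kernel) (by decide +kernel)) ?_
  refine kids_cons 118 123 rfl rfl (kid_child node512 (by decide +kernel) (by decide +kernel) (by decide +kernel)) ?_
  refine kids_cons 119 122 rfl rfl (kid_child node513 (by decide +kernel) (by decide +kernel) (by decide +kernel)) ?_
  refine kids_cons 120 121 rfl rfl (kid_child node514 (by decide +kernel) (by decide +kernel) (by decide +kernel)) ?_
  refine kids_cons 121 120 rfl rfl (kid_prune (by decide +kernel)) ?_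
  refine kids_cons 122 119 rfl rfl (kid_child node515 (by decide +kernel) (by decide +kernel) (by decide +kernel)) ?_
  refine kids_cons 123 118 rfl rfl (kid_child node516 (by decide +kernel) (by decide +kernel) (by decide +kernel)) ?_
  refine kids_cons 124 117 rfl rfl (kid_child node517 (by decide +kernel) (by decide +kernel) (by decide +kernel)) ?_
  refine kids_cons 125 116 rfl rfl (kid_child node518 (by decide +kernel) (by decide +kernel) (by decide +kernel)) ?_
  refine kids_cons 126 115 rfl rfl (kid_prune (by decide +kernel)) ?_
  refine kids_cons 127 114 rfl rfl (kid_child node519 (by decide +kernel) (by decide +kernel) (by decide +kernel)) ?_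
  refine kids_cons 128 113 rfl rfl (kid_prune (by decide +kernel)) ?_
  refine kids_cons 129 112 rfl rfl (kid_child node520 (by decide +kernel) (by decide +kernel) (by decide +kernel)) ?_
  refine kids_cons 130 111 rfl rfl (kid_child node521 (by decide +kernel) (by decide +kernel) (by decide +kernel)) ?_
  refine kids_cons 131 110 rfl rfl (kid_prune (by decide +kernel)) ?_
  refine kids_cons 132 109 rfl rfl (kid_prune (by decide +kernel)) ?_
  refine kids_cons 133 108 rfl rfl (kid_child node522 (by decide +kernel) (by decide +kernel) (by decide +kernel)) ?_
  refine kids_cons 134 107 rfl rfl (kid_child node523 (by decide +kernel) (by decide +kernel) (by decide +kernel)) ?_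
  refine kids_cons 135 106 rfl rfl (kid_child node524 (by decide +kernel) (by decide +kernel) (by decide +kernel)) ?_
  refine kids_cons 136 105 rfl rfl (kid_prune (by decide +kernel)) ?_
  refine kids_cons 137 104 rfl rfl (kid_child node525 (by decide +kernel) (by decide +kernel) (by decide +kernel)) ?_
  refine kids_cons 138 103 rfl rfl (kid_prune (by decide +kernel)) ?_
  refine kids_cons 139 102 rfl rfl (kid_child node526 (by decide +kernel) (by decide +kernel) (by decide +kernel)) ?_
  refine kids_cons 140 101 rfl rfl (kid_prune (by decide +kernel)) ?_
  refine kids_cons 141 100 rfl rfl (kid_prune (by decide +kernel)) ?_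
  refine kids_cons 142 99 rfl rfl (kid_child node527 (by decide +kernel) (by decide +kernel) (by decide +kernel)) ?_
  refine kids_cons 143 98 rfl rfl (kid_child node528 (by decide +kernel) (by decide +kernel) (by decide +kernel)) ?_
  refine kids_cons 144 97 rfl rfl (kid_child node529 (by decide +kernel) (by decide +kernel) (by decide +kernel)) ?_
  refine kids_cons 145 96 rfl rfl (kid_child node530 (by decide +kernel) (by decide +kernel) (by decide +kernel)) ?_
  refine kids_cons 146 95 rfl rfl (kid_prune (by decide +kernel)) ?_
  refine kids_cons 147 94 rfl rfl (kid_child node531 (by decide +kernel) (by decide +kernel) (by decide +kernel)) ?_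
  refine kids_cons 148 93 rfl rfl (kid_child node532 (by decide +kernel) (by decide +kernel) (by decide +kernel)) ?_
  refine kids_cons 149 92 rfl rfl (kid_child node533 (by decide +kernel) (by decide +kernel) (by decide +kernel)) ?_
  refine kids_cons 150 91 rfl rfl (kid_prune (by decide +kernel)) ?_
  refine kids_cons 151 90 rfl rfl (kid_prune (by decide +kernel)) ?_
  refine kids_cons 152 89 rfl rfl (kid_prune (by decide +kernel)) ?_
  refine kids_cons 153 88 rfl rfl (kid_child node534 (by decide +kernel) (by decide +kernel) (by decide +kernel)) ?_
  refine kids_cons 154 87 rfl rfl (kid_child node535 (by decide +kernel) (by decide +kernel) (by decide +kernel)) ?_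
  refine kids_cons 155 86 rfl rfl (kid_child node536 (by decide +kernel) (by decide +kernel) (by decide +kernel)) ?_
  refine kids_cons 156 85 rfl rfl (kid_prune (by decide +kernel)) ?_
  refine kids_cons 157 84 rfl rfl (kid_child node537 (by decide +kernel) (by decide +kernel) (by decide +kernel)) ?_
  refine kids_cons 158 83 rfl rfl (kid_prune (by decide +kernel)) ?_
  refine kids_cons 159 82 rfl rfl (kid_child node538 (by decide +kernel) (by decide +kernel) (by decide +kernel)) ?_
  refine kids_cons 160 81 rfl rfl (kid_child node539 (by decide +kernel) (by decide +kernel) (by decide +kernel)) ?_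
  refine kids_cons 161 80 rfl rfl (kid_prune (by decide +kernel)) ?_
  refine kids_cons 162 79 rfl rfl (kid_child node540 (by decide +kernel) (by decide +kernel) (by decide +kernel)) ?_
  refine kids_cons 163 78 rfl rfl (kid_child node541 (by decide +kernel) (by decide +kernel) (by decide +kernel)) ?_
  refine kids_cons 164 77 rfl rfl (kid_prune (by decide +kernel)) ?_
  refine kids_cons 165 76 rfl rfl (kid_child node542 (by decide +kernel) (by decide +kernel) (by decide +kernel)) ?_
  refine kids_cons 166 75 rfl rfl (kid_prune (by decide +kernel)) ?_
  refine kids_cons 167 74 rfl rfl (kid_child node543 (by decide +kernel) (by decide +kernel) (by decide +kernel)) ?_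
  refine kids_cons 168 73 rfl rfl (kid_child node544 (by decide +kernel) (by decide +kernel) (by decide +kernel)) ?_
  refine kids_cons 169 72 rfl rfl (kid_child node545 (by decide +kernel) (by decide +kernel) (by decide +kernel)) ?_
  refine kids_cons 170 71 rfl rfl (kid_child node546 (by decide +kernel) (by decide +kernel) (by decide +kernel)) ?_
  refine kids_cons 171 70 rfl rfl (kid_prune (by decide +kernel)) ?_
  refine kids_cons 172 69 rfl rfl (kid_child node547 (by decide +kernel) (by decide +kernel) (by decide +kernel)) ?_
  refine kids_cons 173 68 rfl rfl (kid_child node548 (by decide +kernel) (by decide +kernel) (by decide +kernel)) ?_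
  refine kids_cons 174 67 rfl rfl (kid_prune (by decide +kernel)) ?_
  refine kids_cons 175 66 rfl rfl (kid_child node549 (by decide +kernel) (by decide +kernel) (by decide +kernel)) ?_
  refine kids_cons 176 65 rfl rfl (kid_prune (by decide +kernel)) ?_
  refine kids_cons 177 64 rfl rfl (kid_child node550 (by decide +kernel) (by decide +kernel) (by decide +kernel)) ?_
  refine kids_cons 178 63 rfl rfl (kid_child node551 (by decide +kernel) (by decide +kernel) (by decide +kernel)) ?_
  refine kids_cons 179 62 rfl rfl (kid_child node552 (by decide +kernel) (by decide +kernel) (by decide +kernel)) ?_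
  refine kids_cons 180 61 rfl rfl (kid_child node553 (by decide +kernel) (by decide +kernel) (by decide +kernel)) ?_
  refine kids_cons 181 60 rfl rfl (kid_prune (by decide +kernel)) ?_
  refine kids_cons 182 59 rfl rfl (kid_prune (by decide +kernel)) ?_
  refine kids_cons 183 58 rfl rfl (kid_child node554 (by decide +kernel) (by decide +kernel) (by decide +kernel)) ?_
  refine kids_cons 184 57 rfl rfl (kid_child node555 (by decide +kernel) (by decide +kernel) (by decide +kernel)) ?_
  refine kids_cons 185 56 rfl rfl (kid_child node556 (by decide +kernel) (by decide +kernel) (by decide +kernel)) ?_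
  refine kids_cons 186 55 rfl rfl (kid_prune (by decide +kernel)) ?_
  refine kids_cons 187 54 rfl rfl (kid_child node557 (by decide +kernel) (by decide +kernel) (by decide +kernel)) ?_
  refine kids_cons 188 53 rfl rfl (kid_child node558 (by decide +kernel) (by decide +kernel) (by decide +kernel)) ?_
  refine kids_cons 189 52 rfl rfl (kid_child node559 (by decide +kernel) (by decide +kernel) (by decide +kernel)) ?_
  refine kids_cons 190 51 rfl rfl (kid_child node560 (by decide +kernel) (by decide +kernel) (by decide +kernel)) ?_
  refine kids_cons 191 50 rfl rfl (kid_prune (by decide +kernel)) ?_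
  refine kids_cons 192 49 rfl rfl (kid_prune (by decide +kernel)) ?_
  refine kids_cons 193 48 rfl rfl (kid_child node561 (by decide +kernel) (by decide +kernel) (by decide +kernel)) ?_
  refine kids_cons 194 47 rfl rfl (kid_prune (by decide +kernel)) ?_
  refine kids_cons 195 46 rfl rfl (kid_child node562 (by decide +kernel) (by decide +kernel) (by decide +kernel)) ?_
  refine kids_cons 196 45 rfl rfl (kid_prune (by decide +kernel)) ?_
  refine kids_cons 197 44 rfl rfl (kid_child node563 (by decide +kernel) (by decide +kernel) (by decide +kernel)) ?_
  refine kids_cons 198 43 rfl rfl (kid_prune (by decide +kernel)) ?_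
  refine kids_cons 199 42 rfl rfl (kid_child node564 (by decide +kernel) (by decide +kernel) (by decide +kernel)) ?_
  refine kids_cons 200 41 rfl rfl (kid_prune (by decide +kernel)) ?_
  refine kids_cons 201 40 rfl rfl (kid_prune (by decide +kernel)) ?_
  refine kids_cons 202 39 rfl rfl (kid_child node565 (by decide +kernel) (by decide +kernel) (by decide +kernel)) ?_
  refine kids_cons 203 38 rfl rfl (kid_child node566 (by decide +kernel) (by decide +kernel) (by decide +kernel)) ?_
  refine kids_cons 204 37 rfl rfl (kid_child node567 (by decide +kernel) (by decide +kernel) (by decide +kernel)) ?_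
  refine kids_cons 205 36 rfl rfl (kid_child node568 (by decide +kernel) (by decide +kernel) (by decide +kernel)) ?_
  refine kids_cons 206 35 rfl rfl (kid_prune (by decide +kernel)) ?_
  refine kids_cons 207 34 rfl rfl (kid_child node569 (by decide +kernel) (by decide +kernel) (by decide +kernel)) ?_
  refine kids_cons 208 33 rfl rfl (kid_child node570 (by decide +kernel) (by decide +kernel) (by decide +kernel)) ?_
  refine kids_cons 209 32 rfl rfl (kid_child node571 (by decide +kernel) (by decide +kernel) (by decide +kernel)) ?_
  refine kids_cons 210 31 rfl rfl (kid_child node572 (by decide +kernel) (by decide +kernel) (by decide +kernel)) ?_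
  refine kids_cons 211 30 rfl rfl (kid_prune (by decide +kernel)) ?_
  refine kids_cons 212 29 rfl rfl (kid_prune (by decide +kernel)) ?_
  refine kids_cons 213 28 rfl rfl (kid_child node573 (by decide +kernel) (by decide +kernel) (by decide +kernel)) ?_
  refine kids_cons 214 27 rfl rfl (kid_child node574 (by decide +kernel) (by decide +kernel) (by decide +kernel)) ?_
  refine kids_cons 215 26 rfl rfl (kid_child node575 (by decide +kernel) (by decide +kernel) (by decide +kernel)) ?_
  refine kids_cons 216 25 rfl rfl (kid_prune (by decide +kernel)) ?_
  refine kids_cons 217 24 rfl rfl (kid_child node576 (by decide +kernel) (by decide +kernel) (by decide +kernel)) ?_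
  refine kids_cons 218 23 rfl rfl (kid_child node577 (by decide +kernel) (by decide +kernel) (by decide +kernel)) ?_
  refine kids_cons 219 22 rfl rfl (kid_child node578 (by decide +kernel) (by decide +kernel) (by decide +kernel)) ?_
  refine kids_cons 220 21 rfl rfl (kid_child node579 (by decide +kernel) (by decide +kernel) (by decide +kernel)) ?_
  refine kids_cons 221 20 rfl rfl (kid_prune (by decide +kernel)) ?_
  refine kids_cons 222 19 rfl rfl (kid_child node580 (by decide +kernel) (by decide +kernel) (by decide +kernel)) ?_
  refine kids_cons 223 18 rfl rfl (kid_child node581 (by decide +kernel) (by decide +kernel) (by decide +kernel)) ?_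
  refine kids_cons 224 17 rfl rfl (kid_prune (by decide +kernel)) ?_
  refine kids_cons 225 16 rfl rfl (kid_child node582 (by decide +kernel) (by decide +kernel) (by decide +kernel)) ?_
  refine kids_cons 226 15 rfl rfl (kid_prune (by decide +kernel)) ?_
  refine kids_cons 227 14 rfl rfl (kid_child node583 (by decide +kernel) (by decide +kernel) (by decide +kernel)) ?_
  refine kids_cons 228 13 rfl rfl (kid_child node584 (by decide +kernel) (by decide +kernel) (by decide +kernel)) ?_
  refine kids_cons 229 12 rfl rfl (kid_child node585 (by decide +kernel) (by decide +kernel) (by decide +kernel)) ?_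
  refine kids_cons 230 11 rfl rfl (kid_prune (by decide +kernel)) ?_
  refine kids_cons 231 10 rfl rfl (kid_prune (by decide +kernel)) ?_
  refine kids_cons 232 9 rfl rfl (kid_child node586 (by decide +kernel) (by decide +kernel) (by decide +kernel)) ?_
  refine kids_cons 233 8 rfl rfl (kid_child node587 (by decide +kernel) (by decide +kernel) (by decide +kernel)) ?_
  refine kids_cons 234 7 rfl rfl (kid_prune (by decide +kernel)) ?_
  refine kids_cons 235 6 rfl rfl (kid_child node588 (by decide +kernel) (by decide +kernel) (by decide +kernel)) ?_
  refine kids_cons 236 5 rfl rfl (kid_prune (by decide +kernel)) ?_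
  refine kids_cons 237 4 rfl rfl (kid_child node589 (by decide +kernel) (by decide +kernel) (by decide +kernel)) ?_
  refine kids_cons 238 3 rfl rfl (kid_child node590 (by decide +kernel) (by decide +kernel) (by decide +kernel)) ?_
  refine kids_cons 239 2 rfl rfl (kid_child node591 (by decide +kernel) (by decide +kernel) (by decide +kernel)) ?_
  refine kids_cons 240 1 rfl rfl (kid_prune (by decide +kernel)) ?_
  refine kids_cons 241 0 rfl rfl (kid_prune (by decide +kernel)) ?_
  exact kids_nil 241

theorem node655 : dfs 2 [9, 8, 6, 6, 5, 5] 11 360 [1, 5, 6, 30, 2, 10, 3, 15, 4, 20, 24, 120, 8, 40, 12, 60, 2, 10, 12, 60, 4, 20, 6, 30, 2, 10, 12, 60, 4, 20, 6, 30, 3, 15, 18, 90, 6, 30, 9, 45, 12, 60, 72, 360, 24, 120, 36, 180, 6, 30, 36, 180, 12, 60, 18, 90, 6, 30, 36, 180, 12, 60, 18, 90] = true := by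
  refine node_of_kids 33 98 (by decide) (by decide) ?_
  refine kids_cons 34 97 rfl rfl (kid_child node593 (by decide +kernel) (by decide +kernel) (by decide +kernel)) ?_
  refine kids_cons 35 96 rfl rfl (kid_child node594 (by decide +kernel) (by decide +kernel) (by decide +kernel)) ?_
  refine kids_cons 36 95 rfl rfl (kid_prune (by decide +kernel)) ?_
  refine kids_cons 37 94 rfl rfl (kid_child node595 (by decide +kernel) (by decide +kernel) (by decide +kernel)) ?_
  refine kids_cons 38 93 rfl rfl (kid_prune (by decide +kernel)) ?_
  refine kids_cons 39 92 rfl rfl (kid_child node596 (by decide +kernel) (by decide +kernel) (by decide +kernel)) ?_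
  refine kids_cons 40 91 rfl rfl (kid_child node597 (by decide +kernel) (by decide +kernel) (by decide +kernel)) ?_
  refine kids_cons 41 90 rfl rfl (kid_prune (by decide +kernel)) ?_
  refine kids_cons 42 89 rfl rfl (kid_prune (by decide +kernel)) ?_
  refine kids_cons 43 88 rfl rfl (kid_child node598 (by decide +kernel) (by decide +kernel) (by decide +kernel)) ?_
  refine kids_cons 44 87 rfl rfl (kid_prune (by decide +kernel)) ?_
  refine kids_cons 45 86 rfl rfl (kid_child node599 (by decide +kernel) (by decide +kernel) (by decide +kernel)) ?_
  refine kids_cons 46 85 rfl rfl (kid_prune (by decide +kernel)) ?_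
  refine kids_cons 47 84 rfl rfl (kid_child node600 (by decide +kernel) (by decide +kernel) (by decide +kernel)) ?_
  refine kids_cons 48 83 rfl rfl (kid_child node601 (by decide +kernel) (by decide +kernel) (by decide +kernel)) ?_
  refine kids_cons 49 82 rfl rfl (kid_child node602 (by decide +kernel) (by decide +kernel) (by decide +kernel)) ?_
  refine kids_cons 50 81 rfl rfl (kid_child node603 (by decide +kernel) (by decide +kernel) (by decide +kernel)) ?_
  refine kids_cons 51 80 rfl rfl (kid_prune (by decide +kernel)) ?_
  refine kids_cons 52 79 rfl rfl (kid_child node604 (by decide +kernel) (by decide +kernel) (by decide +kernel)) ?_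
  refine kids_cons 53 78 rfl rfl (kid_child node605 (by decide +kernel) (by decide +kernel) (by decide +kernel)) ?_
  refine kids_cons 54 77 rfl rfl (kid_prune (by decide +kernel)) ?_
  refine kids_cons 55 76 rfl rfl (kid_child node606 (by decide +kernel) (by decide +kernel) (by decide +kernel)) ?_
  refine kids_cons 56 75 rfl rfl (kid_prune (by decide +kernel)) ?_
  refine kids_cons 57 74 rfl rfl (kid_child node607 (by decide +kernel) (by decide +kernel) (by decide +kernel)) ?_
  refine kids_cons 58 73 rfl rfl (kid_child node608 (by decide +kernel) (by decide +kernel) (by decide +kernel)) ?_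
  refine kids_cons 59 72 rfl rfl (kid_child node609 (by decide +kernel) (by decide +kernel) (by decide +kernel)) ?_
  refine kids_cons 60 71 rfl rfl (kid_child node610 (by decide +kernel) (by decide +kernel) (by decide +kernel)) ?_
  refine kids_cons 61 70 rfl rfl (kid_prune (by decide +kernel)) ?_
  refine kids_cons 62 69 rfl rfl (kid_prune (by decide +kernel)) ?_
  refine kids_cons 63 68 rfl rfl (kid_child node611 (by decide +kernel) (by decide +kernel) (by decide +kernel)) ?_
  refine kids_cons 64 67 rfl rfl (kid_child node612 (by decide +kernel) (by decide +kernel) (by decide +kernel)) ?_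
  refine kids_cons 65 66 rfl rfl (kid_child node613 (by decide +kernel) (by decide +kernel) (by decide +kernel)) ?_
  refine kids_cons 66 65 rfl rfl (kid_prune (by decide +kernel)) ?_
  refine kids_cons 67 64 rfl rfl (kid_child node614 (by decide +kernel) (by decide +kernel) (by decide +kernel)) ?_
  refine kids_cons 68 63 rfl rfl (kid_prune (by decide +kernel)) ?_
  refine kids_cons 69 62 rfl rfl (kid_child node615 (by decide +kernel) (by decide +kernel) (by decide +kernel)) ?_
  refine kids_cons 70 61 rfl rfl (kid_child node616 (by decide +kernel) (by decide +kernel) (by decide +kernel)) ?_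
  refine kids_cons 71 60 rfl rfl (kid_prune (by decide +kernel)) ?_
  refine kids_cons 72 59 rfl rfl (kid_prune (by decide +kernel)) ?_
  refine kids_cons 73 58 rfl rfl (kid_child node617 (by decide +kernel) (by decide +kernel) (by decide +kernel)) ?_
  refine kids_cons 74 57 rfl rfl (kid_prune (by decide +kernel)) ?_
  refine kids_cons 75 56 rfl rfl (kid_child node618 (by decide +kernel) (by decide +kernel) (by decide +kernel)) ?_
  refine kids_cons 76 55 rfl rfl (kid_prune (by decide +kernel)) ?_
  refine kids_cons 77 54 rfl rfl (kid_child node619 (by decide +kernel) (by decide +kernel) (by decide +kernel)) ?_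
  refine kids_cons 78 53 rfl rfl (kid_child node620 (by decide +kernel) (by decide +kernel) (by decide +kernel)) ?_
  refine kids_cons 79 52 rfl rfl (kid_child node621 (by decide +kernel) (by decide +kernel) (by decide +kernel)) ?_
  refine kids_cons 80 51 rfl rfl (kid_prune (by decide +kernel)) ?_
  refine kids_cons 81 50 rfl rfl (kid_prune (by decide +kernel)) ?_
  refine kids_cons 82 49 rfl rfl (kid_child node622 (by decide +kernel) (by decide +kernel) (by decide +kernel)) ?_
  refine kids_cons 83 48 rfl rfl (kid_child node623 (by decide +kernel) (by decide +kernel) (by decide +kernel)) ?_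
  refine kids_cons 84 47 rfl rfl (kid_child node624 (by decide +kernel) (by decide +kernel) (by decide +kernel)) ?_
  refine kids_cons 85 46 rfl rfl (kid_child node625 (by decide +kernel) (by decide +kernel) (by decide +kernel)) ?_
  refine kids_cons 86 45 rfl rfl (kid_prune (by decide +kernel)) ?_
  refine kids_cons 87 44 rfl rfl (kid_child node626 (by decide +kernel) (by decide +kernel) (by decide +kernel)) ?_
  refine kids_cons 88 43 rfl rfl (kid_child node627 (by decide +kernel) (by decide +kernel) (by decide +kernel)) ?_
  refine kids_cons 89 42 rfl rfl (kid_child node628 (by decide +kernel) (by decide +kernel) (by decide +kernel)) ?_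
  refine kids_cons 90 41 rfl rfl (kid_prune (by decide +kernel)) ?_
  refine kids_cons 91 40 rfl rfl (kid_prune (by decide +kernel)) ?_
  refine kids_cons 92 39 rfl rfl (kid_child node629 (by decide +kernel) (by decide +kernel) (by decide +kernel)) ?_
  refine kids_cons 93 38 rfl rfl (kid_child node630 (by decide +kernel) (by decide +kernel) (by decide +kernel)) ?_
  refine kids_cons 94 37 rfl rfl (kid_child node631 (by decide +kernel) (by decide +kernel) (by decide +kernel)) ?_
  refine kids_cons 95 36 rfl rfl (kid_child node632 (by decide +kernel) (by decide +kernel) (by decide +kernel)) ?_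
  refine kids_cons 96 35 rfl rfl (kid_prune (by decide +kernel)) ?_
  refine kids_cons 97 34 rfl rfl (kid_child node633 (by decide +kernel) (by decide +kernel) (by decide +kernel)) ?_
  refine kids_cons 98 33 rfl rfl (kid_prune (by decide +kernel)) ?_
  refine kids_cons 99 32 rfl rfl (kid_child node634 (by decide +kernel) (by decide +kernel) (by decide +kernel)) ?_
  refine kids_cons 100 31 rfl rfl (kid_child node635 (by decide +kernel) (by decide +kernel) (by decide +kernel)) ?_
  refine kids_cons 101 30 rfl rfl (kid_prune (by decide +kernel)) ?_
  refine kids_cons 102 29 rfl rfl (kid_prune (by decide +kernel)) ?_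
  refine kids_cons 103 28 rfl rfl (kid_child node636 (by decide +kernel) (by decide +kernel) (by decide +kernel)) ?_
  refine kids_cons 104 27 rfl rfl (kid_prune (by decide +kernel)) ?_
  refine kids_cons 105 26 rfl rfl (kid_child node637 (by decide +kernel) (by decide +kernel) (by decide +kernel)) ?_
  refine kids_cons 106 25 rfl rfl (kid_prune (by decide +kernel)) ?_
  refine kids_cons 107 24 rfl rfl (kid_child node638 (by decide +kernel) (by decide +kernel) (by decide +kernel)) ?_
  refine kids_cons 108 23 rfl rfl (kid_child node639 (by decide +kernel) (by decide +kernel) (by decide +kernel)) ?_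
  refine kids_cons 109 22 rfl rfl (kid_child node640 (by decide +kernel) (by decide +kernel) (by decide +kernel)) ?_
  refine kids_cons 110 21 rfl rfl (kid_prune (by decide +kernel)) ?_
  refine kids_cons 111 20 rfl rfl (kid_prune (by decide +kernel)) ?_
  refine kids_cons 112 19 rfl rfl (kid_child node641 (by decide +kernel) (by decide +kernel) (by decide +kernel)) ?_
  refine kids_cons 113 18 rfl rfl (kid_child node642 (by decide +kernel) (by decide +kernel) (by decide +kernel)) ?_
  refine kids_cons 114 17 rfl rfl (kid_prune (by decide +kernel)) ?_
  refine kids_cons 115 16 rfl rfl (kid_child node643 (by decide +kernel) (by decide +kernel) (by decide +kernel)) ?_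
  refine kids_cons 116 15 rfl rfl (kid_prune (by decide +kernel)) ?_
  refine kids_cons 117 14 rfl rfl (kid_child node644 (by decide +kernel) (by decide +kernel) (by decide +kernel)) ?_
  refine kids_cons 118 13 rfl rfl (kid_child node645 (by decide +kernel) (by decide +kernel) (by decide +kernel)) ?_
  refine kids_cons 119 12 rfl rfl (kid_child node646 (by decide +kernel) (by decide +kernel) (by decide +kernel)) ?_
  refine kids_cons 120 11 rfl rfl (kid_child node647 (by decide +kernel) (by decide +kernel) (by decide +kernel)) ?_
  refine kids_cons 121 10 rfl rfl (kid_prune (by decide +kernel)) ?_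
  refine kids_cons 122 9 rfl rfl (kid_child node648 (by decide +kernel) (by decide +kernel) (by decide +kernel)) ?_
  refine kids_cons 123 8 rfl rfl (kid_child node649 (by decide +kernel) (by decide +kernel) (by decide +kernel)) ?_
  refine kids_cons 124 7 rfl rfl (kid_child node650 (by decide +kernel) (by decide +kernel) (by decide +kernel)) ?_
  refine kids_cons 125 6 rfl rfl (kid_child node651 (by decide +kernel) (by decide +kernel) (by decide +kernel)) ?_
  refine kids_cons 126 5 rfl rfl (kid_prune (by decide +kernel)) ?_
  refine kids_cons 127 4 rfl rfl (kid_child node652 (by decide +kernel) (by decide +kernel) (by decide +kernel)) ?_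
  refine kids_cons 128 3 rfl rfl (kid_prune (by decide +kernel)) ?_
  refine kids_cons 129 2 rfl rfl (kid_child node653 (by decide +kernel) (by decide +kernel) (by decide +kernel)) ?_
  refine kids_cons 130 1 rfl rfl (kid_child node654 (by decide +kernel) (by decide +kernel) (by decide +kernel)) ?_
  refine kids_cons 131 0 rfl rfl (kid_prune (by decide +kernel)) ?_
  exact kids_nil 131

theorem node674 : dfs 3 [8, 6, 6, 5, 5] 17 120 [1, 5, 6, 30, 2, 10, 3, 15, 4, 20, 24, 120, 8, 40, 12, 60, 2, 10, 12, 60, 4, 20, 6, 30, 2, 10, 12, 60, 4, 20, 6, 30] = true := by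
  refine node_of_kids 8 28 (by decide) (by decide) ?_
  refine kids_cons 9 27 rfl rfl (kid_child node592 (by decide +kernel) (by decide +kernel) (by decide +kernel)) ?_
  refine kids_cons 10 26 rfl rfl (kid_child node655 (by decide +kernel) (by decide +kernel) (by decide +kernel)) ?_
  refine kids_cons 11 25 rfl rfl (kid_prune (by decide +kernel)) ?_
  refine kids_cons 12 24 rfl rfl (kid_child node656 (by decide +kernel) (by decide +kernel) (by decide +kernel)) ?_
  refine kids_cons 13 23 rfl rfl (kid_child node657 (by decide +kernel) (by decide +kernel) (by decide +kernel)) ?_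
  refine kids_cons 14 22 rfl rfl (kid_child node658 (by decide +kernel) (by decide +kernel) (by decide +kernel)) ?_
  refine kids_cons 15 21 rfl rfl (kid_child node659 (by decide +kernel) (by decide +kernel) (by decide +kernel)) ?_
  refine kids_cons 16 20 rfl rfl (kid_prune (by decide +kernel)) ?_
  refine kids_cons 17 19 rfl rfl (kid_child node660 (by decide +kernel) (by decide +kernel) (by decide +kernel)) ?_
  refine kids_cons 18 18 rfl rfl (kid_child node661 (by decide +kernel) (by decide +kernel) (by decide +kernel)) ?_
  refine kids_cons 19 17 rfl rfl (kid_child node662 (by decide +kernel) (by decide +kernel) (by decide +kernel)) ?_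
  refine kids_cons 20 16 rfl rfl (kid_child node663 (by decide +kernel) (by decide +kernel) (by decide +kernel)) ?_
  refine kids_cons 21 15 rfl rfl (kid_prune (by decide +kernel)) ?_
  refine kids_cons 22 14 rfl rfl (kid_child node664 (by decide +kernel) (by decide +kernel) (by decide +kernel)) ?_
  refine kids_cons 23 13 rfl rfl (kid_child node665 (by decide +kernel) (by decide +kernel) (by decide +kernel)) ?_
  refine kids_cons 24 12 rfl rfl (kid_child node666 (by decide +kernel) (by decide +kernel) (by decide +kernel)) ?_
  refine kids_cons 25 11 rfl rfl (kid_child node667 (by decide +kernel) (by decide +kernel) (by decide +kernel)) ?_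
  refine kids_cons 26 10 rfl rfl (kid_prune (by decide +kernel)) ?_
  refine kids_cons 27 9 rfl rfl (kid_child node668 (by decide +kernel) (by decide +kernel) (by decide +kernel)) ?_
  refine kids_cons 28 8 rfl rfl (kid_child node669 (by decide +kernel) (by decide +kernel) (by decide +kernel)) ?_
  refine kids_cons 29 7 rfl rfl (kid_child node670 (by decide +kernel) (by decide +kernel) (by decide +kernel)) ?_
  refine kids_cons 30 6 rfl rfl (kid_prune (by decide +kernel)) ?_
  refine kids_cons 31 5 rfl rfl (kid_prune (by decide +kernel)) ?_
  refine kids_cons 32 4 rfl rfl (kid_prune (by decide +kernel)) ?_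
  refine kids_cons 33 3 rfl rfl (kid_child node671 (by decide +kernel) (by decide +kernel) (by decide +kernel)) ?_
  refine kids_cons 34 2 rfl rfl (kid_child node672 (by decide +kernel) (by decide +kernel) (by decide +kernel)) ?_
  refine kids_cons 35 1 rfl rfl (kid_child node673 (by decide +kernel) (by decide +kernel) (by decide +kernel)) ?_
  refine kids_cons 36 0 rfl rfl (kid_prune (by decide +kernel)) ?_
  exact kids_nil 36

theorem node717 : dfs 2 [9, 9, 6, 6, 5, 5] 4 90 [1, 5, 6, 30, 2, 10, 3, 15, 3, 15, 18, 90, 6, 30, 9, 45] = true := by
  refine node_of_kids 23 68 (by decide) (by decide) ?_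
  refine kids_cons 24 67 rfl rfl (kid_child node675 (by decide +kernel) (by decide +kernel) (by decide +kernel)) ?_
  refine kids_cons 25 66 rfl rfl (kid_child node676 (by decide +kernel) (by decide +kernel) (by decide +kernel)) ?_
  refine kids_cons 26 65 rfl rfl (kid_prune (by decide +kernel)) ?_
  refine kids_cons 27 64 rfl rfl (kid_child node677 (by decide +kernel) (by decide +kernel) (by decide +kernel)) ?_
  refine kids_cons 28 63 rfl rfl (kid_child node678 (by decide +kernel) (by decide +kernel) (by decide +kernel)) ?_
  refine kids_cons 29 62 rfl rfl (kid_child node679 (by decide +kernel) (by decide +kernel) (by decide +kernel)) ?_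
  refine kids_cons 30 61 rfl rfl (kid_prune (by decide +kernel)) ?_
  refine kids_cons 31 60 rfl rfl (kid_prune (by decide +kernel)) ?_
  refine kids_cons 32 59 rfl rfl (kid_prune (by decide +kernel)) ?_
  refine kids_cons 33 58 rfl rfl (kid_child node680 (by decide +kernel) (by decide +kernel) (by decide +kernel)) ?_
  refine kids_cons 34 57 rfl rfl (kid_child node681 (by decide +kernel) (by decide +kernel) (by decide +kernel)) ?_
  refine kids_cons 35 56 rfl rfl (kid_child node682 (by decide +kernel) (by decide +kernel) (by decide +kernel)) ?_
  refine kids_cons 36 55 rfl rfl (kid_prune (by decide +kernel)) ?_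
  refine kids_cons 37 54 rfl rfl (kid_child node683 (by decide +kernel) (by decide +kernel) (by decide +kernel)) ?_
  refine kids_cons 38 53 rfl rfl (kid_prune (by decide +kernel)) ?_
  refine kids_cons 39 52 rfl rfl (kid_child node684 (by decide +kernel) (by decide +kernel) (by decide +kernel)) ?_
  refine kids_cons 40 51 rfl rfl (kid_child node685 (by decide +kernel) (by decide +kernel) (by decide +kernel)) ?_
  refine kids_cons 41 50 rfl rfl (kid_prune (by decide +kernel)) ?_
  refine kids_cons 42 49 rfl rfl (kid_prune (by decide +kernel)) ?_
  refine kids_cons 43 48 rfl rfl (kid_child node686 (by decide +kernel) (by decide +kernel) (by decide +kernel)) ?_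
  refine kids_cons 44 47 rfl rfl (kid_prune (by decide +kernel)) ?_
  refine kids_cons 45 46 rfl rfl (kid_child node687 (by decide +kernel) (by decide +kernel) (by decide +kernel)) ?_
  refine kids_cons 46 45 rfl rfl (kid_prune (by decide +kernel)) ?_
  refine kids_cons 47 44 rfl rfl (kid_child node688 (by decide +kernel) (by decide +kernel) (by decide +kernel)) ?_
  refine kids_cons 48 43 rfl rfl (kid_child node689 (by decide +kernel) (by decide +kernel) (by decide +kernel)) ?_
  refine kids_cons 49 42 rfl rfl (kid_child node690 (by decide +kernel) (by decide +kernel) (by decide +kernel)) ?_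
  refine kids_cons 50 41 rfl rfl (kid_child node691 (by decide +kernel) (by decide +kernel) (by decide +kernel)) ?_
  refine kids_cons 51 40 rfl rfl (kid_prune (by decide +kernel)) ?_
  refine kids_cons 52 39 rfl rfl (kid_child node692 (by decide +kernel) (by decide +kernel) (by decide +kernel)) ?_
  refine kids_cons 53 38 rfl rfl (kid_child node693 (by decide +kernel) (by decide +kernel) (by decide +kernel)) ?_
  refine kids_cons 54 37 rfl rfl (kid_prune (by decide +kernel)) ?_
  refine kids_cons 55 36 rfl rfl (kid_child node694 (by decide +kernel) (by decide +kernel) (by decide +kernel)) ?_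
  refine kids_cons 56 35 rfl rfl (kid_prune (by decide +kernel)) ?_
  refine kids_cons 57 34 rfl rfl (kid_child node695 (by decide +kernel) (by decide +kernel) (by decide +kernel)) ?_
  refine kids_cons 58 33 rfl rfl (kid_child node696 (by decide +kernel) (by decide +kernel) (by decide +kernel)) ?_
  refine kids_cons 59 32 rfl rfl (kid_child node697 (by decide +kernel) (by decide +kernel) (by decide +kernel)) ?_
  refine kids_cons 60 31 rfl rfl (kid_child node698 (by decide +kernel) (by decide +kernel) (by decide +kernel)) ?_
  refine kids_cons 61 30 rfl rfl (kid_prune (by decide +kernel)) ?_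
  refine kids_cons 62 29 rfl rfl (kid_prune (by decide +kernel)) ?_
  refine kids_cons 63 28 rfl rfl (kid_child node699 (by decide +kernel) (by decide +kernel) (by decide +kernel)) ?_
  refine kids_cons 64 27 rfl rfl (kid_child node700 (by decide +kernel) (by decide +kernel) (by decide +kernel)) ?_
  refine kids_cons 65 26 rfl rfl (kid_child node701 (by decide +kernel) (by decide +kernel) (by decide +kernel)) ?_
  refine kids_cons 66 25 rfl rfl (kid_prune (by decide +kernel)) ?_
  refine kids_cons 67 24 rfl rfl (kid_child node702 (by decide +kernel) (by decide +kernel) (by decide +kernel)) ?_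
  refine kids_cons 68 23 rfl rfl (kid_prune (by decide +kernel)) ?_
  refine kids_cons 69 22 rfl rfl (kid_child node703 (by decide +kernel) (by decide +kernel) (by decide +kernel)) ?_
  refine kids_cons 70 21 rfl rfl (kid_child node704 (by decide +kernel) (by decide +kernel) (by decide +kernel)) ?_
  refine kids_cons 71 20 rfl rfl (kid_prune (by decide +kernel)) ?_
  refine kids_cons 72 19 rfl rfl (kid_prune (by decide +kernel)) ?_
  refine kids_cons 73 18 rfl rfl (kid_child node705 (by decide +kernel) (by decide +kernel) (by decide +kernel)) ?_
  refine kids_cons 74 17 rfl rfl (kid_prune (by decide +kernel)) ?_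
  refine kids_cons 75 16 rfl rfl (kid_child node706 (by decide +kernel) (by decide +kernel) (by decide +kernel)) ?_
  refine kids_cons 76 15 rfl rfl (kid_prune (by decide +kernel)) ?_
  refine kids_cons 77 14 rfl rfl (kid_child node707 (by decide +kernel) (by decide +kernel) (by decide +kernel)) ?_
  refine kids_cons 78 13 rfl rfl (kid_child node708 (by decide +kernel) (by decide +kernel) (by decide +kernel)) ?_
  refine kids_cons 79 12 rfl rfl (kid_child node709 (by decide +kernel) (by decide +kernel) (by decide +kernel)) ?_
  refine kids_cons 80 11 rfl rfl (kid_prune (by decide +kernel)) ?_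
  refine kids_cons 81 10 rfl rfl (kid_prune (by decide +kernel)) ?_
  refine kids_cons 82 9 rfl rfl (kid_child node710 (by decide +kernel) (by decide +kernel) (by decide +kernel)) ?_
  refine kids_cons 83 8 rfl rfl (kid_child node711 (by decide +kernel) (by decide +kernel) (by decide +kernel)) ?_
  refine kids_cons 84 7 rfl rfl (kid_child node712 (by decide +kernel) (by decide +kernel) (by decide +kernel)) ?_
  refine kids_cons 85 6 rfl rfl (kid_child node713 (by decide +kernel) (by decide +kernel) (by decide +kernel)) ?_
  refine kids_cons 86 5 rfl rfl (kid_prune (by decide +kernel)) ?_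
  refine kids_cons 87 4 rfl rfl (kid_child node714 (by decide +kernel) (by decide +kernel) (by decide +kernel)) ?_
  refine kids_cons 88 3 rfl rfl (kid_child node715 (by decide +kernel) (by decide +kernel) (by decide +kernel)) ?_
  refine kids_cons 89 2 rfl rfl (kid_child node716 (by decide +kernel) (by decide +kernel) (by decide +kernel)) ?_
  refine kids_cons 90 1 rfl rfl (kid_prune (by decide +kernel)) ?_
  refine kids_cons 91 0 rfl rfl (kid_prune (by decide +kernel)) ?_
  exact kids_nil 91

theorem node733 : dfs 3 [9, 6, 6, 5, 5] 14 90 [1, 5, 6, 30, 2, 10, 3, 15, 3, 15, 18, 90, 6, 30, 9, 45] = true := by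
  refine node_of_kids 9 24 (by decide) (by decide) ?_
  refine kids_cons 10 23 rfl rfl (kid_child node717 (by decide +kernel) (by decide +kernel) (by decide +kernel)) ?_
  refine kids_cons 11 22 rfl rfl (kid_prune (by decide +kernel)) ?_
  refine kids_cons 12 21 rfl rfl (kid_child node718 (by decide +kernel) (by decide +kernel) (by decide +kernel)) ?_
  refine kids_cons 13 20 rfl rfl (kid_child node719 (by decide +kernel) (by decide +kernel) (by decide +kernel)) ?_
  refine kids_cons 14 19 rfl rfl (kid_child node720 (by decide +kernel) (by decide +kernel) (by decide +kernel)) ?_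
  refine kids_cons 15 18 rfl rfl (kid_child node721 (by decide +kernel) (by decide +kernel) (by decide +kernel)) ?_
  refine kids_cons 16 17 rfl rfl (kid_prune (by decide +kernel)) ?_
  refine kids_cons 17 16 rfl rfl (kid_child node722 (by decide +kernel) (by decide +kernel) (by decide +kernel)) ?_
  refine kids_cons 18 15 rfl rfl (kid_prune (by decide +kernel)) ?_
  refine kids_cons 19 14 rfl rfl (kid_child node723 (by decide +kernel) (by decide +kernel) (by decide +kernel)) ?_
  refine kids_cons 20 13 rfl rfl (kid_child node724 (by decide +kernel) (by decide +kernel) (by decide +kernel)) ?_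
  refine kids_cons 21 12 rfl rfl (kid_prune (by decide +kernel)) ?_
  refine kids_cons 22 11 rfl rfl (kid_child node725 (by decide +kernel) (by decide +kernel) (by decide +kernel)) ?_
  refine kids_cons 23 10 rfl rfl (kid_child node726 (by decide +kernel) (by decide +kernel) (by decide +kernel)) ?_
  refine kids_cons 24 9 rfl rfl (kid_child node727 (by decide +kernel) (by decide +kernel) (by decide +kernel)) ?_
  refine kids_cons 25 8 rfl rfl (kid_child node728 (by decide +kernel) (by decide +kernel) (by decide +kernel)) ?_
  refine kids_cons 26 7 rfl rfl (kid_prune (by decide +kernel)) ?_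
  refine kids_cons 27 6 rfl rfl (kid_child node729 (by decide +kernel) (by decide +kernel) (by decide +kernel)) ?_
  refine kids_cons 28 5 rfl rfl (kid_child node730 (by decide +kernel) (by decide +kernel) (by decide +kernel)) ?_
  refine kids_cons 29 4 rfl rfl (kid_child node731 (by decide +kernel) (by decide +kernel) (by decide +kernel)) ?_
  refine kids_cons 30 3 rfl rfl (kid_prune (by decide +kernel)) ?_
  refine kids_cons 31 2 rfl rfl (kid_prune (by decide +kernel)) ?_
  refine kids_cons 32 1 rfl rfl (kid_prune (by decide +kernel)) ?_
  refine kids_cons 33 0 rfl rfl (kid_child node732 (by decide +kernel) (by decide +kernel) (by decide +kernel)) ?_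
  exact kids_nil 33

theorem node747 : dfs 3 [11, 6, 6, 5, 5] 58 330 [1, 5, 6, 30, 2, 10, 3, 15, 11, 55, 66, 330, 22, 110, 33, 165] = true := by
  refine node_of_kids 11 18 (by decide) (by decide) ?_
  refine kids_cons 12 17 rfl rfl (kid_child node734 (by decide +kernel) (by decide +kernel) (by decide +kernel)) ?_
  refine kids_cons 13 16 rfl rfl (kid_child node735 (by decide +kernel) (by decide +kernel) (by decide +kernel)) ?_
  refine kids_cons 14 15 rfl rfl (kid_child node736 (by decide +kernel) (by decide +kernel) (by decide +kernel)) ?_
  refine kids_cons 15 14 rfl rfl (kid_child node737 (by decide +kernel) (by decide +kernel) (by decide +kernel)) ?_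
  refine kids_cons 16 13 rfl rfl (kid_prune (by decide +kernel)) ?_
  refine kids_cons 17 12 rfl rfl (kid_child node738 (by decide +kernel) (by decide +kernel) (by decide +kernel)) ?_
  refine kids_cons 18 11 rfl rfl (kid_prune (by decide +kernel)) ?_
  refine kids_cons 19 10 rfl rfl (kid_child node739 (by decide +kernel) (by decide +kernel) (by decide +kernel)) ?_
  refine kids_cons 20 9 rfl rfl (kid_child node740 (by decide +kernel) (by decide +kernel) (by decide +kernel)) ?_
  refine kids_cons 21 8 rfl rfl (kid_prune (by decide +kernel)) ?_
  refine kids_cons 22 7 rfl rfl (kid_child node741 (by decide +kernel) (by decide +kernel) (by decide +kernel)) ?_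
  refine kids_cons 23 6 rfl rfl (kid_prune (by decide +kernel)) ?_
  refine kids_cons 24 5 rfl rfl (kid_child node742 (by decide +kernel) (by decide +kernel) (by decide +kernel)) ?_
  refine kids_cons 25 4 rfl rfl (kid_child node743 (by decide +kernel) (by decide +kernel) (by decide +kernel)) ?_
  refine kids_cons 26 3 rfl rfl (kid_prune (by decide +kernel)) ?_
  refine kids_cons 27 2 rfl rfl (kid_child node744 (by decide +kernel) (by decide +kernel) (by decide +kernel)) ?_
  refine kids_cons 28 1 rfl rfl (kid_child node745 (by decide +kernel) (by decide +kernel) (by decide +kernel)) ?_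
  refine kids_cons 29 0 rfl rfl (kid_child node746 (by decide +kernel) (by decide +kernel) (by decide +kernel)) ?_
  exact kids_nil 29

theorem node757 : dfs 4 [6, 6, 5, 5] 8 30 [1, 5, 6, 30, 2, 10, 3, 15] = true := by
  refine node_of_kids 6 17 (by decide) (by decide) ?_
  refine kids_cons 7 16 rfl rfl (kid_child node296 (by decide +kernel) (by decide +kernel) (by decide +kernel)) ?_
  refine kids_cons 8 15 rfl rfl (kid_child node477 (by decide +kernel) (by decide +kernel) (by decide +kernel)) ?_
  refine kids_cons 9 14 rfl rfl (kid_child node674 (by decide +kernel) (by decide +kernel) (by decide +kernel)) ?_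
  refine kids_cons 10 13 rfl rfl (kid_child node733 (by decide +kernel) (by decide +kernel) (by decide +kernel)) ?_
  refine kids_cons 11 12 rfl rfl (kid_prune (by decide +kernel)) ?_
  refine kids_cons 12 11 rfl rfl (kid_child node747 (by decide +kernel) (by decide +kernel) (by decide +kernel)) ?_
  refine kids_cons 13 10 rfl rfl (kid_child node748 (by decide +kernel) (by decide +kernel) (by decide +kernel)) ?_
  refine kids_cons 14 9 rfl rfl (kid_child node749 (by decide +kernel) (by decide +kernel) (by decide +kernel)) ?_
  refine kids_cons 15 8 rfl rfl (kid_child node750 (by decide +kernel) (by decide +kernel) (by decide +kernel)) ?_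
  refine kids_cons 16 7 rfl rfl (kid_prune (by decide +kernel)) ?_
  refine kids_cons 17 6 rfl rfl (kid_child node751 (by decide +kernel) (by decide +kernel) (by decide +kernel)) ?_
  refine kids_cons 18 5 rfl rfl (kid_child node752 (by decide +kernel) (by decide +kernel) (by decide +kernel)) ?_
  refine kids_cons 19 4 rfl rfl (kid_child node753 (by decide +kernel) (by decide +kernel) (by decide +kernel)) ?_
  refine kids_cons 20 3 rfl rfl (kid_child node754 (by decide +kernel) (by decide +kernel) (by decide +kernel)) ?_
  refine kids_cons 21 2 rfl rfl (kid_prune (by decide +kernel)) ?_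
  refine kids_cons 22 1 rfl rfl (kid_child node755 (by decide +kernel) (by decide +kernel) (by decide +kernel)) ?_
  refine kids_cons 23 0 rfl rfl (kid_child node756 (by decide +kernel) (by decide +kernel) (by decide +kernel)) ?_
  exact kids_nil 23

theorem node1102 : dfs 2 [7, 7, 7, 6, 5, 5] 1 210 [1, 5, 6, 30, 2, 10, 3, 15, 7, 35, 42, 210, 14, 70, 21, 105] = true := by
  refine node_of_kids 211 630 (by decide) (by decide) ?_
  refine kids_cons 212 629 rfl rfl (kid_prune (by decide +kernel)) ?_
  refine kids_cons 213 628 rfl rfl (kid_child node758 (by decide +kernel) (by decide +kernel) (by decide +kernel)) ?_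
  refine kids_cons 214 627 rfl rfl (kid_child node759 (by decide +kernel) (by decide +kernel) (by decide +kernel)) ?_
  refine kids_cons 215 626 rfl rfl (kid_child node760 (by decide +kernel) (by decide +kernel) (by decide +kernel)) ?_
  refine kids_cons 216 625 rfl rfl (kid_prune (by decide +kernel)) ?_
  refine kids_cons 217 624 rfl rfl (kid_child node761 (by decide +kernel) (by decide +kernel) (by decide +kernel)) ?_
  refine kids_cons 218 623 rfl rfl (kid_prune (by decide +kernel)) ?_
  refine kids_cons 219 622 rfl rfl (kid_child node762 (by decide +kernel) (by decide +kernel) (by decide +kernel)) ?_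
  refine kids_cons 220 621 rfl rfl (kid_child node763 (by decide +kernel) (by decide +kernel) (by decide +kernel)) ?_
  refine kids_cons 221 620 rfl rfl (kid_prune (by decide +kernel)) ?_
  refine kids_cons 222 619 rfl rfl (kid_child node764 (by decide +kernel) (by decide +kernel) (by decide +kernel)) ?_
  refine kids_cons 223 618 rfl rfl (kid_child node765 (by decide +kernel) (by decide +kernel) (by decide +kernel)) ?_
  refine kids_cons 224 617 rfl rfl (kid_prune (by decide +kernel)) ?_
  refine kids_cons 225 616 rfl rfl (kid_prune (by decide +kernel)) ?_
  refine kids_cons 226 615 rfl rfl (kid_prune (by decide +kernel)) ?_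
  refine kids_cons 227 614 rfl rfl (kid_child node766 (by decide +kernel) (by decide +kernel) (by decide +kernel)) ?_
  refine kids_cons 228 613 rfl rfl (kid_child node767 (by decide +kernel) (by decide +kernel) (by decide +kernel)) ?_
  refine kids_cons 229 612 rfl rfl (kid_child node768 (by decide +kernel) (by decide +kernel) (by decide +kernel)) ?_
  refine kids_cons 230 611 rfl rfl (kid_prune (by decide +kernel)) ?_
  refine kids_cons 231 610 rfl rfl (kid_prune (by decide +kernel)) ?_
  refine kids_cons 232 609 rfl rfl (kid_prune (by decide +kernel)) ?_
  refine kids_cons 233 608 rfl rfl (kid_child node769 (by decide +kernel) (by decide +kernel) (by decide +kernel)) ?_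
  refine kids_cons 234 607 rfl rfl (kid_prune (by decide +kernel)) ?_
  refine kids_cons 235 606 rfl rfl (kid_child node770 (by decide +kernel) (by decide +kernel) (by decide +kernel)) ?_
  refine kids_cons 236 605 rfl rfl (kid_prune (by decide +kernel)) ?_
  refine kids_cons 237 604 rfl rfl (kid_child node771 (by decide +kernel) (by decide +kernel) (by decide +kernel)) ?_
  refine kids_cons 238 603 rfl rfl (kid_child node772 (by decide +kernel) (by decide +kernel) (by decide +kernel)) ?_
  refine kids_cons 239 602 rfl rfl (kid_prune (by decide +kernel)) ?_
  refine kids_cons 240 601 rfl rfl (kid_prune (by decide +kernel)) ?_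
  refine kids_cons 241 600 rfl rfl (kid_prune (by decide +kernel)) ?_
  refine kids_cons 242 599 rfl rfl (kid_prune (by decide +kernel)) ?_
  refine kids_cons 243 598 rfl rfl (kid_child node773 (by decide +kernel) (by decide +kernel) (by decide +kernel)) ?_
  refine kids_cons 244 597 rfl rfl (kid_child node774 (by decide +kernel) (by decide +kernel) (by decide +kernel)) ?_
  refine kids_cons 245 596 rfl rfl (kid_child node775 (by decide +kernel) (by decide +kernel) (by decide +kernel)) ?_
  refine kids_cons 246 595 rfl rfl (kid_prune (by decide +kernel)) ?_
  refine kids_cons 247 594 rfl rfl (kid_child node776 (by decide +kernel) (by decide +kernel) (by decide +kernel)) ?_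
  refine kids_cons 248 593 rfl rfl (kid_child node777 (by decide +kernel) (by decide +kernel) (by decide +kernel)) ?_
  refine kids_cons 249 592 rfl rfl (kid_child node778 (by decide +kernel) (by decide +kernel) (by decide +kernel)) ?_
  refine kids_cons 250 591 rfl rfl (kid_child node779 (by decide +kernel) (by decide +kernel) (by decide +kernel)) ?_
  refine kids_cons 251 590 rfl rfl (kid_prune (by decide +kernel)) ?_
  refine kids_cons 252 589 rfl rfl (kid_prune (by decide +kernel)) ?_
  refine kids_cons 253 588 rfl rfl (kid_prune (by decide +kernel)) ?_
  refine kids_cons 254 587 rfl rfl (kid_child node780 (by decide +kernel) (by decide +kernel) (by decide +kernel)) ?_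
  refine kids_cons 255 586 rfl rfl (kid_child node781 (by decide +kernel) (by decide +kernel) (by decide +kernel)) ?_
  refine kids_cons 256 585 rfl rfl (kid_prune (by decide +kernel)) ?_
  refine kids_cons 257 584 rfl rfl (kid_child node782 (by decide +kernel) (by decide +kernel) (by decide +kernel)) ?_
  refine kids_cons 258 583 rfl rfl (kid_prune (by decide +kernel)) ?_
  refine kids_cons 259 582 rfl rfl (kid_child node783 (by decide +kernel) (by decide +kernel) (by decide +kernel)) ?_
  refine kids_cons 260 581 rfl rfl (kid_prune (by decide +kernel)) ?_
  refine kids_cons 261 580 rfl rfl (kid_prune (by decide +kernel)) ?_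
  refine kids_cons 262 579 rfl rfl (kid_child node784 (by decide +kernel) (by decide +kernel) (by decide +kernel)) ?_
  refine kids_cons 263 578 rfl rfl (kid_child node785 (by decide +kernel) (by decide +kernel) (by decide +kernel)) ?_
  refine kids_cons 264 577 rfl rfl (kid_child node786 (by decide +kernel) (by decide +kernel) (by decide +kernel)) ?_
  refine kids_cons 265 576 rfl rfl (kid_child node787 (by decide +kernel) (by decide +kernel) (by decide +kernel)) ?_
  refine kids_cons 266 575 rfl rfl (kid_prune (by decide +kernel)) ?_
  refine kids_cons 267 574 rfl rfl (kid_prune (by decide +kernel)) ?_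
  refine kids_cons 268 573 rfl rfl (kid_child node788 (by decide +kernel) (by decide +kernel) (by decide +kernel)) ?_
  refine kids_cons 269 572 rfl rfl (kid_child node789 (by decide +kernel) (by decide +kernel) (by decide +kernel)) ?_
  refine kids_cons 270 571 rfl rfl (kid_prune (by decide +kernel)) ?_
  refine kids_cons 271 570 rfl rfl (kid_prune (by decide +kernel)) ?_
  refine kids_cons 272 569 rfl rfl (kid_prune (by decide +kernel)) ?_
  refine kids_cons 273 568 rfl rfl (kid_child node790 (by decide +kernel) (by decide +kernel) (by decide +kernel)) ?_
  refine kids_cons 274 567 rfl rfl (kid_prune (by decide +kernel)) ?_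
  refine kids_cons 275 566 rfl rfl (kid_child node791 (by decide +kernel) (by decide +kernel) (by decide +kernel)) ?_
  refine kids_cons 276 565 rfl rfl (kid_prune (by decide +kernel)) ?_
  refine kids_cons 277 564 rfl rfl (kid_child node792 (by decide +kernel) (by decide +kernel) (by decide +kernel)) ?_
  refine kids_cons 278 563 rfl rfl (kid_prune (by decide +kernel)) ?_
  refine kids_cons 279 562 rfl rfl (kid_child node793 (by decide +kernel) (by decide +kernel) (by decide +kernel)) ?_
  refine kids_cons 280 561 rfl rfl (kid_child node794 (by decide +kernel) (by decide +kernel) (by decide +kernel)) ?_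
  refine kids_cons 281 560 rfl rfl (kid_prune (by decide +kernel)) ?_
  refine kids_cons 282 559 rfl rfl (kid_prune (by decide +kernel)) ?_
  refine kids_cons 283 558 rfl rfl (kid_child node795 (by decide +kernel) (by decide +kernel) (by decide +kernel)) ?_
  refine kids_cons 284 557 rfl rfl (kid_prune (by decide +kernel)) ?_
  refine kids_cons 285 556 rfl rfl (kid_child node796 (by decide +kernel) (by decide +kernel) (by decide +kernel)) ?_
  refine kids_cons 286 555 rfl rfl (kid_prune (by decide +kernel)) ?_
  refine kids_cons 287 554 rfl rfl (kid_child node797 (by decide +kernel) (by decide +kernel) (by decide +kernel)) ?_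
  refine kids_cons 288 553 rfl rfl (kid_prune (by decide +kernel)) ?_
  refine kids_cons 289 552 rfl rfl (kid_child node798 (by decide +kernel) (by decide +kernel) (by decide +kernel)) ?_
  refine kids_cons 290 551 rfl rfl (kid_child node799 (by decide +kernel) (by decide +kernel) (by decide +kernel)) ?_
  refine kids_cons 291 550 rfl rfl (kid_prune (by decide +kernel)) ?_
  refine kids_cons 292 549 rfl rfl (kid_child node800 (by decide +kernel) (by decide +kernel) (by decide +kernel)) ?_
  refine kids_cons 293 548 rfl rfl (kid_child node801 (by decide +kernel) (by decide +kernel) (by decide +kernel)) ?_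
  refine kids_cons 294 547 rfl rfl (kid_prune (by decide +kernel)) ?_
  refine kids_cons 295 546 rfl rfl (kid_prune (by decide +kernel)) ?_
  refine kids_cons 296 545 rfl rfl (kid_prune (by decide +kernel)) ?_
  refine kids_cons 297 544 rfl rfl (kid_child node802 (by decide +kernel) (by decide +kernel) (by decide +kernel)) ?_
  refine kids_cons 298 543 rfl rfl (kid_child node803 (by decide +kernel) (by decide +kernel) (by decide +kernel)) ?_
  refine kids_cons 299 542 rfl rfl (kid_child node804 (by decide +kernel) (by decide +kernel) (by decide +kernel)) ?_
  refine kids_cons 300 541 rfl rfl (kid_child node805 (by decide +kernel) (by decide +kernel) (by decide +kernel)) ?_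
  refine kids_cons 301 540 rfl rfl (kid_prune (by decide +kernel)) ?_
  refine kids_cons 302 539 rfl rfl (kid_prune (by decide +kernel)) ?_
  refine kids_cons 303 538 rfl rfl (kid_child node806 (by decide +kernel) (by decide +kernel) (by decide +kernel)) ?_
  refine kids_cons 304 537 rfl rfl (kid_child node807 (by decide +kernel) (by decide +kernel) (by decide +kernel)) ?_
  refine kids_cons 305 536 rfl rfl (kid_child node808 (by decide +kernel) (by decide +kernel) (by decide +kernel)) ?_
  refine kids_cons 306 535 rfl rfl (kid_prune (by decide +kernel)) ?_
  refine kids_cons 307 534 rfl rfl (kid_child node809 (by decide +kernel) (by decide +kernel) (by decide +kernel)) ?_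
  refine kids_cons 308 533 rfl rfl (kid_prune (by decide +kernel)) ?_
  refine kids_cons 309 532 rfl rfl (kid_prune (by decide +kernel)) ?_
  refine kids_cons 310 531 rfl rfl (kid_child node810 (by decide +kernel) (by decide +kernel) (by decide +kernel)) ?_
  refine kids_cons 311 530 rfl rfl (kid_prune (by decide +kernel)) ?_
  refine kids_cons 312 529 rfl rfl (kid_prune (by decide +kernel)) ?_
  refine kids_cons 313 528 rfl rfl (kid_child node811 (by decide +kernel) (by decide +kernel) (by decide +kernel)) ?_
  refine kids_cons 314 527 rfl rfl (kid_prune (by decide +kernel)) ?_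
  refine kids_cons 315 526 rfl rfl (kid_child node812 (by decide +kernel) (by decide +kernel) (by decide +kernel)) ?_
  refine kids_cons 316 525 rfl rfl (kid_prune (by decide +kernel)) ?_
  refine kids_cons 317 524 rfl rfl (kid_child node813 (by decide +kernel) (by decide +kernel) (by decide +kernel)) ?_
  refine kids_cons 318 523 rfl rfl (kid_prune (by decide +kernel)) ?_
  refine kids_cons 319 522 rfl rfl (kid_child node814 (by decide +kernel) (by decide +kernel) (by decide +kernel)) ?_
  refine kids_cons 320 521 rfl rfl (kid_child node815 (by decide +kernel) (by decide +kernel) (by decide +kernel)) ?_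
  refine kids_cons 321 520 rfl rfl (kid_prune (by decide +kernel)) ?_
  refine kids_cons 322 519 rfl rfl (kid_child node816 (by decide +kernel) (by decide +kernel) (by decide +kernel)) ?_
  refine kids_cons 323 518 rfl rfl (kid_prune (by decide +kernel)) ?_
  refine kids_cons 324 517 rfl rfl (kid_child node817 (by decide +kernel) (by decide +kernel) (by decide +kernel)) ?_
  refine kids_cons 325 516 rfl rfl (kid_child node818 (by decide +kernel) (by decide +kernel) (by decide +kernel)) ?_
  refine kids_cons 326 515 rfl rfl (kid_prune (by decide +kernel)) ?_
  refine kids_cons 327 514 rfl rfl (kid_child node819 (by decide +kernel) (by decide +kernel) (by decide +kernel)) ?_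
  refine kids_cons 328 513 rfl rfl (kid_child node820 (by decide +kernel) (by decide +kernel) (by decide +kernel)) ?_
  refine kids_cons 329 512 rfl rfl (kid_child node821 (by decide +kernel) (by decide +kernel) (by decide +kernel)) ?_
  refine kids_cons 330 511 rfl rfl (kid_prune (by decide +kernel)) ?_
  refine kids_cons 331 510 rfl rfl (kid_prune (by decide +kernel)) ?_
  refine kids_cons 332 509 rfl rfl (kid_prune (by decide +kernel)) ?_
  refine kids_cons 333 508 rfl rfl (kid_child node822 (by decide +kernel) (by decide +kernel) (by decide +kernel)) ?_
  refine kids_cons 334 507 rfl rfl (kid_child node823 (by decide +kernel) (by decide +kernel) (by decide +kernel)) ?_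
  refine kids_cons 335 506 rfl rfl (kid_child node824 (by decide +kernel) (by decide +kernel) (by decide +kernel)) ?_
  refine kids_cons 336 505 rfl rfl (kid_prune (by decide +kernel)) ?_
  refine kids_cons 337 504 rfl rfl (kid_prune (by decide +kernel)) ?_
  refine kids_cons 338 503 rfl rfl (kid_prune (by decide +kernel)) ?_
  refine kids_cons 339 502 rfl rfl (kid_child node825 (by decide +kernel) (by decide +kernel) (by decide +kernel)) ?_
  refine kids_cons 340 501 rfl rfl (kid_child node826 (by decide +kernel) (by decide +kernel) (by decide +kernel)) ?_
  refine kids_cons 341 500 rfl rfl (kid_prune (by decide +kernel)) ?_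
  refine kids_cons 342 499 rfl rfl (kid_child node827 (by decide +kernel) (by decide +kernel) (by decide +kernel)) ?_
  refine kids_cons 343 498 rfl rfl (kid_child node828 (by decide +kernel) (by decide +kernel) (by decide +kernel)) ?_
  refine kids_cons 344 497 rfl rfl (kid_prune (by decide +kernel)) ?_
  refine kids_cons 345 496 rfl rfl (kid_child node829 (by decide +kernel) (by decide +kernel) (by decide +kernel)) ?_
  refine kids_cons 346 495 rfl rfl (kid_prune (by decide +kernel)) ?_
  refine kids_cons 347 494 rfl rfl (kid_child node830 (by decide +kernel) (by decide +kernel) (by decide +kernel)) ?_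
  refine kids_cons 348 493 rfl rfl (kid_child node831 (by decide +kernel) (by decide +kernel) (by decide +kernel)) ?_
  refine kids_cons 349 492 rfl rfl (kid_child node832 (by decide +kernel) (by decide +kernel) (by decide +kernel)) ?_
  refine kids_cons 350 491 rfl rfl (kid_prune (by decide +kernel)) ?_
  refine kids_cons 351 490 rfl rfl (kid_prune (by decide +kernel)) ?_
  refine kids_cons 352 489 rfl rfl (kid_child node833 (by decide +kernel) (by decide +kernel) (by decide +kernel)) ?_
  refine kids_cons 353 488 rfl rfl (kid_child node834 (by decide +kernel) (by decide +kernel) (by decide +kernel)) ?_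
  refine kids_cons 354 487 rfl rfl (kid_prune (by decide +kernel)) ?_
  refine kids_cons 355 486 rfl rfl (kid_child node835 (by decide +kernel) (by decide +kernel) (by decide +kernel)) ?_
  refine kids_cons 356 485 rfl rfl (kid_prune (by decide +kernel)) ?_
  refine kids_cons 357 484 rfl rfl (kid_child node836 (by decide +kernel) (by decide +kernel) (by decide +kernel)) ?_
  refine kids_cons 358 483 rfl rfl (kid_prune (by decide +kernel)) ?_
  refine kids_cons 359 482 rfl rfl (kid_child node837 (by decide +kernel) (by decide +kernel) (by decide +kernel)) ?_
  refine kids_cons 360 481 rfl rfl (kid_child node838 (by decide +kernel) (by decide +kernel) (by decide +kernel)) ?_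
  refine kids_cons 361 480 rfl rfl (kid_prune (by decide +kernel)) ?_
  refine kids_cons 362 479 rfl rfl (kid_child node839 (by decide +kernel) (by decide +kernel) (by decide +kernel)) ?_
  refine kids_cons 363 478 rfl rfl (kid_child node840 (by decide +kernel) (by decide +kernel) (by decide +kernel)) ?_
  refine kids_cons 364 477 rfl rfl (kid_child node841 (by decide +kernel) (by decide +kernel) (by decide +kernel)) ?_
  refine kids_cons 365 476 rfl rfl (kid_prune (by decide +kernel)) ?_
  refine kids_cons 366 475 rfl rfl (kid_prune (by decide +kernel)) ?_
  refine kids_cons 367 474 rfl rfl (kid_child node842 (by decide +kernel) (by decide +kernel) (by decide +kernel)) ?_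
  refine kids_cons 368 473 rfl rfl (kid_prune (by decide +kernel)) ?_
  refine kids_cons 369 472 rfl rfl (kid_child node843 (by decide +kernel) (by decide +kernel) (by decide +kernel)) ?_
  refine kids_cons 370 471 rfl rfl (kid_child node844 (by decide +kernel) (by decide +kernel) (by decide +kernel)) ?_
  refine kids_cons 371 470 rfl rfl (kid_prune (by decide +kernel)) ?_
  refine kids_cons 372 469 rfl rfl (kid_prune (by decide +kernel)) ?_
  refine kids_cons 373 468 rfl rfl (kid_child node845 (by decide +kernel) (by decide +kernel) (by decide +kernel)) ?_
  refine kids_cons 374 467 rfl rfl (kid_prune (by decide +kernel)) ?_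
  refine kids_cons 375 466 rfl rfl (kid_child node846 (by decide +kernel) (by decide +kernel) (by decide +kernel)) ?_
  refine kids_cons 376 465 rfl rfl (kid_prune (by decide +kernel)) ?_
  refine kids_cons 377 464 rfl rfl (kid_child node847 (by decide +kernel) (by decide +kernel) (by decide +kernel)) ?_
  refine kids_cons 378 463 rfl rfl (kid_child node848 (by decide +kernel) (by decide +kernel) (by decide +kernel)) ?_
  refine kids_cons 379 462 rfl rfl (kid_prune (by decide +kernel)) ?_
  refine kids_cons 380 461 rfl rfl (kid_prune (by decide +kernel)) ?_
  refine kids_cons 381 460 rfl rfl (kid_prune (by decide +kernel)) ?_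
  refine kids_cons 382 459 rfl rfl (kid_child node849 (by decide +kernel) (by decide +kernel) (by decide +kernel)) ?_
  refine kids_cons 383 458 rfl rfl (kid_child node850 (by decide +kernel) (by decide +kernel) (by decide +kernel)) ?_
  refine kids_cons 384 457 rfl rfl (kid_child node851 (by decide +kernel) (by decide +kernel) (by decide +kernel)) ?_
  refine kids_cons 385 456 rfl rfl (kid_child node852 (by decide +kernel) (by decide +kernel) (by decide +kernel)) ?_
  refine kids_cons 386 455 rfl rfl (kid_prune (by decide +kernel)) ?_
  refine kids_cons 387 454 rfl rfl (kid_child node853 (by decide +kernel) (by decide +kernel) (by decide +kernel)) ?_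
  refine kids_cons 388 453 rfl rfl (kid_child node854 (by decide +kernel) (by decide +kernel) (by decide +kernel)) ?_
  refine kids_cons 389 452 rfl rfl (kid_child node855 (by decide +kernel) (by decide +kernel) (by decide +kernel)) ?_
  refine kids_cons 390 451 rfl rfl (kid_prune (by decide +kernel)) ?_
  refine kids_cons 391 450 rfl rfl (kid_prune (by decide +kernel)) ?_
  refine kids_cons 392 449 rfl rfl (kid_child node856 (by decide +kernel) (by decide +kernel) (by decide +kernel)) ?_
  refine kids_cons 393 448 rfl rfl (kid_prune (by decide +kernel)) ?_
  refine kids_cons 394 447 rfl rfl (kid_child node857 (by decide +kernel) (by decide +kernel) (by decide +kernel)) ?_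
  refine kids_cons 395 446 rfl rfl (kid_child node858 (by decide +kernel) (by decide +kernel) (by decide +kernel)) ?_
  refine kids_cons 396 445 rfl rfl (kid_prune (by decide +kernel)) ?_
  refine kids_cons 397 444 rfl rfl (kid_child node859 (by decide +kernel) (by decide +kernel) (by decide +kernel)) ?_
  refine kids_cons 398 443 rfl rfl (kid_prune (by decide +kernel)) ?_
  refine kids_cons 399 442 rfl rfl (kid_child node860 (by decide +kernel) (by decide +kernel) (by decide +kernel)) ?_
  refine kids_cons 400 441 rfl rfl (kid_prune (by decide +kernel)) ?_
  refine kids_cons 401 440 rfl rfl (kid_prune (by decide +kernel)) ?_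
  refine kids_cons 402 439 rfl rfl (kid_prune (by decide +kernel)) ?_
  refine kids_cons 403 438 rfl rfl (kid_child node861 (by decide +kernel) (by decide +kernel) (by decide +kernel)) ?_
  refine kids_cons 404 437 rfl rfl (kid_child node862 (by decide +kernel) (by decide +kernel) (by decide +kernel)) ?_
  refine kids_cons 405 436 rfl rfl (kid_child node863 (by decide +kernel) (by decide +kernel) (by decide +kernel)) ?_
  refine kids_cons 406 435 rfl rfl (kid_prune (by decide +kernel)) ?_
  refine kids_cons 407 434 rfl rfl (kid_prune (by decide +kernel)) ?_
  refine kids_cons 408 433 rfl rfl (kid_child node864 (by decide +kernel) (by decide +kernel) (by decide +kernel)) ?_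
  refine kids_cons 409 432 rfl rfl (kid_child node865 (by decide +kernel) (by decide +kernel) (by decide +kernel)) ?_
  refine kids_cons 410 431 rfl rfl (kid_prune (by decide +kernel)) ?_
  refine kids_cons 411 430 rfl rfl (kid_prune (by decide +kernel)) ?_
  refine kids_cons 412 429 rfl rfl (kid_child node866 (by decide +kernel) (by decide +kernel) (by decide +kernel)) ?_
  refine kids_cons 413 428 rfl rfl (kid_child node867 (by decide +kernel) (by decide +kernel) (by decide +kernel)) ?_
  refine kids_cons 414 427 rfl rfl (kid_prune (by decide +kernel)) ?_
  refine kids_cons 415 426 rfl rfl (kid_child node868 (by decide +kernel) (by decide +kernel) (by decide +kernel)) ?_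
  refine kids_cons 416 425 rfl rfl (kid_prune (by decide +kernel)) ?_
  refine kids_cons 417 424 rfl rfl (kid_child node869 (by decide +kernel) (by decide +kernel) (by decide +kernel)) ?_
  refine kids_cons 418 423 rfl rfl (kid_child node870 (by decide +kernel) (by decide +kernel) (by decide +kernel)) ?_
  refine kids_cons 419 422 rfl rfl (kid_child node871 (by decide +kernel) (by decide +kernel) (by decide +kernel)) ?_
  refine kids_cons 420 421 rfl rfl (kid_prune (by decide +kernel)) ?_
  refine kids_cons 421 420 rfl rfl (kid_prune (by decide +kernel)) ?_
  refine kids_cons 422 419 rfl rfl (kid_prune (by decide +kernel)) ?_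
  refine kids_cons 423 418 rfl rfl (kid_child node872 (by decide +kernel) (by decide +kernel) (by decide +kernel)) ?_
  refine kids_cons 424 417 rfl rfl (kid_child node873 (by decide +kernel) (by decide +kernel) (by decide +kernel)) ?_
  refine kids_cons 425 416 rfl rfl (kid_child node874 (by decide +kernel) (by decide +kernel) (by decide +kernel)) ?_
  refine kids_cons 426 415 rfl rfl (kid_prune (by decide +kernel)) ?_
  refine kids_cons 427 414 rfl rfl (kid_child node875 (by decide +kernel) (by decide +kernel) (by decide +kernel)) ?_
  refine kids_cons 428 413 rfl rfl (kid_prune (by decide +kernel)) ?_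
  refine kids_cons 429 412 rfl rfl (kid_child node876 (by decide +kernel) (by decide +kernel) (by decide +kernel)) ?_
  refine kids_cons 430 411 rfl rfl (kid_child node877 (by decide +kernel) (by decide +kernel) (by decide +kernel)) ?_
  refine kids_cons 431 410 rfl rfl (kid_prune (by decide +kernel)) ?_
  refine kids_cons 432 409 rfl rfl (kid_prune (by decide +kernel)) ?_
  refine kids_cons 433 408 rfl rfl (kid_child node878 (by decide +kernel) (by decide +kernel) (by decide +kernel)) ?_
  refine kids_cons 434 407 rfl rfl (kid_prune (by decide +kernel)) ?_
  refine kids_cons 435 406 rfl rfl (kid_prune (by decide +kernel)) ?_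
  refine kids_cons 436 405 rfl rfl (kid_prune (by decide +kernel)) ?_
  refine kids_cons 437 404 rfl rfl (kid_child node879 (by decide +kernel) (by decide +kernel) (by decide +kernel)) ?_
  refine kids_cons 438 403 rfl rfl (kid_child node880 (by decide +kernel) (by decide +kernel) (by decide +kernel)) ?_
  refine kids_cons 439 402 rfl rfl (kid_child node881 (by decide +kernel) (by decide +kernel) (by decide +kernel)) ?_
  refine kids_cons 440 401 rfl rfl (kid_prune (by decide +kernel)) ?_
  refine kids_cons 441 400 rfl rfl (kid_prune (by decide +kernel)) ?_
  refine kids_cons 442 399 rfl rfl (kid_prune (by decide +kernel)) ?_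
  refine kids_cons 443 398 rfl rfl (kid_child node882 (by decide +kernel) (by decide +kernel) (by decide +kernel)) ?_
  refine kids_cons 444 397 rfl rfl (kid_prune (by decide +kernel)) ?_
  refine kids_cons 445 396 rfl rfl (kid_child node883 (by decide +kernel) (by decide +kernel) (by decide +kernel)) ?_
  refine kids_cons 446 395 rfl rfl (kid_prune (by decide +kernel)) ?_
  refine kids_cons 447 394 rfl rfl (kid_child node884 (by decide +kernel) (by decide +kernel) (by decide +kernel)) ?_
  refine kids_cons 448 393 rfl rfl (kid_child node885 (by decide +kernel) (by decide +kernel) (by decide +kernel)) ?_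
  refine kids_cons 449 392 rfl rfl (kid_prune (by decide +kernel)) ?_
  refine kids_cons 450 391 rfl rfl (kid_prune (by decide +kernel)) ?_
  refine kids_cons 451 390 rfl rfl (kid_prune (by decide +kernel)) ?_
  refine kids_cons 452 389 rfl rfl (kid_child node886 (by decide +kernel) (by decide +kernel) (by decide +kernel)) ?_
  refine kids_cons 453 388 rfl rfl (kid_child node887 (by decide +kernel) (by decide +kernel) (by decide +kernel)) ?_
  refine kids_cons 454 387 rfl rfl (kid_child node888 (by decide +kernel) (by decide +kernel) (by decide +kernel)) ?_
  refine kids_cons 455 386 rfl rfl (kid_child node889 (by decide +kernel) (by decide +kernel) (by decide +kernel)) ?_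
  refine kids_cons 456 385 rfl rfl (kid_prune (by decide +kernel)) ?_
  refine kids_cons 457 384 rfl rfl (kid_child node890 (by decide +kernel) (by decide +kernel) (by decide +kernel)) ?_
  refine kids_cons 458 383 rfl rfl (kid_prune (by decide +kernel)) ?_
  refine kids_cons 459 382 rfl rfl (kid_child node891 (by decide +kernel) (by decide +kernel) (by decide +kernel)) ?_
  refine kids_cons 460 381 rfl rfl (kid_child node892 (by decide +kernel) (by decide +kernel) (by decide +kernel)) ?_
  refine kids_cons 461 380 rfl rfl (kid_prune (by decide +kernel)) ?_
  refine kids_cons 462 379 rfl rfl (kid_prune (by decide +kernel)) ?_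
  refine kids_cons 463 378 rfl rfl (kid_prune (by decide +kernel)) ?_
  refine kids_cons 464 377 rfl rfl (kid_prune (by decide +kernel)) ?_
  refine kids_cons 465 376 rfl rfl (kid_child node893 (by decide +kernel) (by decide +kernel) (by decide +kernel)) ?_
  refine kids_cons 466 375 rfl rfl (kid_prune (by decide +kernel)) ?_
  refine kids_cons 467 374 rfl rfl (kid_child node894 (by decide +kernel) (by decide +kernel) (by decide +kernel)) ?_
  refine kids_cons 468 373 rfl rfl (kid_child node895 (by decide +kernel) (by decide +kernel) (by decide +kernel)) ?_
  refine kids_cons 469 372 rfl rfl (kid_child node896 (by decide +kernel) (by decide +kernel) (by decide +kernel)) ?_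
  refine kids_cons 470 371 rfl rfl (kid_prune (by decide +kernel)) ?_
  refine kids_cons 471 370 rfl rfl (kid_prune (by decide +kernel)) ?_
  refine kids_cons 472 369 rfl rfl (kid_child node897 (by decide +kernel) (by decide +kernel) (by decide +kernel)) ?_
  refine kids_cons 473 368 rfl rfl (kid_child node898 (by decide +kernel) (by decide +kernel) (by decide +kernel)) ?_
  refine kids_cons 474 367 rfl rfl (kid_child node899 (by decide +kernel) (by decide +kernel) (by decide +kernel)) ?_
  refine kids_cons 475 366 rfl rfl (kid_child node900 (by decide +kernel) (by decide +kernel) (by decide +kernel)) ?_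
  refine kids_cons 476 365 rfl rfl (kid_prune (by decide +kernel)) ?_
  refine kids_cons 477 364 rfl rfl (kid_prune (by decide +kernel)) ?_
  refine kids_cons 478 363 rfl rfl (kid_child node901 (by decide +kernel) (by decide +kernel) (by decide +kernel)) ?_
  refine kids_cons 479 362 rfl rfl (kid_child node902 (by decide +kernel) (by decide +kernel) (by decide +kernel)) ?_
  refine kids_cons 480 361 rfl rfl (kid_child node903 (by decide +kernel) (by decide +kernel) (by decide +kernel)) ?_
  refine kids_cons 481 360 rfl rfl (kid_prune (by decide +kernel)) ?_
  refine kids_cons 482 359 rfl rfl (kid_child node904 (by decide +kernel) (by decide +kernel) (by decide +kernel)) ?_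
  refine kids_cons 483 358 rfl rfl (kid_child node905 (by decide +kernel) (by decide +kernel) (by decide +kernel)) ?_
  refine kids_cons 484 357 rfl rfl (kid_prune (by decide +kernel)) ?_
  refine kids_cons 485 356 rfl rfl (kid_child node906 (by decide +kernel) (by decide +kernel) (by decide +kernel)) ?_
  refine kids_cons 486 355 rfl rfl (kid_prune (by decide +kernel)) ?_
  refine kids_cons 487 354 rfl rfl (kid_child node907 (by decide +kernel) (by decide +kernel) (by decide +kernel)) ?_
  refine kids_cons 488 353 rfl rfl (kid_prune (by decide +kernel)) ?_
  refine kids_cons 489 352 rfl rfl (kid_child node908 (by decide +kernel) (by decide +kernel) (by decide +kernel)) ?_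
  refine kids_cons 490 351 rfl rfl (kid_child node909 (by decide +kernel) (by decide +kernel) (by decide +kernel)) ?_
  refine kids_cons 491 350 rfl rfl (kid_prune (by decide +kernel)) ?_
  refine kids_cons 492 349 rfl rfl (kid_prune (by decide +kernel)) ?_
  refine kids_cons 493 348 rfl rfl (kid_child node910 (by decide +kernel) (by decide +kernel) (by decide +kernel)) ?_
  refine kids_cons 494 347 rfl rfl (kid_child node911 (by decide +kernel) (by decide +kernel) (by decide +kernel)) ?_
  refine kids_cons 495 346 rfl rfl (kid_child node912 (by decide +kernel) (by decide +kernel) (by decide +kernel)) ?_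
  refine kids_cons 496 345 rfl rfl (kid_prune (by decide +kernel)) ?_
  refine kids_cons 497 344 rfl rfl (kid_child node913 (by decide +kernel) (by decide +kernel) (by decide +kernel)) ?_
  refine kids_cons 498 343 rfl rfl (kid_prune (by decide +kernel)) ?_
  refine kids_cons 499 342 rfl rfl (kid_child node914 (by decide +kernel) (by decide +kernel) (by decide +kernel)) ?_
  refine kids_cons 500 341 rfl rfl (kid_prune (by decide +kernel)) ?_
  refine kids_cons 501 340 rfl rfl (kid_prune (by decide +kernel)) ?_
  refine kids_cons 502 339 rfl rfl (kid_child node915 (by decide +kernel) (by decide +kernel) (by decide +kernel)) ?_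
  refine kids_cons 503 338 rfl rfl (kid_child node916 (by decide +kernel) (by decide +kernel) (by decide +kernel)) ?_
  refine kids_cons 504 337 rfl rfl (kid_child node917 (by decide +kernel) (by decide +kernel) (by decide +kernel)) ?_
  refine kids_cons 505 336 rfl rfl (kid_prune (by decide +kernel)) ?_
  refine kids_cons 506 335 rfl rfl (kid_prune (by decide +kernel)) ?_
  refine kids_cons 507 334 rfl rfl (kid_child node918 (by decide +kernel) (by decide +kernel) (by decide +kernel)) ?_
  refine kids_cons 508 333 rfl rfl (kid_child node919 (by decide +kernel) (by decide +kernel) (by decide +kernel)) ?_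
  refine kids_cons 509 332 rfl rfl (kid_child node920 (by decide +kernel) (by decide +kernel) (by decide +kernel)) ?_
  refine kids_cons 510 331 rfl rfl (kid_prune (by decide +kernel)) ?_
  refine kids_cons 511 330 rfl rfl (kid_prune (by decide +kernel)) ?_
  refine kids_cons 512 329 rfl rfl (kid_prune (by decide +kernel)) ?_
  refine kids_cons 513 328 rfl rfl (kid_child node921 (by decide +kernel) (by decide +kernel) (by decide +kernel)) ?_
  refine kids_cons 514 327 rfl rfl (kid_child node922 (by decide +kernel) (by decide +kernel) (by decide +kernel)) ?_
  refine kids_cons 515 326 rfl rfl (kid_child node923 (by decide +kernel) (by decide +kernel) (by decide +kernel)) ?_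
  refine kids_cons 516 325 rfl rfl (kid_prune (by decide +kernel)) ?_
  refine kids_cons 517 324 rfl rfl (kid_child node924 (by decide +kernel) (by decide +kernel) (by decide +kernel)) ?_
  refine kids_cons 518 323 rfl rfl (kid_child node925 (by decide +kernel) (by decide +kernel) (by decide +kernel)) ?_
  refine kids_cons 519 322 rfl rfl (kid_prune (by decide +kernel)) ?_
  refine kids_cons 520 321 rfl rfl (kid_child node926 (by decide +kernel) (by decide +kernel) (by decide +kernel)) ?_
  refine kids_cons 521 320 rfl rfl (kid_prune (by decide +kernel)) ?_
  refine kids_cons 522 319 rfl rfl (kid_prune (by decide +kernel)) ?_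
  refine kids_cons 523 318 rfl rfl (kid_child node927 (by decide +kernel) (by decide +kernel) (by decide +kernel)) ?_
  refine kids_cons 524 317 rfl rfl (kid_prune (by decide +kernel)) ?_
  refine kids_cons 525 316 rfl rfl (kid_child node928 (by decide +kernel) (by decide +kernel) (by decide +kernel)) ?_
  refine kids_cons 526 315 rfl rfl (kid_prune (by decide +kernel)) ?_
  refine kids_cons 527 314 rfl rfl (kid_child node929 (by decide +kernel) (by decide +kernel) (by decide +kernel)) ?_
  refine kids_cons 528 313 rfl rfl (kid_child node930 (by decide +kernel) (by decide +kernel) (by decide +kernel)) ?_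
  refine kids_cons 529 312 rfl rfl (kid_child node931 (by decide +kernel) (by decide +kernel) (by decide +kernel)) ?_
  refine kids_cons 530 311 rfl rfl (kid_child node932 (by decide +kernel) (by decide +kernel) (by decide +kernel)) ?_
  refine kids_cons 531 310 rfl rfl (kid_prune (by decide +kernel)) ?_
  refine kids_cons 532 309 rfl rfl (kid_child node933 (by decide +kernel) (by decide +kernel) (by decide +kernel)) ?_
  refine kids_cons 533 308 rfl rfl (kid_prune (by decide +kernel)) ?_
  refine kids_cons 534 307 rfl rfl (kid_child node934 (by decide +kernel) (by decide +kernel) (by decide +kernel)) ?_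
  refine kids_cons 535 306 rfl rfl (kid_child node935 (by decide +kernel) (by decide +kernel) (by decide +kernel)) ?_
  refine kids_cons 536 305 rfl rfl (kid_prune (by decide +kernel)) ?_
  refine kids_cons 537 304 rfl rfl (kid_child node936 (by decide +kernel) (by decide +kernel) (by decide +kernel)) ?_
  refine kids_cons 538 303 rfl rfl (kid_child node937 (by decide +kernel) (by decide +kernel) (by decide +kernel)) ?_
  refine kids_cons 539 302 rfl rfl (kid_child node938 (by decide +kernel) (by decide +kernel) (by decide +kernel)) ?_
  refine kids_cons 540 301 rfl rfl (kid_prune (by decide +kernel)) ?_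
  refine kids_cons 541 300 rfl rfl (kid_prune (by decide +kernel)) ?_
  refine kids_cons 542 299 rfl rfl (kid_prune (by decide +kernel)) ?_
  refine kids_cons 543 298 rfl rfl (kid_child node939 (by decide +kernel) (by decide +kernel) (by decide +kernel)) ?_
  refine kids_cons 544 297 rfl rfl (kid_child node940 (by decide +kernel) (by decide +kernel) (by decide +kernel)) ?_
  refine kids_cons 545 296 rfl rfl (kid_child node941 (by decide +kernel) (by decide +kernel) (by decide +kernel)) ?_
  refine kids_cons 546 295 rfl rfl (kid_prune (by decide +kernel)) ?_
  refine kids_cons 547 294 rfl rfl (kid_prune (by decide +kernel)) ?_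
  refine kids_cons 548 293 rfl rfl (kid_prune (by decide +kernel)) ?_
  refine kids_cons 549 292 rfl rfl (kid_child node942 (by decide +kernel) (by decide +kernel) (by decide +kernel)) ?_
  refine kids_cons 550 291 rfl rfl (kid_child node943 (by decide +kernel) (by decide +kernel) (by decide +kernel)) ?_
  refine kids_cons 551 290 rfl rfl (kid_prune (by decide +kernel)) ?_
  refine kids_cons 552 289 rfl rfl (kid_child node944 (by decide +kernel) (by decide +kernel) (by decide +kernel)) ?_
  refine kids_cons 553 288 rfl rfl (kid_child node945 (by decide +kernel) (by decide +kernel) (by decide +kernel)) ?_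
  refine kids_cons 554 287 rfl rfl (kid_prune (by decide +kernel)) ?_
  refine kids_cons 555 286 rfl rfl (kid_child node946 (by decide +kernel) (by decide +kernel) (by decide +kernel)) ?_
  refine kids_cons 556 285 rfl rfl (kid_prune (by decide +kernel)) ?_
  refine kids_cons 557 284 rfl rfl (kid_child node947 (by decide +kernel) (by decide +kernel) (by decide +kernel)) ?_
  refine kids_cons 558 283 rfl rfl (kid_prune (by decide +kernel)) ?_
  refine kids_cons 559 282 rfl rfl (kid_child node948 (by decide +kernel) (by decide +kernel) (by decide +kernel)) ?_
  refine kids_cons 560 281 rfl rfl (kid_child node949 (by decide +kernel) (by decide +kernel) (by decide +kernel)) ?_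
  refine kids_cons 561 280 rfl rfl (kid_prune (by decide +kernel)) ?_
  refine kids_cons 562 279 rfl rfl (kid_child node950 (by decide +kernel) (by decide +kernel) (by decide +kernel)) ?_
  refine kids_cons 563 278 rfl rfl (kid_child node951 (by decide +kernel) (by decide +kernel) (by decide +kernel)) ?_
  refine kids_cons 564 277 rfl rfl (kid_child node952 (by decide +kernel) (by decide +kernel) (by decide +kernel)) ?_
  refine kids_cons 565 276 rfl rfl (kid_child node953 (by decide +kernel) (by decide +kernel) (by decide +kernel)) ?_
  refine kids_cons 566 275 rfl rfl (kid_prune (by decide +kernel)) ?_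
  refine kids_cons 567 274 rfl rfl (kid_child node954 (by decide +kernel) (by decide +kernel) (by decide +kernel)) ?_
  refine kids_cons 568 273 rfl rfl (kid_prune (by decide +kernel)) ?_
  refine kids_cons 569 272 rfl rfl (kid_child node955 (by decide +kernel) (by decide +kernel) (by decide +kernel)) ?_
  refine kids_cons 570 271 rfl rfl (kid_prune (by decide +kernel)) ?_
  refine kids_cons 571 270 rfl rfl (kid_prune (by decide +kernel)) ?_
  refine kids_cons 572 269 rfl rfl (kid_prune (by decide +kernel)) ?_
  refine kids_cons 573 268 rfl rfl (kid_child node956 (by decide +kernel) (by decide +kernel) (by decide +kernel)) ?_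
  refine kids_cons 574 267 rfl rfl (kid_child node957 (by decide +kernel) (by decide +kernel) (by decide +kernel)) ?_
  refine kids_cons 575 266 rfl rfl (kid_prune (by decide +kernel)) ?_
  refine kids_cons 576 265 rfl rfl (kid_prune (by decide +kernel)) ?_
  refine kids_cons 577 264 rfl rfl (kid_child node958 (by decide +kernel) (by decide +kernel) (by decide +kernel)) ?_
  refine kids_cons 578 263 rfl rfl (kid_prune (by decide +kernel)) ?_
  refine kids_cons 579 262 rfl rfl (kid_child node959 (by decide +kernel) (by decide +kernel) (by decide +kernel)) ?_
  refine kids_cons 580 261 rfl rfl (kid_child node960 (by decide +kernel) (by decide +kernel) (by decide +kernel)) ?_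
  refine kids_cons 581 260 rfl rfl (kid_prune (by decide +kernel)) ?_
  refine kids_cons 582 259 rfl rfl (kid_prune (by decide +kernel)) ?_
  refine kids_cons 583 258 rfl rfl (kid_child node961 (by decide +kernel) (by decide +kernel) (by decide +kernel)) ?_
  refine kids_cons 584 257 rfl rfl (kid_child node962 (by decide +kernel) (by decide +kernel) (by decide +kernel)) ?_
  refine kids_cons 585 256 rfl rfl (kid_child node963 (by decide +kernel) (by decide +kernel) (by decide +kernel)) ?_
  refine kids_cons 586 255 rfl rfl (kid_prune (by decide +kernel)) ?_
  refine kids_cons 587 254 rfl rfl (kid_child node964 (by decide +kernel) (by decide +kernel) (by decide +kernel)) ?_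
  refine kids_cons 588 253 rfl rfl (kid_child node965 (by decide +kernel) (by decide +kernel) (by decide +kernel)) ?_
  refine kids_cons 589 252 rfl rfl (kid_prune (by decide +kernel)) ?_
  refine kids_cons 590 251 rfl rfl (kid_child node966 (by decide +kernel) (by decide +kernel) (by decide +kernel)) ?_
  refine kids_cons 591 250 rfl rfl (kid_prune (by decide +kernel)) ?_
  refine kids_cons 592 249 rfl rfl (kid_child node967 (by decide +kernel) (by decide +kernel) (by decide +kernel)) ?_
  refine kids_cons 593 248 rfl rfl (kid_child node968 (by decide +kernel) (by decide +kernel) (by decide +kernel)) ?_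
  refine kids_cons 594 247 rfl rfl (kid_prune (by decide +kernel)) ?_
  refine kids_cons 595 246 rfl rfl (kid_child node969 (by decide +kernel) (by decide +kernel) (by decide +kernel)) ?_
  refine kids_cons 596 245 rfl rfl (kid_prune (by decide +kernel)) ?_
  refine kids_cons 597 244 rfl rfl (kid_child node970 (by decide +kernel) (by decide +kernel) (by decide +kernel)) ?_
  refine kids_cons 598 243 rfl rfl (kid_child node971 (by decide +kernel) (by decide +kernel) (by decide +kernel)) ?_
  refine kids_cons 599 242 rfl rfl (kid_child node972 (by decide +kernel) (by decide +kernel) (by decide +kernel)) ?_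
  refine kids_cons 600 241 rfl rfl (kid_prune (by decide +kernel)) ?_
  refine kids_cons 601 240 rfl rfl (kid_prune (by decide +kernel)) ?_
  refine kids_cons 602 239 rfl rfl (kid_prune (by decide +kernel)) ?_
  refine kids_cons 603 238 rfl rfl (kid_prune (by decide +kernel)) ?_
  refine kids_cons 604 237 rfl rfl (kid_child node973 (by decide +kernel) (by decide +kernel) (by decide +kernel)) ?_
  refine kids_cons 605 236 rfl rfl (kid_child node974 (by decide +kernel) (by decide +kernel) (by decide +kernel)) ?_
  refine kids_cons 606 235 rfl rfl (kid_prune (by decide +kernel)) ?_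
  refine kids_cons 607 234 rfl rfl (kid_child node975 (by decide +kernel) (by decide +kernel) (by decide +kernel)) ?_
  refine kids_cons 608 233 rfl rfl (kid_prune (by decide +kernel)) ?_
  refine kids_cons 609 232 rfl rfl (kid_child node976 (by decide +kernel) (by decide +kernel) (by decide +kernel)) ?_
  refine kids_cons 610 231 rfl rfl (kid_prune (by decide +kernel)) ?_
  refine kids_cons 611 230 rfl rfl (kid_prune (by decide +kernel)) ?_
  refine kids_cons 612 229 rfl rfl (kid_child node977 (by decide +kernel) (by decide +kernel) (by decide +kernel)) ?_
  refine kids_cons 613 228 rfl rfl (kid_child node978 (by decide +kernel) (by decide +kernel) (by decide +kernel)) ?_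
  refine kids_cons 614 227 rfl rfl (kid_prune (by decide +kernel)) ?_
  refine kids_cons 615 226 rfl rfl (kid_child node979 (by decide +kernel) (by decide +kernel) (by decide +kernel)) ?_
  refine kids_cons 616 225 rfl rfl (kid_prune (by decide +kernel)) ?_
  refine kids_cons 617 224 rfl rfl (kid_prune (by decide +kernel)) ?_
  refine kids_cons 618 223 rfl rfl (kid_prune (by decide +kernel)) ?_
  refine kids_cons 619 222 rfl rfl (kid_child node980 (by decide +kernel) (by decide +kernel) (by decide +kernel)) ?_
  refine kids_cons 620 221 rfl rfl (kid_prune (by decide +kernel)) ?_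
  refine kids_cons 621 220 rfl rfl (kid_prune (by decide +kernel)) ?_
  refine kids_cons 622 219 rfl rfl (kid_child node981 (by decide +kernel) (by decide +kernel) (by decide +kernel)) ?_
  refine kids_cons 623 218 rfl rfl (kid_child node982 (by decide +kernel) (by decide +kernel) (by decide +kernel)) ?_
  refine kids_cons 624 217 rfl rfl (kid_prune (by decide +kernel)) ?_
  refine kids_cons 625 216 rfl rfl (kid_child node983 (by decide +kernel) (by decide +kernel) (by decide +kernel)) ?_
  refine kids_cons 626 215 rfl rfl (kid_prune (by decide +kernel)) ?_
  refine kids_cons 627 214 rfl rfl (kid_child node984 (by decide +kernel) (by decide +kernel) (by decide +kernel)) ?_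
  refine kids_cons 628 213 rfl rfl (kid_child node985 (by decide +kernel) (by decide +kernel) (by decide +kernel)) ?_
  refine kids_cons 629 212 rfl rfl (kid_child node986 (by decide +kernel) (by decide +kernel) (by decide +kernel)) ?_
  refine kids_cons 630 211 rfl rfl (kid_child node987 (by decide +kernel) (by decide +kernel) (by decide +kernel)) ?_
  refine kids_cons 631 210 rfl rfl (kid_prune (by decide +kernel)) ?_
  refine kids_cons 632 209 rfl rfl (kid_prune (by decide +kernel)) ?_
  refine kids_cons 633 208 rfl rfl (kid_child node988 (by decide +kernel) (by decide +kernel) (by decide +kernel)) ?_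
  refine kids_cons 634 207 rfl rfl (kid_child node989 (by decide +kernel) (by decide +kernel) (by decide +kernel)) ?_
  refine kids_cons 635 206 rfl rfl (kid_child node990 (by decide +kernel) (by decide +kernel) (by decide +kernel)) ?_
  refine kids_cons 636 205 rfl rfl (kid_prune (by decide +kernel)) ?_
  refine kids_cons 637 204 rfl rfl (kid_child node991 (by decide +kernel) (by decide +kernel) (by decide +kernel)) ?_
  refine kids_cons 638 203 rfl rfl (kid_prune (by decide +kernel)) ?_
  refine kids_cons 639 202 rfl rfl (kid_child node992 (by decide +kernel) (by decide +kernel) (by decide +kernel)) ?_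
  refine kids_cons 640 201 rfl rfl (kid_child node993 (by decide +kernel) (by decide +kernel) (by decide +kernel)) ?_
  refine kids_cons 641 200 rfl rfl (kid_prune (by decide +kernel)) ?_
  refine kids_cons 642 199 rfl rfl (kid_prune (by decide +kernel)) ?_
  refine kids_cons 643 198 rfl rfl (kid_child node994 (by decide +kernel) (by decide +kernel) (by decide +kernel)) ?_
  refine kids_cons 644 197 rfl rfl (kid_prune (by decide +kernel)) ?_
  refine kids_cons 645 196 rfl rfl (kid_prune (by decide +kernel)) ?_
  refine kids_cons 646 195 rfl rfl (kid_prune (by decide +kernel)) ?_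
  refine kids_cons 647 194 rfl rfl (kid_child node995 (by decide +kernel) (by decide +kernel) (by decide +kernel)) ?_
  refine kids_cons 648 193 rfl rfl (kid_prune (by decide +kernel)) ?_
  refine kids_cons 649 192 rfl rfl (kid_child node996 (by decide +kernel) (by decide +kernel) (by decide +kernel)) ?_
  refine kids_cons 650 191 rfl rfl (kid_child node997 (by decide +kernel) (by decide +kernel) (by decide +kernel)) ?_
  refine kids_cons 651 190 rfl rfl (kid_prune (by decide +kernel)) ?_
  refine kids_cons 652 189 rfl rfl (kid_prune (by decide +kernel)) ?_
  refine kids_cons 653 188 rfl rfl (kid_child node998 (by decide +kernel) (by decide +kernel) (by decide +kernel)) ?_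
  refine kids_cons 654 187 rfl rfl (kid_prune (by decide +kernel)) ?_
  refine kids_cons 655 186 rfl rfl (kid_child node999 (by decide +kernel) (by decide +kernel) (by decide +kernel)) ?_
  refine kids_cons 656 185 rfl rfl (kid_prune (by decide +kernel)) ?_
  refine kids_cons 657 184 rfl rfl (kid_child node1000 (by decide +kernel) (by decide +kernel) (by decide +kernel)) ?_
  refine kids_cons 658 183 rfl rfl (kid_child node1001 (by decide +kernel) (by decide +kernel) (by decide +kernel)) ?_
  refine kids_cons 659 182 rfl rfl (kid_prune (by decide +kernel)) ?_
  refine kids_cons 660 181 rfl rfl (kid_prune (by decide +kernel)) ?_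
  refine kids_cons 661 180 rfl rfl (kid_prune (by decide +kernel)) ?_
  refine kids_cons 662 179 rfl rfl (kid_prune (by decide +kernel)) ?_
  refine kids_cons 663 178 rfl rfl (kid_child node1002 (by decide +kernel) (by decide +kernel) (by decide +kernel)) ?_
  refine kids_cons 664 177 rfl rfl (kid_child node1003 (by decide +kernel) (by decide +kernel) (by decide +kernel)) ?_
  refine kids_cons 665 176 rfl rfl (kid_child node1004 (by decide +kernel) (by decide +kernel) (by decide +kernel)) ?_
  refine kids_cons 666 175 rfl rfl (kid_prune (by decide +kernel)) ?_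
  refine kids_cons 667 174 rfl rfl (kid_child node1005 (by decide +kernel) (by decide +kernel) (by decide +kernel)) ?_
  refine kids_cons 668 173 rfl rfl (kid_child node1006 (by decide +kernel) (by decide +kernel) (by decide +kernel)) ?_
  refine kids_cons 669 172 rfl rfl (kid_child node1007 (by decide +kernel) (by decide +kernel) (by decide +kernel)) ?_
  refine kids_cons 670 171 rfl rfl (kid_child node1008 (by decide +kernel) (by decide +kernel) (by decide +kernel)) ?_
  refine kids_cons 671 170 rfl rfl (kid_prune (by decide +kernel)) ?_
  refine kids_cons 672 169 rfl rfl (kid_child node1009 (by decide +kernel) (by decide +kernel) (by decide +kernel)) ?_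
  refine kids_cons 673 168 rfl rfl (kid_prune (by decide +kernel)) ?_
  refine kids_cons 674 167 rfl rfl (kid_prune (by decide +kernel)) ?_
  refine kids_cons 675 166 rfl rfl (kid_child node1010 (by decide +kernel) (by decide +kernel) (by decide +kernel)) ?_
  refine kids_cons 676 165 rfl rfl (kid_prune (by decide +kernel)) ?_
  refine kids_cons 677 164 rfl rfl (kid_child node1011 (by decide +kernel) (by decide +kernel) (by decide +kernel)) ?_
  refine kids_cons 678 163 rfl rfl (kid_prune (by decide +kernel)) ?_
  refine kids_cons 679 162 rfl rfl (kid_child node1012 (by decide +kernel) (by decide +kernel) (by decide +kernel)) ?_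
  refine kids_cons 680 161 rfl rfl (kid_prune (by decide +kernel)) ?_
  refine kids_cons 681 160 rfl rfl (kid_prune (by decide +kernel)) ?_
  refine kids_cons 682 159 rfl rfl (kid_child node1013 (by decide +kernel) (by decide +kernel) (by decide +kernel)) ?_
  refine kids_cons 683 158 rfl rfl (kid_child node1014 (by decide +kernel) (by decide +kernel) (by decide +kernel)) ?_
  refine kids_cons 684 157 rfl rfl (kid_prune (by decide +kernel)) ?_
  refine kids_cons 685 156 rfl rfl (kid_child node1015 (by decide +kernel) (by decide +kernel) (by decide +kernel)) ?_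
  refine kids_cons 686 155 rfl rfl (kid_prune (by decide +kernel)) ?_
  refine kids_cons 687 154 rfl rfl (kid_prune (by decide +kernel)) ?_
  refine kids_cons 688 153 rfl rfl (kid_child node1016 (by decide +kernel) (by decide +kernel) (by decide +kernel)) ?_
  refine kids_cons 689 152 rfl rfl (kid_child node1017 (by decide +kernel) (by decide +kernel) (by decide +kernel)) ?_
  refine kids_cons 690 151 rfl rfl (kid_child node1018 (by decide +kernel) (by decide +kernel) (by decide +kernel)) ?_
  refine kids_cons 691 150 rfl rfl (kid_prune (by decide +kernel)) ?_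
  refine kids_cons 692 149 rfl rfl (kid_prune (by decide +kernel)) ?_
  refine kids_cons 693 148 rfl rfl (kid_child node1019 (by decide +kernel) (by decide +kernel) (by decide +kernel)) ?_
  refine kids_cons 694 147 rfl rfl (kid_prune (by decide +kernel)) ?_
  refine kids_cons 695 146 rfl rfl (kid_child node1020 (by decide +kernel) (by decide +kernel) (by decide +kernel)) ?_
  refine kids_cons 696 145 rfl rfl (kid_prune (by decide +kernel)) ?_
  refine kids_cons 697 144 rfl rfl (kid_child node1021 (by decide +kernel) (by decide +kernel) (by decide +kernel)) ?_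
  refine kids_cons 698 143 rfl rfl (kid_child node1022 (by decide +kernel) (by decide +kernel) (by decide +kernel)) ?_
  refine kids_cons 699 142 rfl rfl (kid_child node1023 (by decide +kernel) (by decide +kernel) (by decide +kernel)) ?_
  refine kids_cons 700 141 rfl rfl (kid_child node1024 (by decide +kernel) (by decide +kernel) (by decide +kernel)) ?_
  refine kids_cons 701 140 rfl rfl (kid_prune (by decide +kernel)) ?_
  refine kids_cons 702 139 rfl rfl (kid_prune (by decide +kernel)) ?_
  refine kids_cons 703 138 rfl rfl (kid_child node1025 (by decide +kernel) (by decide +kernel) (by decide +kernel)) ?_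
  refine kids_cons 704 137 rfl rfl (kid_child node1026 (by decide +kernel) (by decide +kernel) (by decide +kernel)) ?_
  refine kids_cons 705 136 rfl rfl (kid_child node1027 (by decide +kernel) (by decide +kernel) (by decide +kernel)) ?_
  refine kids_cons 706 135 rfl rfl (kid_prune (by decide +kernel)) ?_
  refine kids_cons 707 134 rfl rfl (kid_child node1028 (by decide +kernel) (by decide +kernel) (by decide +kernel)) ?_
  refine kids_cons 708 133 rfl rfl (kid_prune (by decide +kernel)) ?_
  refine kids_cons 709 132 rfl rfl (kid_child node1029 (by decide +kernel) (by decide +kernel) (by decide +kernel)) ?_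
  refine kids_cons 710 131 rfl rfl (kid_prune (by decide +kernel)) ?_
  refine kids_cons 711 130 rfl rfl (kid_prune (by decide +kernel)) ?_
  refine kids_cons 712 129 rfl rfl (kid_child node1030 (by decide +kernel) (by decide +kernel) (by decide +kernel)) ?_
  refine kids_cons 713 128 rfl rfl (kid_child node1031 (by decide +kernel) (by decide +kernel) (by decide +kernel)) ?_
  refine kids_cons 714 127 rfl rfl (kid_child node1032 (by decide +kernel) (by decide +kernel) (by decide +kernel)) ?_
  refine kids_cons 715 126 rfl rfl (kid_prune (by decide +kernel)) ?_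
  refine kids_cons 716 125 rfl rfl (kid_prune (by decide +kernel)) ?_
  refine kids_cons 717 124 rfl rfl (kid_child node1033 (by decide +kernel) (by decide +kernel) (by decide +kernel)) ?_
  refine kids_cons 718 123 rfl rfl (kid_child node1034 (by decide +kernel) (by decide +kernel) (by decide +kernel)) ?_
  refine kids_cons 719 122 rfl rfl (kid_child node1035 (by decide +kernel) (by decide +kernel) (by decide +kernel)) ?_
  refine kids_cons 720 121 rfl rfl (kid_child node1036 (by decide +kernel) (by decide +kernel) (by decide +kernel)) ?_
  refine kids_cons 721 120 rfl rfl (kid_prune (by decide +kernel)) ?_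
  refine kids_cons 722 119 rfl rfl (kid_prune (by decide +kernel)) ?_
  refine kids_cons 723 118 rfl rfl (kid_child node1037 (by decide +kernel) (by decide +kernel) (by decide +kernel)) ?_
  refine kids_cons 724 117 rfl rfl (kid_child node1038 (by decide +kernel) (by decide +kernel) (by decide +kernel)) ?_
  refine kids_cons 725 116 rfl rfl (kid_child node1039 (by decide +kernel) (by decide +kernel) (by decide +kernel)) ?_
  refine kids_cons 726 115 rfl rfl (kid_prune (by decide +kernel)) ?_
  refine kids_cons 727 114 rfl rfl (kid_child node1040 (by decide +kernel) (by decide +kernel) (by decide +kernel)) ?_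
  refine kids_cons 728 113 rfl rfl (kid_prune (by decide +kernel)) ?_
  refine kids_cons 729 112 rfl rfl (kid_prune (by decide +kernel)) ?_
  refine kids_cons 730 111 rfl rfl (kid_child node1041 (by decide +kernel) (by decide +kernel) (by decide +kernel)) ?_
  refine kids_cons 731 110 rfl rfl (kid_prune (by decide +kernel)) ?_
  refine kids_cons 732 109 rfl rfl (kid_child node1042 (by decide +kernel) (by decide +kernel) (by decide +kernel)) ?_
  refine kids_cons 733 108 rfl rfl (kid_child node1043 (by decide +kernel) (by decide +kernel) (by decide +kernel)) ?_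
  refine kids_cons 734 107 rfl rfl (kid_prune (by decide +kernel)) ?_
  refine kids_cons 735 106 rfl rfl (kid_child node1044 (by decide +kernel) (by decide +kernel) (by decide +kernel)) ?_
  refine kids_cons 736 105 rfl rfl (kid_prune (by decide +kernel)) ?_
  refine kids_cons 737 104 rfl rfl (kid_child node1045 (by decide +kernel) (by decide +kernel) (by decide +kernel)) ?_
  refine kids_cons 738 103 rfl rfl (kid_child node1046 (by decide +kernel) (by decide +kernel) (by decide +kernel)) ?_
  refine kids_cons 739 102 rfl rfl (kid_child node1047 (by decide +kernel) (by decide +kernel) (by decide +kernel)) ?_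
  refine kids_cons 740 101 rfl rfl (kid_prune (by decide +kernel)) ?_
  refine kids_cons 741 100 rfl rfl (kid_prune (by decide +kernel)) ?_
  refine kids_cons 742 99 rfl rfl (kid_child node1048 (by decide +kernel) (by decide +kernel) (by decide +kernel)) ?_
  refine kids_cons 743 98 rfl rfl (kid_prune (by decide +kernel)) ?_
  refine kids_cons 744 97 rfl rfl (kid_prune (by decide +kernel)) ?_
  refine kids_cons 745 96 rfl rfl (kid_child node1049 (by decide +kernel) (by decide +kernel) (by decide +kernel)) ?_
  refine kids_cons 746 95 rfl rfl (kid_prune (by decide +kernel)) ?_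
  refine kids_cons 747 94 rfl rfl (kid_child node1050 (by decide +kernel) (by decide +kernel) (by decide +kernel)) ?_
  refine kids_cons 748 93 rfl rfl (kid_child node1051 (by decide +kernel) (by decide +kernel) (by decide +kernel)) ?_
  refine kids_cons 749 92 rfl rfl (kid_child node1052 (by decide +kernel) (by decide +kernel) (by decide +kernel)) ?_
  refine kids_cons 750 91 rfl rfl (kid_prune (by decide +kernel)) ?_
  refine kids_cons 751 90 rfl rfl (kid_prune (by decide +kernel)) ?_
  refine kids_cons 752 89 rfl rfl (kid_prune (by decide +kernel)) ?_
  refine kids_cons 753 88 rfl rfl (kid_child node1053 (by decide +kernel) (by decide +kernel) (by decide +kernel)) ?_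
  refine kids_cons 754 87 rfl rfl (kid_child node1054 (by decide +kernel) (by decide +kernel) (by decide +kernel)) ?_
  refine kids_cons 755 86 rfl rfl (kid_child node1055 (by decide +kernel) (by decide +kernel) (by decide +kernel)) ?_
  refine kids_cons 756 85 rfl rfl (kid_prune (by decide +kernel)) ?_
  refine kids_cons 757 84 rfl rfl (kid_prune (by decide +kernel)) ?_
  refine kids_cons 758 83 rfl rfl (kid_prune (by decide +kernel)) ?_
  refine kids_cons 759 82 rfl rfl (kid_child node1056 (by decide +kernel) (by decide +kernel) (by decide +kernel)) ?_
  refine kids_cons 760 81 rfl rfl (kid_child node1057 (by decide +kernel) (by decide +kernel) (by decide +kernel)) ?_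
  refine kids_cons 761 80 rfl rfl (kid_prune (by decide +kernel)) ?_
  refine kids_cons 762 79 rfl rfl (kid_prune (by decide +kernel)) ?_
  refine kids_cons 763 78 rfl rfl (kid_child node1058 (by decide +kernel) (by decide +kernel) (by decide +kernel)) ?_
  refine kids_cons 764 77 rfl rfl (kid_prune (by decide +kernel)) ?_
  refine kids_cons 765 76 rfl rfl (kid_child node1059 (by decide +kernel) (by decide +kernel) (by decide +kernel)) ?_
  refine kids_cons 766 75 rfl rfl (kid_prune (by decide +kernel)) ?_
  refine kids_cons 767 74 rfl rfl (kid_child node1060 (by decide +kernel) (by decide +kernel) (by decide +kernel)) ?_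
  refine kids_cons 768 73 rfl rfl (kid_child node1061 (by decide +kernel) (by decide +kernel) (by decide +kernel)) ?_
  refine kids_cons 769 72 rfl rfl (kid_child node1062 (by decide +kernel) (by decide +kernel) (by decide +kernel)) ?_
  refine kids_cons 770 71 rfl rfl (kid_prune (by decide +kernel)) ?_
  refine kids_cons 771 70 rfl rfl (kid_prune (by decide +kernel)) ?_
  refine kids_cons 772 69 rfl rfl (kid_child node1063 (by decide +kernel) (by decide +kernel) (by decide +kernel)) ?_
  refine kids_cons 773 68 rfl rfl (kid_child node1064 (by decide +kernel) (by decide +kernel) (by decide +kernel)) ?_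
  refine kids_cons 774 67 rfl rfl (kid_prune (by decide +kernel)) ?_
  refine kids_cons 775 66 rfl rfl (kid_child node1065 (by decide +kernel) (by decide +kernel) (by decide +kernel)) ?_
  refine kids_cons 776 65 rfl rfl (kid_prune (by decide +kernel)) ?_
  refine kids_cons 777 64 rfl rfl (kid_child node1066 (by decide +kernel) (by decide +kernel) (by decide +kernel)) ?_
  refine kids_cons 778 63 rfl rfl (kid_prune (by decide +kernel)) ?_
  refine kids_cons 779 62 rfl rfl (kid_child node1067 (by decide +kernel) (by decide +kernel) (by decide +kernel)) ?_
  refine kids_cons 780 61 rfl rfl (kid_child node1068 (by decide +kernel) (by decide +kernel) (by decide +kernel)) ?_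
  refine kids_cons 781 60 rfl rfl (kid_prune (by decide +kernel)) ?_
  refine kids_cons 782 59 rfl rfl (kid_child node1069 (by decide +kernel) (by decide +kernel) (by decide +kernel)) ?_
  refine kids_cons 783 58 rfl rfl (kid_child node1070 (by decide +kernel) (by decide +kernel) (by decide +kernel)) ?_
  refine kids_cons 784 57 rfl rfl (kid_child node1071 (by decide +kernel) (by decide +kernel) (by decide +kernel)) ?_
  refine kids_cons 785 56 rfl rfl (kid_prune (by decide +kernel)) ?_
  refine kids_cons 786 55 rfl rfl (kid_prune (by decide +kernel)) ?_
  refine kids_cons 787 54 rfl rfl (kid_child node1072 (by decide +kernel) (by decide +kernel) (by decide +kernel)) ?_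
  refine kids_cons 788 53 rfl rfl (kid_prune (by decide +kernel)) ?_
  refine kids_cons 789 52 rfl rfl (kid_child node1073 (by decide +kernel) (by decide +kernel) (by decide +kernel)) ?_
  refine kids_cons 790 51 rfl rfl (kid_child node1074 (by decide +kernel) (by decide +kernel) (by decide +kernel)) ?_
  refine kids_cons 791 50 rfl rfl (kid_prune (by decide +kernel)) ?_
  refine kids_cons 792 49 rfl rfl (kid_prune (by decide +kernel)) ?_
  refine kids_cons 793 48 rfl rfl (kid_child node1075 (by decide +kernel) (by decide +kernel) (by decide +kernel)) ?_
  refine kids_cons 794 47 rfl rfl (kid_child node1076 (by decide +kernel) (by decide +kernel) (by decide +kernel)) ?_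
  refine kids_cons 795 46 rfl rfl (kid_child node1077 (by decide +kernel) (by decide +kernel) (by decide +kernel)) ?_
  refine kids_cons 796 45 rfl rfl (kid_prune (by decide +kernel)) ?_
  refine kids_cons 797 44 rfl rfl (kid_child node1078 (by decide +kernel) (by decide +kernel) (by decide +kernel)) ?_
  refine kids_cons 798 43 rfl rfl (kid_prune (by decide +kernel)) ?_
  refine kids_cons 799 42 rfl rfl (kid_prune (by decide +kernel)) ?_
  refine kids_cons 800 41 rfl rfl (kid_child node1079 (by decide +kernel) (by decide +kernel) (by decide +kernel)) ?_
  refine kids_cons 801 40 rfl rfl (kid_prune (by decide +kernel)) ?_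
  refine kids_cons 802 39 rfl rfl (kid_child node1080 (by decide +kernel) (by decide +kernel) (by decide +kernel)) ?_
  refine kids_cons 803 38 rfl rfl (kid_child node1081 (by decide +kernel) (by decide +kernel) (by decide +kernel)) ?_
  refine kids_cons 804 37 rfl rfl (kid_child node1082 (by decide +kernel) (by decide +kernel) (by decide +kernel)) ?_
  refine kids_cons 805 36 rfl rfl (kid_child node1083 (by decide +kernel) (by decide +kernel) (by decide +kernel)) ?_
  refine kids_cons 806 35 rfl rfl (kid_prune (by decide +kernel)) ?_
  refine kids_cons 807 34 rfl rfl (kid_child node1084 (by decide +kernel) (by decide +kernel) (by decide +kernel)) ?_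
  refine kids_cons 808 33 rfl rfl (kid_child node1085 (by decide +kernel) (by decide +kernel) (by decide +kernel)) ?_
  refine kids_cons 809 32 rfl rfl (kid_child node1086 (by decide +kernel) (by decide +kernel) (by decide +kernel)) ?_
  refine kids_cons 810 31 rfl rfl (kid_prune (by decide +kernel)) ?_
  refine kids_cons 811 30 rfl rfl (kid_prune (by decide +kernel)) ?_
  refine kids_cons 812 29 rfl rfl (kid_prune (by decide +kernel)) ?_
  refine kids_cons 813 28 rfl rfl (kid_prune (by decide +kernel)) ?_
  refine kids_cons 814 27 rfl rfl (kid_child node1087 (by decide +kernel) (by decide +kernel) (by decide +kernel)) ?_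
  refine kids_cons 815 26 rfl rfl (kid_child node1088 (by decide +kernel) (by decide +kernel) (by decide +kernel)) ?_
  refine kids_cons 816 25 rfl rfl (kid_prune (by decide +kernel)) ?_
  refine kids_cons 817 24 rfl rfl (kid_child node1089 (by decide +kernel) (by decide +kernel) (by decide +kernel)) ?_
  refine kids_cons 818 23 rfl rfl (kid_child node1090 (by decide +kernel) (by decide +kernel) (by decide +kernel)) ?_
  refine kids_cons 819 22 rfl rfl (kid_child node1091 (by decide +kernel) (by decide +kernel) (by decide +kernel)) ?_
  refine kids_cons 820 21 rfl rfl (kid_prune (by decide +kernel)) ?_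
  refine kids_cons 821 20 rfl rfl (kid_prune (by decide +kernel)) ?_
  refine kids_cons 822 19 rfl rfl (kid_prune (by decide +kernel)) ?_
  refine kids_cons 823 18 rfl rfl (kid_child node1092 (by decide +kernel) (by decide +kernel) (by decide +kernel)) ?_
  refine kids_cons 824 17 rfl rfl (kid_prune (by decide +kernel)) ?_
  refine kids_cons 825 16 rfl rfl (kid_child node1093 (by decide +kernel) (by decide +kernel) (by decide +kernel)) ?_
  refine kids_cons 826 15 rfl rfl (kid_prune (by decide +kernel)) ?_
  refine kids_cons 827 14 rfl rfl (kid_prune (by decide +kernel)) ?_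
  refine kids_cons 828 13 rfl rfl (kid_prune (by decide +kernel)) ?_
  refine kids_cons 829 12 rfl rfl (kid_child node1094 (by decide +kernel) (by decide +kernel) (by decide +kernel)) ?_
  refine kids_cons 830 11 rfl rfl (kid_prune (by decide +kernel)) ?_
  refine kids_cons 831 10 rfl rfl (kid_prune (by decide +kernel)) ?_
  refine kids_cons 832 9 rfl rfl (kid_child node1095 (by decide +kernel) (by decide +kernel) (by decide +kernel)) ?_
  refine kids_cons 833 8 rfl rfl (kid_child node1096 (by decide +kernel) (by decide +kernel) (by decide +kernel)) ?_
  refine kids_cons 834 7 rfl rfl (kid_prune (by decide +kernel)) ?_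
  refine kids_cons 835 6 rfl rfl (kid_child node1097 (by decide +kernel) (by decide +kernel) (by decide +kernel)) ?_
  refine kids_cons 836 5 rfl rfl (kid_prune (by decide +kernel)) ?_
  refine kids_cons 837 4 rfl rfl (kid_child node1098 (by decide +kernel) (by decide +kernel) (by decide +kernel)) ?_
  refine kids_cons 838 3 rfl rfl (kid_child node1099 (by decide +kernel) (by decide +kernel) (by decide +kernel)) ?_
  refine kids_cons 839 2 rfl rfl (kid_child node1100 (by decide +kernel) (by decide +kernel) (by decide +kernel)) ?_
  refine kids_cons 840 1 rfl rfl (kid_child node1101 (by decide +kernel) (by decide +kernel) (by decide +kernel)) ?_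
  refine kids_cons 841 0 rfl rfl (kid_prune (by decide +kernel)) ?_
  exact kids_nil 841

theorem node1172 : dfs 2 [8, 7, 7, 6, 5, 5] 19 840 [1, 5, 6, 30, 2, 10, 3, 15, 7, 35, 42, 210, 14, 70, 21, 105, 4, 20, 24, 120, 8, 40, 12, 60, 28, 140, 168, 840, 56, 280, 84, 420, 2, 10, 12, 60, 4, 20, 6, 30, 14, 70, 84, 420, 28, 140, 42, 210, 2, 10, 12, 60, 4, 20, 6, 30, 14, 70, 84, 420, 28, 140, 42, 210] = true := by
  refine node_of_kids 45 132 (by decide) (by decide) ?_
  refine kids_cons 46 131 rfl rfl (kid_prune (by decide +kernel)) ?_
  refine kids_cons 47 130 rfl rfl (kid_child node1103 (by decide +kernel) (by decide +kernel) (by decide +kernel)) ?_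
  refine kids_cons 48 129 rfl rfl (kid_child node1104 (by decide +kernel) (by decide +kernel) (by decide +kernel)) ?_
  refine kids_cons 49 128 rfl rfl (kid_child node1105 (by decide +kernel) (by decide +kernel) (by decide +kernel)) ?_
  refine kids_cons 50 127 rfl rfl (kid_prune (by decide +kernel)) ?_
  refine kids_cons 51 126 rfl rfl (kid_prune (by decide +kernel)) ?_
  refine kids_cons 52 125 rfl rfl (kid_child node1106 (by decide +kernel) (by decide +kernel) (by decide +kernel)) ?_
  refine kids_cons 53 124 rfl rfl (kid_child node1107 (by decide +kernel) (by decide +kernel) (by decide +kernel)) ?_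
  refine kids_cons 54 123 rfl rfl (kid_prune (by decide +kernel)) ?_
  refine kids_cons 55 122 rfl rfl (kid_child node1108 (by decide +kernel) (by decide +kernel) (by decide +kernel)) ?_
  refine kids_cons 56 121 rfl rfl (kid_prune (by decide +kernel)) ?_
  refine kids_cons 57 120 rfl rfl (kid_prune (by decide +kernel)) ?_
  refine kids_cons 58 119 rfl rfl (kid_child node1109 (by decide +kernel) (by decide +kernel) (by decide +kernel)) ?_
  refine kids_cons 59 118 rfl rfl (kid_child node1110 (by decide +kernel) (by decide +kernel) (by decide +kernel)) ?_
  refine kids_cons 60 117 rfl rfl (kid_child node1111 (by decide +kernel) (by decide +kernel) (by decide +kernel)) ?_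
  refine kids_cons 61 116 rfl rfl (kid_prune (by decide +kernel)) ?_
  refine kids_cons 62 115 rfl rfl (kid_prune (by decide +kernel)) ?_
  refine kids_cons 63 114 rfl rfl (kid_child node1112 (by decide +kernel) (by decide +kernel) (by decide +kernel)) ?_
  refine kids_cons 64 113 rfl rfl (kid_prune (by decide +kernel)) ?_
  refine kids_cons 65 112 rfl rfl (kid_child node1113 (by decide +kernel) (by decide +kernel) (by decide +kernel)) ?_
  refine kids_cons 66 111 rfl rfl (kid_prune (by decide +kernel)) ?_
  refine kids_cons 67 110 rfl rfl (kid_child node1114 (by decide +kernel) (by decide +kernel) (by decide +kernel)) ?_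
  refine kids_cons 68 109 rfl rfl (kid_prune (by decide +kernel)) ?_
  refine kids_cons 69 108 rfl rfl (kid_child node1115 (by decide +kernel) (by decide +kernel) (by decide +kernel)) ?_
  refine kids_cons 70 107 rfl rfl (kid_child node1116 (by decide +kernel) (by decide +kernel) (by decide +kernel)) ?_
  refine kids_cons 71 106 rfl rfl (kid_prune (by decide +kernel)) ?_
  refine kids_cons 72 105 rfl rfl (kid_prune (by decide +kernel)) ?_
  refine kids_cons 73 104 rfl rfl (kid_child node1117 (by decide +kernel) (by decide +kernel) (by decide +kernel)) ?_
  refine kids_cons 74 103 rfl rfl (kid_prune (by decide +kernel)) ?_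
  refine kids_cons 75 102 rfl rfl (kid_child node1118 (by decide +kernel) (by decide +kernel) (by decide +kernel)) ?_
  refine kids_cons 76 101 rfl rfl (kid_prune (by decide +kernel)) ?_
  refine kids_cons 77 100 rfl rfl (kid_child node1119 (by decide +kernel) (by decide +kernel) (by decide +kernel)) ?_
  refine kids_cons 78 99 rfl rfl (kid_prune (by decide +kernel)) ?_
  refine kids_cons 79 98 rfl rfl (kid_child node1120 (by decide +kernel) (by decide +kernel) (by decide +kernel)) ?_
  refine kids_cons 80 97 rfl rfl (kid_prune (by decide +kernel)) ?_
  refine kids_cons 81 96 rfl rfl (kid_prune (by decide +kernel)) ?_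
  refine kids_cons 82 95 rfl rfl (kid_child node1121 (by decide +kernel) (by decide +kernel) (by decide +kernel)) ?_
  refine kids_cons 83 94 rfl rfl (kid_child node1122 (by decide +kernel) (by decide +kernel) (by decide +kernel)) ?_
  refine kids_cons 84 93 rfl rfl (kid_child node1123 (by decide +kernel) (by decide +kernel) (by decide +kernel)) ?_
  refine kids_cons 85 92 rfl rfl (kid_prune (by decide +kernel)) ?_
  refine kids_cons 86 91 rfl rfl (kid_prune (by decide +kernel)) ?_
  refine kids_cons 87 90 rfl rfl (kid_child node1124 (by decide +kernel) (by decide +kernel) (by decide +kernel)) ?_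
  refine kids_cons 88 89 rfl rfl (kid_child node1125 (by decide +kernel) (by decide +kernel) (by decide +kernel)) ?_
  refine kids_cons 89 88 rfl rfl (kid_child node1126 (by decide +kernel) (by decide +kernel) (by decide +kernel)) ?_
  refine kids_cons 90 87 rfl rfl (kid_prune (by decide +kernel)) ?_
  refine kids_cons 91 86 rfl rfl (kid_prune (by decide +kernel)) ?_
  refine kids_cons 92 85 rfl rfl (kid_prune (by decide +kernel)) ?_
  refine kids_cons 93 84 rfl rfl (kid_child node1127 (by decide +kernel) (by decide +kernel) (by decide +kernel)) ?_
  refine kids_cons 94 83 rfl rfl (kid_child node1128 (by decide +kernel) (by decide +kernel) (by decide +kernel)) ?_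
  refine kids_cons 95 82 rfl rfl (kid_child node1129 (by decide +kernel) (by decide +kernel) (by decide +kernel)) ?_
  refine kids_cons 96 81 rfl rfl (kid_prune (by decide +kernel)) ?_
  refine kids_cons 97 80 rfl rfl (kid_child node1130 (by decide +kernel) (by decide +kernel) (by decide +kernel)) ?_
  refine kids_cons 98 79 rfl rfl (kid_prune (by decide +kernel)) ?_
  refine kids_cons 99 78 rfl rfl (kid_prune (by decide +kernel)) ?_
  refine kids_cons 100 77 rfl rfl (kid_child node1131 (by decide +kernel) (by decide +kernel) (by decide +kernel)) ?_
  refine kids_cons 101 76 rfl rfl (kid_prune (by decide +kernel)) ?_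
  refine kids_cons 102 75 rfl rfl (kid_prune (by decide +kernel)) ?_
  refine kids_cons 103 74 rfl rfl (kid_child node1132 (by decide +kernel) (by decide +kernel) (by decide +kernel)) ?_
  refine kids_cons 104 73 rfl rfl (kid_prune (by decide +kernel)) ?_
  refine kids_cons 105 72 rfl rfl (kid_child node1133 (by decide +kernel) (by decide +kernel) (by decide +kernel)) ?_
  refine kids_cons 106 71 rfl rfl (kid_prune (by decide +kernel)) ?_
  refine kids_cons 107 70 rfl rfl (kid_child node1134 (by decide +kernel) (by decide +kernel) (by decide +kernel)) ?_
  refine kids_cons 108 69 rfl rfl (kid_child node1135 (by decide +kernel) (by decide +kernel) (by decide +kernel)) ?_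
  refine kids_cons 109 68 rfl rfl (kid_child node1136 (by decide +kernel) (by decide +kernel) (by decide +kernel)) ?_
  refine kids_cons 110 67 rfl rfl (kid_prune (by decide +kernel)) ?_
  refine kids_cons 111 66 rfl rfl (kid_prune (by decide +kernel)) ?_
  refine kids_cons 112 65 rfl rfl (kid_child node1137 (by decide +kernel) (by decide +kernel) (by decide +kernel)) ?_
  refine kids_cons 113 64 rfl rfl (kid_prune (by decide +kernel)) ?_
  refine kids_cons 114 63 rfl rfl (kid_prune (by decide +kernel)) ?_
  refine kids_cons 115 62 rfl rfl (kid_child node1138 (by decide +kernel) (by decide +kernel) (by decide +kernel)) ?_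
  refine kids_cons 116 61 rfl rfl (kid_prune (by decide +kernel)) ?_
  refine kids_cons 117 60 rfl rfl (kid_child node1139 (by decide +kernel) (by decide +kernel) (by decide +kernel)) ?_
  refine kids_cons 118 59 rfl rfl (kid_child node1140 (by decide +kernel) (by decide +kernel) (by decide +kernel)) ?_
  refine kids_cons 119 58 rfl rfl (kid_child node1141 (by decide +kernel) (by decide +kernel) (by decide +kernel)) ?_
  refine kids_cons 120 57 rfl rfl (kid_prune (by decide +kernel)) ?_
  refine kids_cons 121 56 rfl rfl (kid_prune (by decide +kernel)) ?_
  refine kids_cons 122 55 rfl rfl (kid_child node1142 (by decide +kernel) (by decide +kernel) (by decide +kernel)) ?_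
  refine kids_cons 123 54 rfl rfl (kid_child node1143 (by decide +kernel) (by decide +kernel) (by decide +kernel)) ?_
  refine kids_cons 124 53 rfl rfl (kid_child node1144 (by decide +kernel) (by decide +kernel) (by decide +kernel)) ?_
  refine kids_cons 125 52 rfl rfl (kid_child node1145 (by decide +kernel) (by decide +kernel) (by decide +kernel)) ?_
  refine kids_cons 126 51 rfl rfl (kid_prune (by decide +kernel)) ?_
  refine kids_cons 127 50 rfl rfl (kid_prune (by decide +kernel)) ?_
  refine kids_cons 128 49 rfl rfl (kid_prune (by decide +kernel)) ?_
  refine kids_cons 129 48 rfl rfl (kid_child node1146 (by decide +kernel) (by decide +kernel) (by decide +kernel)) ?_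
  refine kids_cons 130 47 rfl rfl (kid_child node1147 (by decide +kernel) (by decide +kernel) (by decide +kernel)) ?_
  refine kids_cons 131 46 rfl rfl (kid_prune (by decide +kernel)) ?_
  refine kids_cons 132 45 rfl rfl (kid_prune (by decide +kernel)) ?_
  refine kids_cons 133 44 rfl rfl (kid_child node1148 (by decide +kernel) (by decide +kernel) (by decide +kernel)) ?_
  refine kids_cons 134 43 rfl rfl (kid_prune (by decide +kernel)) ?_
  refine kids_cons 135 42 rfl rfl (kid_child node1149 (by decide +kernel) (by decide +kernel) (by decide +kernel)) ?_
  refine kids_cons 136 41 rfl rfl (kid_prune (by decide +kernel)) ?_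
  refine kids_cons 137 40 rfl rfl (kid_child node1150 (by decide +kernel) (by decide +kernel) (by decide +kernel)) ?_
  refine kids_cons 138 39 rfl rfl (kid_prune (by decide +kernel)) ?_
  refine kids_cons 139 38 rfl rfl (kid_child node1151 (by decide +kernel) (by decide +kernel) (by decide +kernel)) ?_
  refine kids_cons 140 37 rfl rfl (kid_prune (by decide +kernel)) ?_
  refine kids_cons 141 36 rfl rfl (kid_prune (by decide +kernel)) ?_
  refine kids_cons 142 35 rfl rfl (kid_child node1152 (by decide +kernel) (by decide +kernel) (by decide +kernel)) ?_
  refine kids_cons 143 34 rfl rfl (kid_child node1153 (by decide +kernel) (by decide +kernel) (by decide +kernel)) ?_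
  refine kids_cons 144 33 rfl rfl (kid_child node1154 (by decide +kernel) (by decide +kernel) (by decide +kernel)) ?_
  refine kids_cons 145 32 rfl rfl (kid_child node1155 (by decide +kernel) (by decide +kernel) (by decide +kernel)) ?_
  refine kids_cons 146 31 rfl rfl (kid_prune (by decide +kernel)) ?_
  refine kids_cons 147 30 rfl rfl (kid_child node1156 (by decide +kernel) (by decide +kernel) (by decide +kernel)) ?_
  refine kids_cons 148 29 rfl rfl (kid_prune (by decide +kernel)) ?_
  refine kids_cons 149 28 rfl rfl (kid_child node1157 (by decide +kernel) (by decide +kernel) (by decide +kernel)) ?_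
  refine kids_cons 150 27 rfl rfl (kid_prune (by decide +kernel)) ?_
  refine kids_cons 151 26 rfl rfl (kid_prune (by decide +kernel)) ?_
  refine kids_cons 152 25 rfl rfl (kid_prune (by decide +kernel)) ?_
  refine kids_cons 153 24 rfl rfl (kid_child node1158 (by decide +kernel) (by decide +kernel) (by decide +kernel)) ?_
  refine kids_cons 154 23 rfl rfl (kid_child node1159 (by decide +kernel) (by decide +kernel) (by decide +kernel)) ?_
  refine kids_cons 155 22 rfl rfl (kid_prune (by decide +kernel)) ?_
  refine kids_cons 156 21 rfl rfl (kid_prune (by decide +kernel)) ?_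
  refine kids_cons 157 20 rfl rfl (kid_child node1160 (by decide +kernel) (by decide +kernel) (by decide +kernel)) ?_
  refine kids_cons 158 19 rfl rfl (kid_prune (by decide +kernel)) ?_
  refine kids_cons 159 18 rfl rfl (kid_child node1161 (by decide +kernel) (by decide +kernel) (by decide +kernel)) ?_
  refine kids_cons 160 17 rfl rfl (kid_child node1162 (by decide +kernel) (by decide +kernel) (by decide +kernel)) ?_
  refine kids_cons 161 16 rfl rfl (kid_prune (by decide +kernel)) ?_
  refine kids_cons 162 15 rfl rfl (kid_prune (by decide +kernel)) ?_
  refine kids_cons 163 14 rfl rfl (kid_child node1163 (by decide +kernel) (by decide +kernel) (by decide +kernel)) ?_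
  refine kids_cons 164 13 rfl rfl (kid_prune (by decide +kernel)) ?_
  refine kids_cons 165 12 rfl rfl (kid_child node1164 (by decide +kernel) (by decide +kernel) (by decide +kernel)) ?_
  refine kids_cons 166 11 rfl rfl (kid_prune (by decide +kernel)) ?_
  refine kids_cons 167 10 rfl rfl (kid_child node1165 (by decide +kernel) (by decide +kernel) (by decide +kernel)) ?_
  refine kids_cons 168 9 rfl rfl (kid_child node1166 (by decide +kernel) (by decide +kernel) (by decide +kernel)) ?_
  refine kids_cons 169 8 rfl rfl (kid_prune (by decide +kernel)) ?_
  refine kids_cons 170 7 rfl rfl (kid_child node1167 (by decide +kernel) (by decide +kernel) (by decide +kernel)) ?_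
  refine kids_cons 171 6 rfl rfl (kid_prune (by decide +kernel)) ?_
  refine kids_cons 172 5 rfl rfl (kid_child node1168 (by decide +kernel) (by decide +kernel) (by decide +kernel)) ?_
  refine kids_cons 173 4 rfl rfl (kid_child node1169 (by decide +kernel) (by decide +kernel) (by decide +kernel)) ?_
  refine kids_cons 174 3 rfl rfl (kid_prune (by decide +kernel)) ?_
  refine kids_cons 175 2 rfl rfl (kid_child node1170 (by decide +kernel) (by decide +kernel) (by decide +kernel)) ?_
  refine kids_cons 176 1 rfl rfl (kid_prune (by decide +kernel)) ?_
  refine kids_cons 177 0 rfl rfl (kid_child node1171 (by decide +kernel) (by decide +kernel) (by decide +kernel)) ?_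
  exact kids_nil 177

theorem node1199 : dfs 2 [12, 7, 7, 6, 5, 5] 27 420 [1, 5, 6, 30, 2, 10, 3, 15, 7, 35, 42, 210, 14, 70, 21, 105, 2, 10, 12, 60, 4, 20, 6, 30, 14, 70, 84, 420, 28, 140, 42, 210] = true := by
  refine node_of_kids 16 47 (by decide) (by decide) ?_
  refine kids_cons 17 46 rfl rfl (kid_child node1175 (by decide +kernel) (by decide +kernel) (by decide +kernel)) ?_
  refine kids_cons 18 45 rfl rfl (kid_prune (by decide +kernel)) ?_
  refine kids_cons 19 44 rfl rfl (kid_child node1176 (by decide +kernel) (by decide +kernel) (by decide +kernel)) ?_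
  refine kids_cons 20 43 rfl rfl (kid_prune (by decide +kernel)) ?_
  refine kids_cons 21 42 rfl rfl (kid_prune (by decide +kernel)) ?_
  refine kids_cons 22 41 rfl rfl (kid_prune (by decide +kernel)) ?_
  refine kids_cons 23 40 rfl rfl (kid_child node1177 (by decide +kernel) (by decide +kernel) (by decide +kernel)) ?_
  refine kids_cons 24 39 rfl rfl (kid_child node1178 (by decide +kernel) (by decide +kernel) (by decide +kernel)) ?_
  refine kids_cons 25 38 rfl rfl (kid_child node1179 (by decide +kernel) (by decide +kernel) (by decide +kernel)) ?_
  refine kids_cons 26 37 rfl rfl (kid_prune (by decide +kernel)) ?_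
  refine kids_cons 27 36 rfl rfl (kid_child node1180 (by decide +kernel) (by decide +kernel) (by decide +kernel)) ?_
  refine kids_cons 28 35 rfl rfl (kid_child node1181 (by decide +kernel) (by decide +kernel) (by decide +kernel)) ?_
  refine kids_cons 29 34 rfl rfl (kid_prune (by decide +kernel)) ?_
  refine kids_cons 30 33 rfl rfl (kid_prune (by decide +kernel)) ?_
  refine kids_cons 31 32 rfl rfl (kid_prune (by decide +kernel)) ?_
  refine kids_cons 32 31 rfl rfl (kid_prune (by decide +kernel)) ?_
  refine kids_cons 33 30 rfl rfl (kid_child node1182 (by decide +kernel) (by decide +kernel) (by decide +kernel)) ?_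
  refine kids_cons 34 29 rfl rfl (kid_child node1183 (by decide +kernel) (by decide +kernel) (by decide +kernel)) ?_
  refine kids_cons 35 28 rfl rfl (kid_child node1184 (by decide +kernel) (by decide +kernel) (by decide +kernel)) ?_
  refine kids_cons 36 27 rfl rfl (kid_prune (by decide +kernel)) ?_
  refine kids_cons 37 26 rfl rfl (kid_child node1185 (by decide +kernel) (by decide +kernel) (by decide +kernel)) ?_
  refine kids_cons 38 25 rfl rfl (kid_prune (by decide +kernel)) ?_
  refine kids_cons 39 24 rfl rfl (kid_child node1186 (by decide +kernel) (by decide +kernel) (by decide +kernel)) ?_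
  refine kids_cons 40 23 rfl rfl (kid_child node1187 (by decide +kernel) (by decide +kernel) (by decide +kernel)) ?_
  refine kids_cons 41 22 rfl rfl (kid_prune (by decide +kernel)) ?_
  refine kids_cons 42 21 rfl rfl (kid_prune (by decide +kernel)) ?_
  refine kids_cons 43 20 rfl rfl (kid_prune (by decide +kernel)) ?_
  refine kids_cons 44 19 rfl rfl (kid_prune (by decide +kernel)) ?_
  refine kids_cons 45 18 rfl rfl (kid_child node1188 (by decide +kernel) (by decide +kernel) (by decide +kernel)) ?_
  refine kids_cons 46 17 rfl rfl (kid_prune (by decide +kernel)) ?_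
  refine kids_cons 47 16 rfl rfl (kid_child node1189 (by decide +kernel) (by decide +kernel) (by decide +kernel)) ?_
  refine kids_cons 48 15 rfl rfl (kid_child node1190 (by decide +kernel) (by decide +kernel) (by decide +kernel)) ?_
  refine kids_cons 49 14 rfl rfl (kid_child node1191 (by decide +kernel) (by decide +kernel) (by decide +kernel)) ?_
  refine kids_cons 50 13 rfl rfl (kid_prune (by decide +kernel)) ?_
  refine kids_cons 51 12 rfl rfl (kid_prune (by decide +kernel)) ?_
  refine kids_cons 52 11 rfl rfl (kid_child node1192 (by decide +kernel) (by decide +kernel) (by decide +kernel)) ?_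
  refine kids_cons 53 10 rfl rfl (kid_child node1193 (by decide +kernel) (by decide +kernel) (by decide +kernel)) ?_
  refine kids_cons 54 9 rfl rfl (kid_prune (by decide +kernel)) ?_
  refine kids_cons 55 8 rfl rfl (kid_child node1194 (by decide +kernel) (by decide +kernel) (by decide +kernel)) ?_
  refine kids_cons 56 7 rfl rfl (kid_prune (by decide +kernel)) ?_
  refine kids_cons 57 6 rfl rfl (kid_prune (by decide +kernel)) ?_
  refine kids_cons 58 5 rfl rfl (kid_child node1195 (by decide +kernel) (by decide +kernel) (by decide +kernel)) ?_
  refine kids_cons 59 4 rfl rfl (kid_child node1196 (by decide +kernel) (by decide +kernel) (by decide +kernel)) ?_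
  refine kids_cons 60 3 rfl rfl (kid_child node1197 (by decide +kernel) (by decide +kernel) (by decide +kernel)) ?_
  refine kids_cons 61 2 rfl rfl (kid_prune (by decide +kernel)) ?_
  refine kids_cons 62 1 rfl rfl (kid_prune (by decide +kernel)) ?_
  refine kids_cons 63 0 rfl rfl (kid_child node1198 (by decide +kernel) (by decide +kernel) (by decide +kernel)) ?_
  exact kids_nil 63

theorem node1212 : dfs 3 [7, 7, 6, 5, 5] 31 210 [1, 5, 6, 30, 2, 10, 3, 15, 7, 35, 42, 210, 14, 70, 21, 105] = true := by
  refine node_of_kids 7 27 (by decide) (by decide) ?_
  refine kids_cons 8 26 rfl rfl (kid_child node1102 (by decide +kernel) (by decide +kernel) (by decide +kernel)) ?_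
  refine kids_cons 9 25 rfl rfl (kid_child node1172 (by decide +kernel) (by decide +kernel) (by decide +kernel)) ?_
  refine kids_cons 10 24 rfl rfl (kid_child node1173 (by decide +kernel) (by decide +kernel) (by decide +kernel)) ?_
  refine kids_cons 11 23 rfl rfl (kid_prune (by decide +kernel)) ?_
  refine kids_cons 12 22 rfl rfl (kid_child node1174 (by decide +kernel) (by decide +kernel) (by decide +kernel)) ?_
  refine kids_cons 13 21 rfl rfl (kid_child node1199 (by decide +kernel) (by decide +kernel) (by decide +kernel)) ?_
  refine kids_cons 14 20 rfl rfl (kid_child node1200 (by decide +kernel) (by decide +kernel) (by decide +kernel)) ?_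
  refine kids_cons 15 19 rfl rfl (kid_prune (by decide +kernel)) ?_
  refine kids_cons 16 18 rfl rfl (kid_prune (by decide +kernel)) ?_
  refine kids_cons 17 17 rfl rfl (kid_child node1201 (by decide +kernel) (by decide +kernel) (by decide +kernel)) ?_
  refine kids_cons 18 16 rfl rfl (kid_prune (by decide +kernel)) ?_
  refine kids_cons 19 15 rfl rfl (kid_child node1202 (by decide +kernel) (by decide +kernel) (by decide +kernel)) ?_
  refine kids_cons 20 14 rfl rfl (kid_child node1203 (by decide +kernel) (by decide +kernel) (by decide +kernel)) ?_
  refine kids_cons 21 13 rfl rfl (kid_prune (by decide +kernel)) ?_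
  refine kids_cons 22 12 rfl rfl (kid_prune (by decide +kernel)) ?_
  refine kids_cons 23 11 rfl rfl (kid_child node1204 (by decide +kernel) (by decide +kernel) (by decide +kernel)) ?_
  refine kids_cons 24 10 rfl rfl (kid_child node1205 (by decide +kernel) (by decide +kernel) (by decide +kernel)) ?_
  refine kids_cons 25 9 rfl rfl (kid_child node1206 (by decide +kernel) (by decide +kernel) (by decide +kernel)) ?_
  refine kids_cons 26 8 rfl rfl (kid_prune (by decide +kernel)) ?_
  refine kids_cons 27 7 rfl rfl (kid_child node1207 (by decide +kernel) (by decide +kernel) (by decide +kernel)) ?_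
  refine kids_cons 28 6 rfl rfl (kid_child node1208 (by decide +kernel) (by decide +kernel) (by decide +kernel)) ?_
  refine kids_cons 29 5 rfl rfl (kid_prune (by decide +kernel)) ?_
  refine kids_cons 30 4 rfl rfl (kid_child node1209 (by decide +kernel) (by decide +kernel) (by decide +kernel)) ?_
  refine kids_cons 31 3 rfl rfl (kid_prune (by decide +kernel)) ?_
  refine kids_cons 32 2 rfl rfl (kid_prune (by decide +kernel)) ?_
  refine kids_cons 33 1 rfl rfl (kid_child node1210 (by decide +kernel) (by decide +kernel) (by decide +kernel)) ?_
  refine kids_cons 34 0 rfl rfl (kid_child node1211 (by decide +kernel) (by decide +kernel) (by decide +kernel)) ?_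
  exact kids_nil 34

theorem node1228 : dfs 3 [8, 7, 6, 5, 5] 139 840 [1, 5, 6, 30, 2, 10, 3, 15, 7, 35, 42, 210, 14, 70, 21, 105, 4, 20, 24, 120, 8, 40, 12, 60, 28, 140, 168, 840, 56, 280, 84, 420, 2, 10, 12, 60, 4, 20, 6, 30, 14, 70, 84, 420, 28, 140, 42, 210, 2, 10, 12, 60, 4, 20, 6, 30, 14, 70, 84, 420, 28, 140, 42, 210] = true := by
  refine node_of_kids 8 23 (by decide) (by decide) ?_
  refine kids_cons 9 22 rfl rfl (kid_child node1213 (by decide +kernel) (by decide +kernel) (by decide +kernel)) ?_
  refine kids_cons 10 21 rfl rfl (kid_child node1214 (by decide +kernel) (by decide +kernel) (by decide +kernel)) ?_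
  refine kids_cons 11 20 rfl rfl (kid_prune (by decide +kernel)) ?_
  refine kids_cons 12 19 rfl rfl (kid_child node1215 (by decide +kernel) (by decide +kernel) (by decide +kernel)) ?_
  refine kids_cons 13 18 rfl rfl (kid_child node1216 (by decide +kernel) (by decide +kernel) (by decide +kernel)) ?_
  refine kids_cons 14 17 rfl rfl (kid_child node1217 (by decide +kernel) (by decide +kernel) (by decide +kernel)) ?_
  refine kids_cons 15 16 rfl rfl (kid_prune (by decide +kernel)) ?_
  refine kids_cons 16 15 rfl rfl (kid_prune (by decide +kernel)) ?_
  refine kids_cons 17 14 rfl rfl (kid_child node1218 (by decide +kernel) (by decide +kernel) (by decide +kernel)) ?_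
  refine kids_cons 18 13 rfl rfl (kid_child node1219 (by decide +kernel) (by decide +kernel) (by decide +kernel)) ?_
  refine kids_cons 19 12 rfl rfl (kid_child node1220 (by decide +kernel) (by decide +kernel) (by decide +kernel)) ?_
  refine kids_cons 20 11 rfl rfl (kid_child node1221 (by decide +kernel) (by decide +kernel) (by decide +kernel)) ?_
  refine kids_cons 21 10 rfl rfl (kid_prune (by decide +kernel)) ?_
  refine kids_cons 22 9 rfl rfl (kid_prune (by decide +kernel)) ?_
  refine kids_cons 23 8 rfl rfl (kid_child node1222 (by decide +kernel) (by decide +kernel) (by decide +kernel)) ?_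
  refine kids_cons 24 7 rfl rfl (kid_child node1223 (by decide +kernel) (by decide +kernel) (by decide +kernel)) ?_
  refine kids_cons 25 6 rfl rfl (kid_child node1224 (by decide +kernel) (by decide +kernel) (by decide +kernel)) ?_
  refine kids_cons 26 5 rfl rfl (kid_prune (by decide +kernel)) ?_
  refine kids_cons 27 4 rfl rfl (kid_child node1225 (by decide +kernel) (by decide +kernel) (by decide +kernel)) ?_
  refine kids_cons 28 3 rfl rfl (kid_child node1226 (by decide +kernel) (by decide +kernel) (by decide +kernel)) ?_
  refine kids_cons 29 2 rfl rfl (kid_prune (by decide +kernel)) ?_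
  refine kids_cons 30 1 rfl rfl (kid_child node1227 (by decide +kernel) (by decide +kernel) (by decide +kernel)) ?_
  refine kids_cons 31 0 rfl rfl (kid_prune (by decide +kernel)) ?_
  exact kids_nil 31

theorem node1237 : dfs 4 [7, 6, 5, 5] 61 210 [1, 5, 6, 30, 2, 10, 3, 15, 7, 35, 42, 210, 14, 70, 21, 105] = true := by
  refine node_of_kids 7 14 (by decide) (by decide) ?_
  refine kids_cons 8 13 rfl rfl (kid_child node1212 (by decide +kernel) (by decide +kernel) (by decide +kernel)) ?_
  refine kids_cons 9 12 rfl rfl (kid_child node1228 (by decide +kernel) (by decide +kernel) (by decide +kernel)) ?_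
  refine kids_cons 10 11 rfl rfl (kid_child node1229 (by decide +kernel) (by decide +kernel) (by decide +kernel)) ?_
  refine kids_cons 11 10 rfl rfl (kid_prune (by decide +kernel)) ?_
  refine kids_cons 12 9 rfl rfl (kid_child node1230 (by decide +kernel) (by decide +kernel) (by decide +kernel)) ?_
  refine kids_cons 13 8 rfl rfl (kid_child node1231 (by decide +kernel) (by decide +kernel) (by decide +kernel)) ?_
  refine kids_cons 14 7 rfl rfl (kid_child node1232 (by decide +kernel) (by decide +kernel) (by decide +kernel)) ?_
  refine kids_cons 15 6 rfl rfl (kid_prune (by decide +kernel)) ?_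
  refine kids_cons 16 5 rfl rfl (kid_prune (by decide +kernel)) ?_
  refine kids_cons 17 4 rfl rfl (kid_child node1233 (by decide +kernel) (by decide +kernel) (by decide +kernel)) ?_
  refine kids_cons 18 3 rfl rfl (kid_child node1234 (by decide +kernel) (by decide +kernel) (by decide +kernel)) ?_
  refine kids_cons 19 2 rfl rfl (kid_child node1235 (by decide +kernel) (by decide +kernel) (by decide +kernel)) ?_
  refine kids_cons 20 1 rfl rfl (kid_child node1236 (by decide +kernel) (by decide +kernel) (by decide +kernel)) ?_
  refine kids_cons 21 0 rfl rfl (kid_prune (by decide +kernel)) ?_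
  exact kids_nil 21

theorem node1254 : dfs 3 [8, 8, 6, 5, 5] 22 120 [1, 5, 6, 30, 2, 10, 3, 15, 4, 20, 24, 120, 8, 40, 12, 60, 2, 10, 12, 60, 4, 20, 6, 30, 2, 10, 12, 60, 4, 20, 6, 30] = true := by
  refine node_of_kids 8 20 (by decide) (by decide) ?_
  refine kids_cons 9 19 rfl rfl (kid_child node1238 (by decide +kernel) (by decide +kernel) (by decide +kernel)) ?_
  refine kids_cons 10 18 rfl rfl (kid_child node1239 (by decide +kernel) (by decide +kernel) (by decide +kernel)) ?_
  refine kids_cons 11 17 rfl rfl (kid_prune (by decide +kernel)) ?_
  refine kids_cons 12 16 rfl rfl (kid_child node1240 (by decide +kernel) (by decide +kernel) (by decide +kernel)) ?_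
  refine kids_cons 13 15 rfl rfl (kid_child node1241 (by decide +kernel) (by decide +kernel) (by decide +kernel)) ?_
  refine kids_cons 14 14 rfl rfl (kid_child node1242 (by decide +kernel) (by decide +kernel) (by decide +kernel)) ?_
  refine kids_cons 15 13 rfl rfl (kid_child node1243 (by decide +kernel) (by decide +kernel) (by decide +kernel)) ?_
  refine kids_cons 16 12 rfl rfl (kid_prune (by decide +kernel)) ?_
  refine kids_cons 17 11 rfl rfl (kid_child node1244 (by decide +kernel) (by decide +kernel) (by decide +kernel)) ?_
  refine kids_cons 18 10 rfl rfl (kid_child node1245 (by decide +kernel) (by decide +kernel) (by decide +kernel)) ?_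
  refine kids_cons 19 9 rfl rfl (kid_child node1246 (by decide +kernel) (by decide +kernel) (by decide +kernel)) ?_
  refine kids_cons 20 8 rfl rfl (kid_child node1247 (by decide +kernel) (by decide +kernel) (by decide +kernel)) ?_
  refine kids_cons 21 7 rfl rfl (kid_prune (by decide +kernel)) ?_
  refine kids_cons 22 6 rfl rfl (kid_child node1248 (by decide +kernel) (by decide +kernel) (by decide +kernel)) ?_
  refine kids_cons 23 5 rfl rfl (kid_child node1249 (by decide +kernel) (by decide +kernel) (by decide +kernel)) ?_
  refine kids_cons 24 4 rfl rfl (kid_child node1250 (by decide +kernel) (by decide +kernel) (by decide +kernel)) ?_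
  refine kids_cons 25 3 rfl rfl (kid_child node1251 (by decide +kernel) (by decide +kernel) (by decide +kernel)) ?_
  refine kids_cons 26 2 rfl rfl (kid_prune (by decide +kernel)) ?_
  refine kids_cons 27 1 rfl rfl (kid_child node1252 (by decide +kernel) (by decide +kernel) (by decide +kernel)) ?_
  refine kids_cons 28 0 rfl rfl (kid_child node1253 (by decide +kernel) (by decide +kernel) (by decide +kernel)) ?_
  exact kids_nil 28

theorem node1264 : dfs 4 [8, 6, 5, 5] 37 120 [1, 5, 6, 30, 2, 10, 3, 15, 4, 20, 24, 120, 8, 40, 12, 60, 2, 10, 12, 60, 4, 20, 6, 30, 2, 10, 12, 60, 4, 20, 6, 30] = true := by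
  refine node_of_kids 8 12 (by decide) (by decide) ?_
  refine kids_cons 9 11 rfl rfl (kid_child node1254 (by decide +kernel) (by decide +kernel) (by decide +kernel)) ?_
  refine kids_cons 10 10 rfl rfl (kid_child node1255 (by decide +kernel) (by decide +kernel) (by decide +kernel)) ?_
  refine kids_cons 11 9 rfl rfl (kid_prune (by decide +kernel)) ?_
  refine kids_cons 12 8 rfl rfl (kid_child node1256 (by decide +kernel) (by decide +kernel) (by decide +kernel)) ?_
  refine kids_cons 13 7 rfl rfl (kid_child node1257 (by decide +kernel) (by decide +kernel) (by decide +kernel)) ?_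
  refine kids_cons 14 6 rfl rfl (kid_child node1258 (by decide +kernel) (by decide +kernel) (by decide +kernel)) ?_
  refine kids_cons 15 5 rfl rfl (kid_child node1259 (by decide +kernel) (by decide +kernel) (by decide +kernel)) ?_
  refine kids_cons 16 4 rfl rfl (kid_prune (by decide +kernel)) ?_
  refine kids_cons 17 3 rfl rfl (kid_child node1260 (by decide +kernel) (by decide +kernel) (by decide +kernel)) ?_
  refine kids_cons 18 2 rfl rfl (kid_child node1261 (by decide +kernel) (by decide +kernel) (by decide +kernel)) ?_
  refine kids_cons 19 1 rfl rfl (kid_child node1262 (by decide +kernel) (by decide +kernel) (by decide +kernel)) ?_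
  refine kids_cons 20 0 rfl rfl (kid_child node1263 (by decide +kernel) (by decide +kernel) (by decide +kernel)) ?_
  exact kids_nil 20

theorem node1271 : dfs 5 [6, 5, 5] 13 30 [1, 5, 6, 30, 2, 10, 3, 15] = true := by
  refine node_of_kids 6 11 (by decide) (by decide) ?_
  refine kids_cons 7 10 rfl rfl (kid_child node757 (by decide +kernel) (by decide +kernel) (by decide +kernel)) ?_
  refine kids_cons 8 9 rfl rfl (kid_child node1237 (by decide +kernel) (by decide +kernel) (by decide +kernel)) ?_
  refine kids_cons 9 8 rfl rfl (kid_child node1264 (by decide +kernel) (by decide +kernel) (by decide +kernel)) ?_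
  refine kids_cons 10 7 rfl rfl (kid_child node1265 (by decide +kernel) (by decide +kernel) (by decide +kernel)) ?_
  refine kids_cons 11 6 rfl rfl (kid_prune (by decide +kernel)) ?_
  refine kids_cons 12 5 rfl rfl (kid_child node1266 (by decide +kernel) (by decide +kernel) (by decide +kernel)) ?_
  refine kids_cons 13 4 rfl rfl (kid_child node1267 (by decide +kernel) (by decide +kernel) (by decide +kernel)) ?_
  refine kids_cons 14 3 rfl rfl (kid_child node1268 (by decide +kernel) (by decide +kernel) (by decide +kernel)) ?_
  refine kids_cons 15 2 rfl rfl (kid_child node1269 (by decide +kernel) (by decide +kernel) (by decide +kernel)) ?_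
  refine kids_cons 16 1 rfl rfl (kid_prune (by decide +kernel)) ?_
  refine kids_cons 17 0 rfl rfl (kid_child node1270 (by decide +kernel) (by decide +kernel) (by decide +kernel)) ?_
  exact kids_nil 17

theorem node1285 : dfs 3 [7, 7, 7, 5, 5] 6 35 [1, 5, 7, 35] = true := by
  refine node_of_kids 7 23 (by decide) (by decide) ?_
  refine kids_cons 8 22 rfl rfl (kid_prune (by decide +kernel)) ?_
  refine kids_cons 9 21 rfl rfl (kid_child node1272 (by decide +kernel) (by decide +kernel) (by decide +kernel)) ?_
  refine kids_cons 10 20 rfl rfl (kid_child node1273 (by decide +kernel) (by decide +kernel) (by decide +kernel)) ?_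
  refine kids_cons 11 19 rfl rfl (kid_prune (by decide +kernel)) ?_
  refine kids_cons 12 18 rfl rfl (kid_child node1274 (by decide +kernel) (by decide +kernel) (by decide +kernel)) ?_
  refine kids_cons 13 17 rfl rfl (kid_child node1275 (by decide +kernel) (by decide +kernel) (by decide +kernel)) ?_
  refine kids_cons 14 16 rfl rfl (kid_prune (by decide +kernel)) ?_
  refine kids_cons 15 15 rfl rfl (kid_prune (by decide +kernel)) ?_
  refine kids_cons 16 14 rfl rfl (kid_prune (by decide +kernel)) ?_
  refine kids_cons 17 13 rfl rfl (kid_child node1276 (by decide +kernel) (by decide +kernel) (by decide +kernel)) ?_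
  refine kids_cons 18 12 rfl rfl (kid_prune (by decide +kernel)) ?_
  refine kids_cons 19 11 rfl rfl (kid_child node1277 (by decide +kernel) (by decide +kernel) (by decide +kernel)) ?_
  refine kids_cons 20 10 rfl rfl (kid_child node1278 (by decide +kernel) (by decide +kernel) (by decide +kernel)) ?_
  refine kids_cons 21 9 rfl rfl (kid_prune (by decide +kernel)) ?_
  refine kids_cons 22 8 rfl rfl (kid_prune (by decide +kernel)) ?_
  refine kids_cons 23 7 rfl rfl (kid_child node1279 (by decide +kernel) (by decide +kernel) (by decide +kernel)) ?_
  refine kids_cons 24 6 rfl rfl (kid_child node1280 (by decide +kernel) (by decide +kernel) (by decide +kernel)) ?_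
  refine kids_cons 25 5 rfl rfl (kid_child node1281 (by decide +kernel) (by decide +kernel) (by decide +kernel)) ?_
  refine kids_cons 26 4 rfl rfl (kid_prune (by decide +kernel)) ?_
  refine kids_cons 27 3 rfl rfl (kid_child node1282 (by decide +kernel) (by decide +kernel) (by decide +kernel)) ?_
  refine kids_cons 28 2 rfl rfl (kid_child node1283 (by decide +kernel) (by decide +kernel) (by decide +kernel)) ?_
  refine kids_cons 29 1 rfl rfl (kid_prune (by decide +kernel)) ?_
  refine kids_cons 30 0 rfl rfl (kid_child node1284 (by decide +kernel) (by decide +kernel) (by decide +kernel)) ?_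
  exact kids_nil 30

theorem node1299 : dfs 3 [8, 7, 7, 5, 5] 53 280 [1, 5, 7, 35, 8, 40, 56, 280, 2, 10, 14, 70, 4, 20, 28, 140] = true := by
  refine node_of_kids 8 19 (by decide) (by decide) ?_
  refine kids_cons 9 18 rfl rfl (kid_child node1286 (by decide +kernel) (by decide +kernel) (by decide +kernel)) ?_
  refine kids_cons 10 17 rfl rfl (kid_child node1287 (by decide +kernel) (by decide +kernel) (by decide +kernel)) ?_
  refine kids_cons 11 16 rfl rfl (kid_prune (by decide +kernel)) ?_
  refine kids_cons 12 15 rfl rfl (kid_child node1288 (by decide +kernel) (by decide +kernel) (by decide +kernel)) ?_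
  refine kids_cons 13 14 rfl rfl (kid_child node1289 (by decide +kernel) (by decide +kernel) (by decide +kernel)) ?_
  refine kids_cons 14 13 rfl rfl (kid_child node1290 (by decide +kernel) (by decide +kernel) (by decide +kernel)) ?_
  refine kids_cons 15 12 rfl rfl (kid_prune (by decide +kernel)) ?_
  refine kids_cons 16 11 rfl rfl (kid_prune (by decide +kernel)) ?_
  refine kids_cons 17 10 rfl rfl (kid_child node1291 (by decide +kernel) (by decide +kernel) (by decide +kernel)) ?_
  refine kids_cons 18 9 rfl rfl (kid_child node1292 (by decide +kernel) (by decide +kernel) (by decide +kernel)) ?_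
  refine kids_cons 19 8 rfl rfl (kid_child node1293 (by decide +kernel) (by decide +kernel) (by decide +kernel)) ?_
  refine kids_cons 20 7 rfl rfl (kid_child node1294 (by decide +kernel) (by decide +kernel) (by decide +kernel)) ?_
  refine kids_cons 21 6 rfl rfl (kid_prune (by decide +kernel)) ?_
  refine kids_cons 22 5 rfl rfl (kid_prune (by decide +kernel)) ?_
  refine kids_cons 23 4 rfl rfl (kid_child node1295 (by decide +kernel) (by decide +kernel) (by decide +kernel)) ?_
  refine kids_cons 24 3 rfl rfl (kid_child node1296 (by decide +kernel) (by decide +kernel) (by decide +kernel)) ?_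
  refine kids_cons 25 2 rfl rfl (kid_child node1297 (by decide +kernel) (by decide +kernel) (by decide +kernel)) ?_
  refine kids_cons 26 1 rfl rfl (kid_prune (by decide +kernel)) ?_
  refine kids_cons 27 0 rfl rfl (kid_child node1298 (by decide +kernel) (by decide +kernel) (by decide +kernel)) ?_
  exact kids_nil 27

theorem node1310 : dfs 3 [9, 7, 7, 5, 5] 64 315 [1, 5, 7, 35, 9, 45, 63, 315, 3, 15, 21, 105, 3, 15, 21, 105] = true := by
  refine node_of_kids 9 16 (by decide) (by decide) ?_
  refine kids_cons 10 15 rfl rfl (kid_child node1300 (by decide +kernel) (by decide +kernel) (by decide +kernel)) ?_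
  refine kids_cons 11 14 rfl rfl (kid_prune (by decide +kernel)) ?_
  refine kids_cons 12 13 rfl rfl (kid_child node1301 (by decide +kernel) (by decide +kernel) (by decide +kernel)) ?_
  refine kids_cons 13 12 rfl rfl (kid_child node1302 (by decide +kernel) (by decide +kernel) (by decide +kernel)) ?_
  refine kids_cons 14 11 rfl rfl (kid_child node1303 (by decide +kernel) (by decide +kernel) (by decide +kernel)) ?_
  refine kids_cons 15 10 rfl rfl (kid_prune (by decide +kernel)) ?_
  refine kids_cons 16 9 rfl rfl (kid_prune (by decide +kernel)) ?_
  refine kids_cons 17 8 rfl rfl (kid_child node1304 (by decide +kernel) (by decide +kernel) (by decide +kernel)) ?_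
  refine kids_cons 18 7 rfl rfl (kid_prune (by decide +kernel)) ?_
  refine kids_cons 19 6 rfl rfl (kid_child node1305 (by decide +kernel) (by decide +kernel) (by decide +kernel)) ?_
  refine kids_cons 20 5 rfl rfl (kid_child node1306 (by decide +kernel) (by decide +kernel) (by decide +kernel)) ?_
  refine kids_cons 21 4 rfl rfl (kid_prune (by decide +kernel)) ?_
  refine kids_cons 22 3 rfl rfl (kid_prune (by decide +kernel)) ?_
  refine kids_cons 23 2 rfl rfl (kid_child node1307 (by decide +kernel) (by decide +kernel) (by decide +kernel)) ?_
  refine kids_cons 24 1 rfl rfl (kid_child node1308 (by decide +kernel) (by decide +kernel) (by decide +kernel)) ?_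
  refine kids_cons 25 0 rfl rfl (kid_child node1309 (by decide +kernel) (by decide +kernel) (by decide +kernel)) ?_
  exact kids_nil 25

theorem node1318 : dfs 4 [7, 7, 5, 5] 11 35 [1, 5, 7, 35] = true := by
  refine node_of_kids 7 13 (by decide) (by decide) ?_
  refine kids_cons 8 12 rfl rfl (kid_child node1285 (by decide +kernel) (by decide +kernel) (by decide +kernel)) ?_
  refine kids_cons 9 11 rfl rfl (kid_child node1299 (by decide +kernel) (by decide +kernel) (by decide +kernel)) ?_
  refine kids_cons 10 10 rfl rfl (kid_child node1310 (by decide +kernel) (by decide +kernel) (by decide +kernel)) ?_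
  refine kids_cons 11 9 rfl rfl (kid_prune (by decide +kernel)) ?_
  refine kids_cons 12 8 rfl rfl (kid_child node1311 (by decide +kernel) (by decide +kernel) (by decide +kernel)) ?_
  refine kids_cons 13 7 rfl rfl (kid_child node1312 (by decide +kernel) (by decide +kernel) (by decide +kernel)) ?_
  refine kids_cons 14 6 rfl rfl (kid_child node1313 (by decide +kernel) (by decide +kernel) (by decide +kernel)) ?_
  refine kids_cons 15 5 rfl rfl (kid_prune (by decide +kernel)) ?_
  refine kids_cons 16 4 rfl rfl (kid_prune (by decide +kernel)) ?_
  refine kids_cons 17 3 rfl rfl (kid_child node1314 (by decide +kernel) (by decide +kernel) (by decide +kernel)) ?_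
  refine kids_cons 18 2 rfl rfl (kid_child node1315 (by decide +kernel) (by decide +kernel) (by decide +kernel)) ?_
  refine kids_cons 19 1 rfl rfl (kid_child node1316 (by decide +kernel) (by decide +kernel) (by decide +kernel)) ?_
  refine kids_cons 20 0 rfl rfl (kid_child node1317 (by decide +kernel) (by decide +kernel) (by decide +kernel)) ?_
  exact kids_nil 20

theorem node1324 : dfs 5 [7, 5, 5] 16 35 [1, 5, 7, 35] = true := by
  refine node_of_kids 7 9 (by decide) (by decide) ?_
  refine kids_cons 8 8 rfl rfl (kid_child node1318 (by decide +kernel) (by decide +kernel) (by decide +kernel)) ?_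
  refine kids_cons 9 7 rfl rfl (kid_child node1319 (by decide +kernel) (by decide +kernel) (by decide +kernel)) ?_
  refine kids_cons 10 6 rfl rfl (kid_child node1320 (by decide +kernel) (by decide +kernel) (by decide +kernel)) ?_
  refine kids_cons 11 5 rfl rfl (kid_prune (by decide +kernel)) ?_
  refine kids_cons 12 4 rfl rfl (kid_child node1321 (by decide +kernel) (by decide +kernel) (by decide +kernel)) ?_
  refine kids_cons 13 3 rfl rfl (kid_child node1322 (by decide +kernel) (by decide +kernel) (by decide +kernel)) ?_
  refine kids_cons 14 2 rfl rfl (kid_child node1323 (by decide +kernel) (by decide +kernel) (by decide +kernel)) ?_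
  refine kids_cons 15 1 rfl rfl (kid_prune (by decide +kernel)) ?_
  refine kids_cons 16 0 rfl rfl (kid_prune (by decide +kernel)) ?_
  exact kids_nil 16

theorem node1333 : dfs 4 [8, 8, 5, 5] 14 40 [1, 5, 8, 40, 2, 10, 4, 20] = true := by
  refine node_of_kids 8 10 (by decide) (by decide) ?_
  refine kids_cons 9 9 rfl rfl (kid_child node1325 (by decide +kernel) (by decide +kernel) (by decide +kernel)) ?_
  refine kids_cons 10 8 rfl rfl (kid_child node1326 (by decide +kernel) (by decide +kernel) (by decide +kernel)) ?_
  refine kids_cons 11 7 rfl rfl (kid_prune (by decide +kernel)) ?_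
  refine kids_cons 12 6 rfl rfl (kid_child node1327 (by decide +kernel) (by decide +kernel) (by decide +kernel)) ?_
  refine kids_cons 13 5 rfl rfl (kid_child node1328 (by decide +kernel) (by decide +kernel) (by decide +kernel)) ?_
  refine kids_cons 14 4 rfl rfl (kid_child node1329 (by decide +kernel) (by decide +kernel) (by decide +kernel)) ?_
  refine kids_cons 15 3 rfl rfl (kid_child node1330 (by decide +kernel) (by decide +kernel) (by decide +kernel)) ?_
  refine kids_cons 16 2 rfl rfl (kid_prune (by decide +kernel)) ?_
  refine kids_cons 17 1 rfl rfl (kid_child node1331 (by decide +kernel) (by decide +kernel) (by decide +kernel)) ?_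
  refine kids_cons 18 0 rfl rfl (kid_child node1332 (by decide +kernel) (by decide +kernel) (by decide +kernel)) ?_
  exact kids_nil 18

theorem node1339 : dfs 5 [8, 5, 5] 19 40 [1, 5, 8, 40, 2, 10, 4, 20] = true := by
  refine node_of_kids 8 7 (by decide) (by decide) ?_
  refine kids_cons 9 6 rfl rfl (kid_child node1333 (by decide +kernel) (by decide +kernel) (by decide +kernel)) ?_
  refine kids_cons 10 5 rfl rfl (kid_child node1334 (by decide +kernel) (by decide +kernel) (by decide +kernel)) ?_
  refine kids_cons 11 4 rfl rfl (kid_prune (by decide +kernel)) ?_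
  refine kids_cons 12 3 rfl rfl (kid_child node1335 (by decide +kernel) (by decide +kernel) (by decide +kernel)) ?_
  refine kids_cons 13 2 rfl rfl (kid_child node1336 (by decide +kernel) (by decide +kernel) (by decide +kernel)) ?_
  refine kids_cons 14 1 rfl rfl (kid_child node1337 (by decide +kernel) (by decide +kernel) (by decide +kernel)) ?_
  refine kids_cons 15 0 rfl rfl (kid_child node1338 (by decide +kernel) (by decide +kernel) (by decide +kernel)) ?_
  exact kids_nil 15

theorem node1344 : dfs 6 [5, 5] 3 5 [1, 5] = true := by
  refine node_of_kids 5 9 (by decide) (by decide) ?_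
  refine kids_cons 6 8 rfl rfl (kid_prune (by decide +kernel)) ?_
  refine kids_cons 7 7 rfl rfl (kid_child node1271 (by decide +kernel) (by decide +kernel) (by decide +kernel)) ?_
  refine kids_cons 8 6 rfl rfl (kid_child node1324 (by decide +kernel) (by decide +kernel) (by decide +kernel)) ?_
  refine kids_cons 9 5 rfl rfl (kid_child node1339 (by decide +kernel) (by decide +kernel) (by decide +kernel)) ?_
  refine kids_cons 10 4 rfl rfl (kid_child node1340 (by decide +kernel) (by decide +kernel) (by decide +kernel)) ?_
  refine kids_cons 11 3 rfl rfl (kid_prune (by decide +kernel)) ?_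
  refine kids_cons 12 2 rfl rfl (kid_child node1341 (by decide +kernel) (by decide +kernel) (by decide +kernel)) ?_
  refine kids_cons 13 1 rfl rfl (kid_child node1342 (by decide +kernel) (by decide +kernel) (by decide +kernel)) ?_
  refine kids_cons 14 0 rfl rfl (kid_child node1343 (by decide +kernel) (by decide +kernel) (by decide +kernel)) ?_
  exact kids_nil 14

theorem node1580 : dfs 2 [8, 6, 6, 6, 6, 5] 1 120 [1, 5, 6, 30, 2, 10, 3, 15, 4, 20, 24, 120, 8, 40, 12, 60, 2, 10, 12, 60, 4, 20, 6, 30, 2, 10, 12, 60, 4, 20, 6, 30] = true := by
  refine node_of_kids 121 360 (by decide) (by decide) ?_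
  refine kids_cons 122 359 rfl rfl (kid_child node1345 (by decide +kernel) (by decide +kernel) (by decide +kernel)) ?_
  refine kids_cons 123 358 rfl rfl (kid_child node1346 (by decide +kernel) (by decide +kernel) (by decide +kernel)) ?_
  refine kids_cons 124 357 rfl rfl (kid_child node1347 (by decide +kernel) (by decide +kernel) (by decide +kernel)) ?_
  refine kids_cons 125 356 rfl rfl (kid_child node1348 (by decide +kernel) (by decide +kernel) (by decide +kernel)) ?_
  refine kids_cons 126 355 rfl rfl (kid_prune (by decide +kernel)) ?_
  refine kids_cons 127 354 rfl rfl (kid_child node1349 (by decide +kernel) (by decide +kernel) (by decide +kernel)) ?_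
  refine kids_cons 128 353 rfl rfl (kid_prune (by decide +kernel)) ?_
  refine kids_cons 129 352 rfl rfl (kid_child node1350 (by decide +kernel) (by decide +kernel) (by decide +kernel)) ?_
  refine kids_cons 130 351 rfl rfl (kid_child node1351 (by decide +kernel) (by decide +kernel) (by decide +kernel)) ?_
  refine kids_cons 131 350 rfl rfl (kid_prune (by decide +kernel)) ?_
  refine kids_cons 132 349 rfl rfl (kid_prune (by decide +kernel)) ?_
  refine kids_cons 133 348 rfl rfl (kid_child node1352 (by decide +kernel) (by decide +kernel) (by decide +kernel)) ?_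
  refine kids_cons 134 347 rfl rfl (kid_child node1353 (by decide +kernel) (by decide +kernel) (by decide +kernel)) ?_
  refine kids_cons 135 346 rfl rfl (kid_child node1354 (by decide +kernel) (by decide +kernel) (by decide +kernel)) ?_
  refine kids_cons 136 345 rfl rfl (kid_prune (by decide +kernel)) ?_
  refine kids_cons 137 344 rfl rfl (kid_child node1355 (by decide +kernel) (by decide +kernel) (by decide +kernel)) ?_
  refine kids_cons 138 343 rfl rfl (kid_prune (by decide +kernel)) ?_
  refine kids_cons 139 342 rfl rfl (kid_child node1356 (by decide +kernel) (by decide +kernel) (by decide +kernel)) ?_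
  refine kids_cons 140 341 rfl rfl (kid_prune (by decide +kernel)) ?_
  refine kids_cons 141 340 rfl rfl (kid_prune (by decide +kernel)) ?_
  refine kids_cons 142 339 rfl rfl (kid_child node1357 (by decide +kernel) (by decide +kernel) (by decide +kernel)) ?_
  refine kids_cons 143 338 rfl rfl (kid_child node1358 (by decide +kernel) (by decide +kernel) (by decide +kernel)) ?_
  refine kids_cons 144 337 rfl rfl (kid_child node1359 (by decide +kernel) (by decide +kernel) (by decide +kernel)) ?_
  refine kids_cons 145 336 rfl rfl (kid_child node1360 (by decide +kernel) (by decide +kernel) (by decide +kernel)) ?_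
  refine kids_cons 146 335 rfl rfl (kid_prune (by decide +kernel)) ?_
  refine kids_cons 147 334 rfl rfl (kid_child node1361 (by decide +kernel) (by decide +kernel) (by decide +kernel)) ?_
  refine kids_cons 148 333 rfl rfl (kid_child node1362 (by decide +kernel) (by decide +kernel) (by decide +kernel)) ?_
  refine kids_cons 149 332 rfl rfl (kid_child node1363 (by decide +kernel) (by decide +kernel) (by decide +kernel)) ?_
  refine kids_cons 150 331 rfl rfl (kid_prune (by decide +kernel)) ?_
  refine kids_cons 151 330 rfl rfl (kid_prune (by decide +kernel)) ?_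
  refine kids_cons 152 329 rfl rfl (kid_prune (by decide +kernel)) ?_
  refine kids_cons 153 328 rfl rfl (kid_child node1364 (by decide +kernel) (by decide +kernel) (by decide +kernel)) ?_
  refine kids_cons 154 327 rfl rfl (kid_child node1365 (by decide +kernel) (by decide +kernel) (by decide +kernel)) ?_
  refine kids_cons 155 326 rfl rfl (kid_child node1366 (by decide +kernel) (by decide +kernel) (by decide +kernel)) ?_
  refine kids_cons 156 325 rfl rfl (kid_prune (by decide +kernel)) ?_
  refine kids_cons 157 324 rfl rfl (kid_child node1367 (by decide +kernel) (by decide +kernel) (by decide +kernel)) ?_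
  refine kids_cons 158 323 rfl rfl (kid_prune (by decide +kernel)) ?_
  refine kids_cons 159 322 rfl rfl (kid_child node1368 (by decide +kernel) (by decide +kernel) (by decide +kernel)) ?_
  refine kids_cons 160 321 rfl rfl (kid_child node1369 (by decide +kernel) (by decide +kernel) (by decide +kernel)) ?_
  refine kids_cons 161 320 rfl rfl (kid_prune (by decide +kernel)) ?_
  refine kids_cons 162 319 rfl rfl (kid_child node1370 (by decide +kernel) (by decide +kernel) (by decide +kernel)) ?_
  refine kids_cons 163 318 rfl rfl (kid_child node1371 (by decide +kernel) (by decide +kernel) (by decide +kernel)) ?_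
  refine kids_cons 164 317 rfl rfl (kid_prune (by decide +kernel)) ?_
  refine kids_cons 165 316 rfl rfl (kid_child node1372 (by decide +kernel) (by decide +kernel) (by decide +kernel)) ?_
  refine kids_cons 166 315 rfl rfl (kid_prune (by decide +kernel)) ?_
  refine kids_cons 167 314 rfl rfl (kid_child node1373 (by decide +kernel) (by decide +kernel) (by decide +kernel)) ?_
  refine kids_cons 168 313 rfl rfl (kid_child node1374 (by decide +kernel) (by decide +kernel) (by decide +kernel)) ?_
  refine kids_cons 169 312 rfl rfl (kid_child node1375 (by decide +kernel) (by decide +kernel) (by decide +kernel)) ?_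
  refine kids_cons 170 311 rfl rfl (kid_child node1376 (by decide +kernel) (by decide +kernel) (by decide +kernel)) ?_
  refine kids_cons 171 310 rfl rfl (kid_prune (by decide +kernel)) ?_
  refine kids_cons 172 309 rfl rfl (kid_child node1377 (by decide +kernel) (by decide +kernel) (by decide +kernel)) ?_
  refine kids_cons 173 308 rfl rfl (kid_child node1378 (by decide +kernel) (by decide +kernel) (by decide +kernel)) ?_
  refine kids_cons 174 307 rfl rfl (kid_prune (by decide +kernel)) ?_
  refine kids_cons 175 306 rfl rfl (kid_child node1379 (by decide +kernel) (by decide +kernel) (by decide +kernel)) ?_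
  refine kids_cons 176 305 rfl rfl (kid_prune (by decide +kernel)) ?_
  refine kids_cons 177 304 rfl rfl (kid_child node1380 (by decide +kernel) (by decide +kernel) (by decide +kernel)) ?_
  refine kids_cons 178 303 rfl rfl (kid_child node1381 (by decide +kernel) (by decide +kernel) (by decide +kernel)) ?_
  refine kids_cons 179 302 rfl rfl (kid_child node1382 (by decide +kernel) (by decide +kernel) (by decide +kernel)) ?_
  refine kids_cons 180 301 rfl rfl (kid_child node1383 (by decide +kernel) (by decide +kernel) (by decide +kernel)) ?_
  refine kids_cons 181 300 rfl rfl (kid_prune (by decide +kernel)) ?_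
  refine kids_cons 182 299 rfl rfl (kid_prune (by decide +kernel)) ?_
  refine kids_cons 183 298 rfl rfl (kid_child node1384 (by decide +kernel) (by decide +kernel) (by decide +kernel)) ?_
  refine kids_cons 184 297 rfl rfl (kid_child node1385 (by decide +kernel) (by decide +kernel) (by decide +kernel)) ?_
  refine kids_cons 185 296 rfl rfl (kid_child node1386 (by decide +kernel) (by decide +kernel) (by decide +kernel)) ?_
  refine kids_cons 186 295 rfl rfl (kid_prune (by decide +kernel)) ?_
  refine kids_cons 187 294 rfl rfl (kid_child node1387 (by decide +kernel) (by decide +kernel) (by decide +kernel)) ?_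
  refine kids_cons 188 293 rfl rfl (kid_child node1388 (by decide +kernel) (by decide +kernel) (by decide +kernel)) ?_
  refine kids_cons 189 292 rfl rfl (kid_child node1389 (by decide +kernel) (by decide +kernel) (by decide +kernel)) ?_
  refine kids_cons 190 291 rfl rfl (kid_child node1390 (by decide +kernel) (by decide +kernel) (by decide +kernel)) ?_
  refine kids_cons 191 290 rfl rfl (kid_prune (by decide +kernel)) ?_
  refine kids_cons 192 289 rfl rfl (kid_prune (by decide +kernel)) ?_
  refine kids_cons 193 288 rfl rfl (kid_child node1391 (by decide +kernel) (by decide +kernel) (by decide +kernel)) ?_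
  refine kids_cons 194 287 rfl rfl (kid_prune (by decide +kernel)) ?_
  refine kids_cons 195 286 rfl rfl (kid_child node1392 (by decide +kernel) (by decide +kernel) (by decide +kernel)) ?_
  refine kids_cons 196 285 rfl rfl (kid_prune (by decide +kernel)) ?_
  refine kids_cons 197 284 rfl rfl (kid_child node1393 (by decide +kernel) (by decide +kernel) (by decide +kernel)) ?_
  refine kids_cons 198 283 rfl rfl (kid_prune (by decide +kernel)) ?_
  refine kids_cons 199 282 rfl rfl (kid_child node1394 (by decide +kernel) (by decide +kernel) (by decide +kernel)) ?_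
  refine kids_cons 200 281 rfl rfl (kid_prune (by decide +kernel)) ?_
  refine kids_cons 201 280 rfl rfl (kid_prune (by decide +kernel)) ?_
  refine kids_cons 202 279 rfl rfl (kid_child node1395 (by decide +kernel) (by decide +kernel) (by decide +kernel)) ?_
  refine kids_cons 203 278 rfl rfl (kid_child node1396 (by decide +kernel) (by decide +kernel) (by decide +kernel)) ?_
  refine kids_cons 204 277 rfl rfl (kid_child node1397 (by decide +kernel) (by decide +kernel) (by decide +kernel)) ?_
  refine kids_cons 205 276 rfl rfl (kid_child node1398 (by decide +kernel) (by decide +kernel) (by decide +kernel)) ?_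
  refine kids_cons 206 275 rfl rfl (kid_prune (by decide +kernel)) ?_
  refine kids_cons 207 274 rfl rfl (kid_child node1399 (by decide +kernel) (by decide +kernel) (by decide +kernel)) ?_
  refine kids_cons 208 273 rfl rfl (kid_child node1400 (by decide +kernel) (by decide +kernel) (by decide +kernel)) ?_
  refine kids_cons 209 272 rfl rfl (kid_child node1401 (by decide +kernel) (by decide +kernel) (by decide +kernel)) ?_
  refine kids_cons 210 271 rfl rfl (kid_child node1402 (by decide +kernel) (by decide +kernel) (by decide +kernel)) ?_
  refine kids_cons 211 270 rfl rfl (kid_prune (by decide +kernel)) ?_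
  refine kids_cons 212 269 rfl rfl (kid_prune (by decide +kernel)) ?_
  refine kids_cons 213 268 rfl rfl (kid_child node1403 (by decide +kernel) (by decide +kernel) (by decide +kernel)) ?_
  refine kids_cons 214 267 rfl rfl (kid_child node1404 (by decide +kernel) (by decide +kernel) (by decide +kernel)) ?_
  refine kids_cons 215 266 rfl rfl (kid_child node1405 (by decide +kernel) (by decide +kernel) (by decide +kernel)) ?_
  refine kids_cons 216 265 rfl rfl (kid_prune (by decide +kernel)) ?_
  refine kids_cons 217 264 rfl rfl (kid_child node1406 (by decide +kernel) (by decide +kernel) (by decide +kernel)) ?_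
  refine kids_cons 218 263 rfl rfl (kid_child node1407 (by decide +kernel) (by decide +kernel) (by decide +kernel)) ?_
  refine kids_cons 219 262 rfl rfl (kid_child node1408 (by decide +kernel) (by decide +kernel) (by decide +kernel)) ?_
  refine kids_cons 220 261 rfl rfl (kid_child node1409 (by decide +kernel) (by decide +kernel) (by decide +kernel)) ?_
  refine kids_cons 221 260 rfl rfl (kid_prune (by decide +kernel)) ?_
  refine kids_cons 222 259 rfl rfl (kid_child node1410 (by decide +kernel) (by decide +kernel) (by decide +kernel)) ?_
  refine kids_cons 223 258 rfl rfl (kid_child node1411 (by decide +kernel) (by decide +kernel) (by decide +kernel)) ?_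
  refine kids_cons 224 257 rfl rfl (kid_prune (by decide +kernel)) ?_
  refine kids_cons 225 256 rfl rfl (kid_child node1412 (by decide +kernel) (by decide +kernel) (by decide +kernel)) ?_
  refine kids_cons 226 255 rfl rfl (kid_prune (by decide +kernel)) ?_
  refine kids_cons 227 254 rfl rfl (kid_child node1413 (by decide +kernel) (by decide +kernel) (by decide +kernel)) ?_
  refine kids_cons 228 253 rfl rfl (kid_child node1414 (by decide +kernel) (by decide +kernel) (by decide +kernel)) ?_
  refine kids_cons 229 252 rfl rfl (kid_child node1415 (by decide +kernel) (by decide +kernel) (by decide +kernel)) ?_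
  refine kids_cons 230 251 rfl rfl (kid_prune (by decide +kernel)) ?_
  refine kids_cons 231 250 rfl rfl (kid_prune (by decide +kernel)) ?_
  refine kids_cons 232 249 rfl rfl (kid_child node1416 (by decide +kernel) (by decide +kernel) (by decide +kernel)) ?_
  refine kids_cons 233 248 rfl rfl (kid_child node1417 (by decide +kernel) (by decide +kernel) (by decide +kernel)) ?_
  refine kids_cons 234 247 rfl rfl (kid_prune (by decide +kernel)) ?_
  refine kids_cons 235 246 rfl rfl (kid_child node1418 (by decide +kernel) (by decide +kernel) (by decide +kernel)) ?_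
  refine kids_cons 236 245 rfl rfl (kid_prune (by decide +kernel)) ?_
  refine kids_cons 237 244 rfl rfl (kid_child node1419 (by decide +kernel) (by decide +kernel) (by decide +kernel)) ?_
  refine kids_cons 238 243 rfl rfl (kid_child node1420 (by decide +kernel) (by decide +kernel) (by decide +kernel)) ?_
  refine kids_cons 239 242 rfl rfl (kid_child node1421 (by decide +kernel) (by decide +kernel) (by decide +kernel)) ?_
  refine kids_cons 240 241 rfl rfl (kid_prune (by decide +kernel)) ?_
  refine kids_cons 241 240 rfl rfl (kid_prune (by decide +kernel)) ?_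
  refine kids_cons 242 239 rfl rfl (kid_prune (by decide +kernel)) ?_
  refine kids_cons 243 238 rfl rfl (kid_child node1422 (by decide +kernel) (by decide +kernel) (by decide +kernel)) ?_
  refine kids_cons 244 237 rfl rfl (kid_child node1423 (by decide +kernel) (by decide +kernel) (by decide +kernel)) ?_
  refine kids_cons 245 236 rfl rfl (kid_child node1424 (by decide +kernel) (by decide +kernel) (by decide +kernel)) ?_
  refine kids_cons 246 235 rfl rfl (kid_prune (by decide +kernel)) ?_
  refine kids_cons 247 234 rfl rfl (kid_child node1425 (by decide +kernel) (by decide +kernel) (by decide +kernel)) ?_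
  refine kids_cons 248 233 rfl rfl (kid_child node1426 (by decide +kernel) (by decide +kernel) (by decide +kernel)) ?_
  refine kids_cons 249 232 rfl rfl (kid_child node1427 (by decide +kernel) (by decide +kernel) (by decide +kernel)) ?_
  refine kids_cons 250 231 rfl rfl (kid_child node1428 (by decide +kernel) (by decide +kernel) (by decide +kernel)) ?_
  refine kids_cons 251 230 rfl rfl (kid_prune (by decide +kernel)) ?_
  refine kids_cons 252 229 rfl rfl (kid_prune (by decide +kernel)) ?_
  refine kids_cons 253 228 rfl rfl (kid_child node1429 (by decide +kernel) (by decide +kernel) (by decide +kernel)) ?_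
  refine kids_cons 254 227 rfl rfl (kid_child node1430 (by decide +kernel) (by decide +kernel) (by decide +kernel)) ?_
  refine kids_cons 255 226 rfl rfl (kid_child node1431 (by decide +kernel) (by decide +kernel) (by decide +kernel)) ?_
  refine kids_cons 256 225 rfl rfl (kid_prune (by decide +kernel)) ?_
  refine kids_cons 257 224 rfl rfl (kid_child node1432 (by decide +kernel) (by decide +kernel) (by decide +kernel)) ?_
  refine kids_cons 258 223 rfl rfl (kid_prune (by decide +kernel)) ?_
  refine kids_cons 259 222 rfl rfl (kid_child node1433 (by decide +kernel) (by decide +kernel) (by decide +kernel)) ?_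
  refine kids_cons 260 221 rfl rfl (kid_child node1434 (by decide +kernel) (by decide +kernel) (by decide +kernel)) ?_
  refine kids_cons 261 220 rfl rfl (kid_prune (by decide +kernel)) ?_
  refine kids_cons 262 219 rfl rfl (kid_child node1435 (by decide +kernel) (by decide +kernel) (by decide +kernel)) ?_
  refine kids_cons 263 218 rfl rfl (kid_child node1436 (by decide +kernel) (by decide +kernel) (by decide +kernel)) ?_
  refine kids_cons 264 217 rfl rfl (kid_child node1437 (by decide +kernel) (by decide +kernel) (by decide +kernel)) ?_
  refine kids_cons 265 216 rfl rfl (kid_child node1438 (by decide +kernel) (by decide +kernel) (by decide +kernel)) ?_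
  refine kids_cons 266 215 rfl rfl (kid_prune (by decide +kernel)) ?_
  refine kids_cons 267 214 rfl rfl (kid_child node1439 (by decide +kernel) (by decide +kernel) (by decide +kernel)) ?_
  refine kids_cons 268 213 rfl rfl (kid_child node1440 (by decide +kernel) (by decide +kernel) (by decide +kernel)) ?_
  refine kids_cons 269 212 rfl rfl (kid_child node1441 (by decide +kernel) (by decide +kernel) (by decide +kernel)) ?_
  refine kids_cons 270 211 rfl rfl (kid_prune (by decide +kernel)) ?_
  refine kids_cons 271 210 rfl rfl (kid_prune (by decide +kernel)) ?_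
  refine kids_cons 272 209 rfl rfl (kid_prune (by decide +kernel)) ?_
  refine kids_cons 273 208 rfl rfl (kid_child node1442 (by decide +kernel) (by decide +kernel) (by decide +kernel)) ?_
  refine kids_cons 274 207 rfl rfl (kid_child node1443 (by decide +kernel) (by decide +kernel) (by decide +kernel)) ?_
  refine kids_cons 275 206 rfl rfl (kid_child node1444 (by decide +kernel) (by decide +kernel) (by decide +kernel)) ?_
  refine kids_cons 276 205 rfl rfl (kid_prune (by decide +kernel)) ?_
  refine kids_cons 277 204 rfl rfl (kid_child node1445 (by decide +kernel) (by decide +kernel) (by decide +kernel)) ?_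
  refine kids_cons 278 203 rfl rfl (kid_prune (by decide +kernel)) ?_
  refine kids_cons 279 202 rfl rfl (kid_child node1446 (by decide +kernel) (by decide +kernel) (by decide +kernel)) ?_
  refine kids_cons 280 201 rfl rfl (kid_child node1447 (by decide +kernel) (by decide +kernel) (by decide +kernel)) ?_
  refine kids_cons 281 200 rfl rfl (kid_prune (by decide +kernel)) ?_
  refine kids_cons 282 199 rfl rfl (kid_prune (by decide +kernel)) ?_
  refine kids_cons 283 198 rfl rfl (kid_child node1448 (by decide +kernel) (by decide +kernel) (by decide +kernel)) ?_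
  refine kids_cons 284 197 rfl rfl (kid_prune (by decide +kernel)) ?_
  refine kids_cons 285 196 rfl rfl (kid_child node1449 (by decide +kernel) (by decide +kernel) (by decide +kernel)) ?_
  refine kids_cons 286 195 rfl rfl (kid_prune (by decide +kernel)) ?_
  refine kids_cons 287 194 rfl rfl (kid_child node1450 (by decide +kernel) (by decide +kernel) (by decide +kernel)) ?_
  refine kids_cons 288 193 rfl rfl (kid_child node1451 (by decide +kernel) (by decide +kernel) (by decide +kernel)) ?_
  refine kids_cons 289 192 rfl rfl (kid_child node1452 (by decide +kernel) (by decide +kernel) (by decide +kernel)) ?_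
  refine kids_cons 290 191 rfl rfl (kid_child node1453 (by decide +kernel) (by decide +kernel) (by decide +kernel)) ?_
  refine kids_cons 291 190 rfl rfl (kid_prune (by decide +kernel)) ?_
  refine kids_cons 292 189 rfl rfl (kid_child node1454 (by decide +kernel) (by decide +kernel) (by decide +kernel)) ?_
  refine kids_cons 293 188 rfl rfl (kid_child node1455 (by decide +kernel) (by decide +kernel) (by decide +kernel)) ?_
  refine kids_cons 294 187 rfl rfl (kid_prune (by decide +kernel)) ?_
  refine kids_cons 295 186 rfl rfl (kid_child node1456 (by decide +kernel) (by decide +kernel) (by decide +kernel)) ?_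
  refine kids_cons 296 185 rfl rfl (kid_prune (by decide +kernel)) ?_
  refine kids_cons 297 184 rfl rfl (kid_child node1457 (by decide +kernel) (by decide +kernel) (by decide +kernel)) ?_
  refine kids_cons 298 183 rfl rfl (kid_child node1458 (by decide +kernel) (by decide +kernel) (by decide +kernel)) ?_
  refine kids_cons 299 182 rfl rfl (kid_child node1459 (by decide +kernel) (by decide +kernel) (by decide +kernel)) ?_
  refine kids_cons 300 181 rfl rfl (kid_child node1460 (by decide +kernel) (by decide +kernel) (by decide +kernel)) ?_
  refine kids_cons 301 180 rfl rfl (kid_prune (by decide +kernel)) ?_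
  refine kids_cons 302 179 rfl rfl (kid_child node1461 (by decide +kernel) (by decide +kernel) (by decide +kernel)) ?_
  refine kids_cons 303 178 rfl rfl (kid_child node1462 (by decide +kernel) (by decide +kernel) (by decide +kernel)) ?_
  refine kids_cons 304 177 rfl rfl (kid_child node1463 (by decide +kernel) (by decide +kernel) (by decide +kernel)) ?_
  refine kids_cons 305 176 rfl rfl (kid_child node1464 (by decide +kernel) (by decide +kernel) (by decide +kernel)) ?_
  refine kids_cons 306 175 rfl rfl (kid_prune (by decide +kernel)) ?_
  refine kids_cons 307 174 rfl rfl (kid_child node1465 (by decide +kernel) (by decide +kernel) (by decide +kernel)) ?_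
  refine kids_cons 308 173 rfl rfl (kid_prune (by decide +kernel)) ?_
  refine kids_cons 309 172 rfl rfl (kid_child node1466 (by decide +kernel) (by decide +kernel) (by decide +kernel)) ?_
  refine kids_cons 310 171 rfl rfl (kid_child node1467 (by decide +kernel) (by decide +kernel) (by decide +kernel)) ?_
  refine kids_cons 311 170 rfl rfl (kid_prune (by decide +kernel)) ?_
  refine kids_cons 312 169 rfl rfl (kid_prune (by decide +kernel)) ?_
  refine kids_cons 313 168 rfl rfl (kid_child node1468 (by decide +kernel) (by decide +kernel) (by decide +kernel)) ?_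
  refine kids_cons 314 167 rfl rfl (kid_prune (by decide +kernel)) ?_
  refine kids_cons 315 166 rfl rfl (kid_child node1469 (by decide +kernel) (by decide +kernel) (by decide +kernel)) ?_
  refine kids_cons 316 165 rfl rfl (kid_prune (by decide +kernel)) ?_
  refine kids_cons 317 164 rfl rfl (kid_child node1470 (by decide +kernel) (by decide +kernel) (by decide +kernel)) ?_
  refine kids_cons 318 163 rfl rfl (kid_prune (by decide +kernel)) ?_
  refine kids_cons 319 162 rfl rfl (kid_child node1471 (by decide +kernel) (by decide +kernel) (by decide +kernel)) ?_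
  refine kids_cons 320 161 rfl rfl (kid_child node1472 (by decide +kernel) (by decide +kernel) (by decide +kernel)) ?_
  refine kids_cons 321 160 rfl rfl (kid_prune (by decide +kernel)) ?_
  refine kids_cons 322 159 rfl rfl (kid_child node1473 (by decide +kernel) (by decide +kernel) (by decide +kernel)) ?_
  refine kids_cons 323 158 rfl rfl (kid_child node1474 (by decide +kernel) (by decide +kernel) (by decide +kernel)) ?_
  refine kids_cons 324 157 rfl rfl (kid_child node1475 (by decide +kernel) (by decide +kernel) (by decide +kernel)) ?_
  refine kids_cons 325 156 rfl rfl (kid_child node1476 (by decide +kernel) (by decide +kernel) (by decide +kernel)) ?_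
  refine kids_cons 326 155 rfl rfl (kid_prune (by decide +kernel)) ?_
  refine kids_cons 327 154 rfl rfl (kid_child node1477 (by decide +kernel) (by decide +kernel) (by decide +kernel)) ?_
  refine kids_cons 328 153 rfl rfl (kid_child node1478 (by decide +kernel) (by decide +kernel) (by decide +kernel)) ?_
  refine kids_cons 329 152 rfl rfl (kid_child node1479 (by decide +kernel) (by decide +kernel) (by decide +kernel)) ?_
  refine kids_cons 330 151 rfl rfl (kid_child node1480 (by decide +kernel) (by decide +kernel) (by decide +kernel)) ?_
  refine kids_cons 331 150 rfl rfl (kid_prune (by decide +kernel)) ?_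
  refine kids_cons 332 149 rfl rfl (kid_prune (by decide +kernel)) ?_
  refine kids_cons 333 148 rfl rfl (kid_child node1481 (by decide +kernel) (by decide +kernel) (by decide +kernel)) ?_
  refine kids_cons 334 147 rfl rfl (kid_child node1482 (by decide +kernel) (by decide +kernel) (by decide +kernel)) ?_
  refine kids_cons 335 146 rfl rfl (kid_child node1483 (by decide +kernel) (by decide +kernel) (by decide +kernel)) ?_
  refine kids_cons 336 145 rfl rfl (kid_prune (by decide +kernel)) ?_
  refine kids_cons 337 144 rfl rfl (kid_child node1484 (by decide +kernel) (by decide +kernel) (by decide +kernel)) ?_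
  refine kids_cons 338 143 rfl rfl (kid_prune (by decide +kernel)) ?_
  refine kids_cons 339 142 rfl rfl (kid_child node1485 (by decide +kernel) (by decide +kernel) (by decide +kernel)) ?_
  refine kids_cons 340 141 rfl rfl (kid_child node1486 (by decide +kernel) (by decide +kernel) (by decide +kernel)) ?_
  refine kids_cons 341 140 rfl rfl (kid_prune (by decide +kernel)) ?_
  refine kids_cons 342 139 rfl rfl (kid_child node1487 (by decide +kernel) (by decide +kernel) (by decide +kernel)) ?_
  refine kids_cons 343 138 rfl rfl (kid_child node1488 (by decide +kernel) (by decide +kernel) (by decide +kernel)) ?_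
  refine kids_cons 344 137 rfl rfl (kid_child node1489 (by decide +kernel) (by decide +kernel) (by decide +kernel)) ?_
  refine kids_cons 345 136 rfl rfl (kid_child node1490 (by decide +kernel) (by decide +kernel) (by decide +kernel)) ?_
  refine kids_cons 346 135 rfl rfl (kid_prune (by decide +kernel)) ?_
  refine kids_cons 347 134 rfl rfl (kid_child node1491 (by decide +kernel) (by decide +kernel) (by decide +kernel)) ?_
  refine kids_cons 348 133 rfl rfl (kid_child node1492 (by decide +kernel) (by decide +kernel) (by decide +kernel)) ?_
  refine kids_cons 349 132 rfl rfl (kid_child node1493 (by decide +kernel) (by decide +kernel) (by decide +kernel)) ?_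
  refine kids_cons 350 131 rfl rfl (kid_prune (by decide +kernel)) ?_
  refine kids_cons 351 130 rfl rfl (kid_prune (by decide +kernel)) ?_
  refine kids_cons 352 129 rfl rfl (kid_child node1494 (by decide +kernel) (by decide +kernel) (by decide +kernel)) ?_
  refine kids_cons 353 128 rfl rfl (kid_child node1495 (by decide +kernel) (by decide +kernel) (by decide +kernel)) ?_
  refine kids_cons 354 127 rfl rfl (kid_prune (by decide +kernel)) ?_
  refine kids_cons 355 126 rfl rfl (kid_child node1496 (by decide +kernel) (by decide +kernel) (by decide +kernel)) ?_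
  refine kids_cons 356 125 rfl rfl (kid_prune (by decide +kernel)) ?_
  refine kids_cons 357 124 rfl rfl (kid_child node1497 (by decide +kernel) (by decide +kernel) (by decide +kernel)) ?_
  refine kids_cons 358 123 rfl rfl (kid_child node1498 (by decide +kernel) (by decide +kernel) (by decide +kernel)) ?_
  refine kids_cons 359 122 rfl rfl (kid_child node1499 (by decide +kernel) (by decide +kernel) (by decide +kernel)) ?_
  refine kids_cons 360 121 rfl rfl (kid_child node1500 (by decide +kernel) (by decide +kernel) (by decide +kernel)) ?_
  refine kids_cons 361 120 rfl rfl (kid_prune (by decide +kernel)) ?_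
  refine kids_cons 362 119 rfl rfl (kid_child node1501 (by decide +kernel) (by decide +kernel) (by decide +kernel)) ?_
  refine kids_cons 363 118 rfl rfl (kid_child node1502 (by decide +kernel) (by decide +kernel) (by decide +kernel)) ?_
  refine kids_cons 364 117 rfl rfl (kid_child node1503 (by decide +kernel) (by decide +kernel) (by decide +kernel)) ?_
  refine kids_cons 365 116 rfl rfl (kid_child node1504 (by decide +kernel) (by decide +kernel) (by decide +kernel)) ?_
  refine kids_cons 366 115 rfl rfl (kid_prune (by decide +kernel)) ?_
  refine kids_cons 367 114 rfl rfl (kid_child node1505 (by decide +kernel) (by decide +kernel) (by decide +kernel)) ?_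
  refine kids_cons 368 113 rfl rfl (kid_prune (by decide +kernel)) ?_
  refine kids_cons 369 112 rfl rfl (kid_child node1506 (by decide +kernel) (by decide +kernel) (by decide +kernel)) ?_
  refine kids_cons 370 111 rfl rfl (kid_child node1507 (by decide +kernel) (by decide +kernel) (by decide +kernel)) ?_
  refine kids_cons 371 110 rfl rfl (kid_prune (by decide +kernel)) ?_
  refine kids_cons 372 109 rfl rfl (kid_child node1508 (by decide +kernel) (by decide +kernel) (by decide +kernel)) ?_
  refine kids_cons 373 108 rfl rfl (kid_child node1509 (by decide +kernel) (by decide +kernel) (by decide +kernel)) ?_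
  refine kids_cons 374 107 rfl rfl (kid_prune (by decide +kernel)) ?_
  refine kids_cons 375 106 rfl rfl (kid_child node1510 (by decide +kernel) (by decide +kernel) (by decide +kernel)) ?_
  refine kids_cons 376 105 rfl rfl (kid_prune (by decide +kernel)) ?_
  refine kids_cons 377 104 rfl rfl (kid_child node1511 (by decide +kernel) (by decide +kernel) (by decide +kernel)) ?_
  refine kids_cons 378 103 rfl rfl (kid_child node1512 (by decide +kernel) (by decide +kernel) (by decide +kernel)) ?_
  refine kids_cons 379 102 rfl rfl (kid_child node1513 (by decide +kernel) (by decide +kernel) (by decide +kernel)) ?_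
  refine kids_cons 380 101 rfl rfl (kid_prune (by decide +kernel)) ?_
  refine kids_cons 381 100 rfl rfl (kid_prune (by decide +kernel)) ?_
  refine kids_cons 382 99 rfl rfl (kid_child node1514 (by decide +kernel) (by decide +kernel) (by decide +kernel)) ?_
  refine kids_cons 383 98 rfl rfl (kid_child node1515 (by decide +kernel) (by decide +kernel) (by decide +kernel)) ?_
  refine kids_cons 384 97 rfl rfl (kid_child node1516 (by decide +kernel) (by decide +kernel) (by decide +kernel)) ?_
  refine kids_cons 385 96 rfl rfl (kid_child node1517 (by decide +kernel) (by decide +kernel) (by decide +kernel)) ?_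
  refine kids_cons 386 95 rfl rfl (kid_prune (by decide +kernel)) ?_
  refine kids_cons 387 94 rfl rfl (kid_child node1518 (by decide +kernel) (by decide +kernel) (by decide +kernel)) ?_
  refine kids_cons 388 93 rfl rfl (kid_child node1519 (by decide +kernel) (by decide +kernel) (by decide +kernel)) ?_
  refine kids_cons 389 92 rfl rfl (kid_child node1520 (by decide +kernel) (by decide +kernel) (by decide +kernel)) ?_
  refine kids_cons 390 91 rfl rfl (kid_prune (by decide +kernel)) ?_
  refine kids_cons 391 90 rfl rfl (kid_prune (by decide +kernel)) ?_
  refine kids_cons 392 89 rfl rfl (kid_child node1521 (by decide +kernel) (by decide +kernel) (by decide +kernel)) ?_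
  refine kids_cons 393 88 rfl rfl (kid_child node1522 (by decide +kernel) (by decide +kernel) (by decide +kernel)) ?_
  refine kids_cons 394 87 rfl rfl (kid_child node1523 (by decide +kernel) (by decide +kernel) (by decide +kernel)) ?_
  refine kids_cons 395 86 rfl rfl (kid_child node1524 (by decide +kernel) (by decide +kernel) (by decide +kernel)) ?_
  refine kids_cons 396 85 rfl rfl (kid_prune (by decide +kernel)) ?_
  refine kids_cons 397 84 rfl rfl (kid_child node1525 (by decide +kernel) (by decide +kernel) (by decide +kernel)) ?_
  refine kids_cons 398 83 rfl rfl (kid_prune (by decide +kernel)) ?_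
  refine kids_cons 399 82 rfl rfl (kid_child node1526 (by decide +kernel) (by decide +kernel) (by decide +kernel)) ?_
  refine kids_cons 400 81 rfl rfl (kid_child node1527 (by decide +kernel) (by decide +kernel) (by decide +kernel)) ?_
  refine kids_cons 401 80 rfl rfl (kid_prune (by decide +kernel)) ?_
  refine kids_cons 402 79 rfl rfl (kid_prune (by decide +kernel)) ?_
  refine kids_cons 403 78 rfl rfl (kid_child node1528 (by decide +kernel) (by decide +kernel) (by decide +kernel)) ?_
  refine kids_cons 404 77 rfl rfl (kid_child node1529 (by decide +kernel) (by decide +kernel) (by decide +kernel)) ?_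
  refine kids_cons 405 76 rfl rfl (kid_child node1530 (by decide +kernel) (by decide +kernel) (by decide +kernel)) ?_
  refine kids_cons 406 75 rfl rfl (kid_prune (by decide +kernel)) ?_
  refine kids_cons 407 74 rfl rfl (kid_child node1531 (by decide +kernel) (by decide +kernel) (by decide +kernel)) ?_
  refine kids_cons 408 73 rfl rfl (kid_child node1532 (by decide +kernel) (by decide +kernel) (by decide +kernel)) ?_
  refine kids_cons 409 72 rfl rfl (kid_child node1533 (by decide +kernel) (by decide +kernel) (by decide +kernel)) ?_
  refine kids_cons 410 71 rfl rfl (kid_prune (by decide +kernel)) ?_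
  refine kids_cons 411 70 rfl rfl (kid_prune (by decide +kernel)) ?_
  refine kids_cons 412 69 rfl rfl (kid_child node1534 (by decide +kernel) (by decide +kernel) (by decide +kernel)) ?_
  refine kids_cons 413 68 rfl rfl (kid_child node1535 (by decide +kernel) (by decide +kernel) (by decide +kernel)) ?_
  refine kids_cons 414 67 rfl rfl (kid_child node1536 (by decide +kernel) (by decide +kernel) (by decide +kernel)) ?_
  refine kids_cons 415 66 rfl rfl (kid_child node1537 (by decide +kernel) (by decide +kernel) (by decide +kernel)) ?_
  refine kids_cons 416 65 rfl rfl (kid_prune (by decide +kernel)) ?_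
  refine kids_cons 417 64 rfl rfl (kid_child node1538 (by decide +kernel) (by decide +kernel) (by decide +kernel)) ?_
  refine kids_cons 418 63 rfl rfl (kid_child node1539 (by decide +kernel) (by decide +kernel) (by decide +kernel)) ?_
  refine kids_cons 419 62 rfl rfl (kid_child node1540 (by decide +kernel) (by decide +kernel) (by decide +kernel)) ?_
  refine kids_cons 420 61 rfl rfl (kid_prune (by decide +kernel)) ?_
  refine kids_cons 421 60 rfl rfl (kid_prune (by decide +kernel)) ?_
  refine kids_cons 422 59 rfl rfl (kid_prune (by decide +kernel)) ?_
  refine kids_cons 423 58 rfl rfl (kid_child node1541 (by decide +kernel) (by decide +kernel) (by decide +kernel)) ?_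
  refine kids_cons 424 57 rfl rfl (kid_child node1542 (by decide +kernel) (by decide +kernel) (by decide +kernel)) ?_
  refine kids_cons 425 56 rfl rfl (kid_child node1543 (by decide +kernel) (by decide +kernel) (by decide +kernel)) ?_
  refine kids_cons 426 55 rfl rfl (kid_prune (by decide +kernel)) ?_
  refine kids_cons 427 54 rfl rfl (kid_child node1544 (by decide +kernel) (by decide +kernel) (by decide +kernel)) ?_
  refine kids_cons 428 53 rfl rfl (kid_child node1545 (by decide +kernel) (by decide +kernel) (by decide +kernel)) ?_
  refine kids_cons 429 52 rfl rfl (kid_child node1546 (by decide +kernel) (by decide +kernel) (by decide +kernel)) ?_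
  refine kids_cons 430 51 rfl rfl (kid_child node1547 (by decide +kernel) (by decide +kernel) (by decide +kernel)) ?_
  refine kids_cons 431 50 rfl rfl (kid_prune (by decide +kernel)) ?_
  refine kids_cons 432 49 rfl rfl (kid_prune (by decide +kernel)) ?_
  refine kids_cons 433 48 rfl rfl (kid_child node1548 (by decide +kernel) (by decide +kernel) (by decide +kernel)) ?_
  refine kids_cons 434 47 rfl rfl (kid_prune (by decide +kernel)) ?_
  refine kids_cons 435 46 rfl rfl (kid_child node1549 (by decide +kernel) (by decide +kernel) (by decide +kernel)) ?_
  refine kids_cons 436 45 rfl rfl (kid_prune (by decide +kernel)) ?_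
  refine kids_cons 437 44 rfl rfl (kid_child node1550 (by decide +kernel) (by decide +kernel) (by decide +kernel)) ?_
  refine kids_cons 438 43 rfl rfl (kid_child node1551 (by decide +kernel) (by decide +kernel) (by decide +kernel)) ?_
  refine kids_cons 439 42 rfl rfl (kid_child node1552 (by decide +kernel) (by decide +kernel) (by decide +kernel)) ?_
  refine kids_cons 440 41 rfl rfl (kid_prune (by decide +kernel)) ?_
  refine kids_cons 441 40 rfl rfl (kid_prune (by decide +kernel)) ?_
  refine kids_cons 442 39 rfl rfl (kid_child node1553 (by decide +kernel) (by decide +kernel) (by decide +kernel)) ?_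
  refine kids_cons 443 38 rfl rfl (kid_child node1554 (by decide +kernel) (by decide +kernel) (by decide +kernel)) ?_
  refine kids_cons 444 37 rfl rfl (kid_prune (by decide +kernel)) ?_
  refine kids_cons 445 36 rfl rfl (kid_child node1555 (by decide +kernel) (by decide +kernel) (by decide +kernel)) ?_
  refine kids_cons 446 35 rfl rfl (kid_prune (by decide +kernel)) ?_
  refine kids_cons 447 34 rfl rfl (kid_child node1556 (by decide +kernel) (by decide +kernel) (by decide +kernel)) ?_
  refine kids_cons 448 33 rfl rfl (kid_child node1557 (by decide +kernel) (by decide +kernel) (by decide +kernel)) ?_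
  refine kids_cons 449 32 rfl rfl (kid_child node1558 (by decide +kernel) (by decide +kernel) (by decide +kernel)) ?_
  refine kids_cons 450 31 rfl rfl (kid_prune (by decide +kernel)) ?_
  refine kids_cons 451 30 rfl rfl (kid_prune (by decide +kernel)) ?_
  refine kids_cons 452 29 rfl rfl (kid_child node1559 (by decide +kernel) (by decide +kernel) (by decide +kernel)) ?_
  refine kids_cons 453 28 rfl rfl (kid_child node1560 (by decide +kernel) (by decide +kernel) (by decide +kernel)) ?_
  refine kids_cons 454 27 rfl rfl (kid_child node1561 (by decide +kernel) (by decide +kernel) (by decide +kernel)) ?_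
  refine kids_cons 455 26 rfl rfl (kid_child node1562 (by decide +kernel) (by decide +kernel) (by decide +kernel)) ?_
  refine kids_cons 456 25 rfl rfl (kid_prune (by decide +kernel)) ?_
  refine kids_cons 457 24 rfl rfl (kid_child node1563 (by decide +kernel) (by decide +kernel) (by decide +kernel)) ?_
  refine kids_cons 458 23 rfl rfl (kid_prune (by decide +kernel)) ?_
  refine kids_cons 459 22 rfl rfl (kid_child node1564 (by decide +kernel) (by decide +kernel) (by decide +kernel)) ?_
  refine kids_cons 460 21 rfl rfl (kid_child node1565 (by decide +kernel) (by decide +kernel) (by decide +kernel)) ?_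
  refine kids_cons 461 20 rfl rfl (kid_prune (by decide +kernel)) ?_
  refine kids_cons 462 19 rfl rfl (kid_prune (by decide +kernel)) ?_
  refine kids_cons 463 18 rfl rfl (kid_child node1566 (by decide +kernel) (by decide +kernel) (by decide +kernel)) ?_
  refine kids_cons 464 17 rfl rfl (kid_prune (by decide +kernel)) ?_
  refine kids_cons 465 16 rfl rfl (kid_child node1567 (by decide +kernel) (by decide +kernel) (by decide +kernel)) ?_
  refine kids_cons 466 15 rfl rfl (kid_prune (by decide +kernel)) ?_
  refine kids_cons 467 14 rfl rfl (kid_child node1568 (by decide +kernel) (by decide +kernel) (by decide +kernel)) ?_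
  refine kids_cons 468 13 rfl rfl (kid_child node1569 (by decide +kernel) (by decide +kernel) (by decide +kernel)) ?_
  refine kids_cons 469 12 rfl rfl (kid_child node1570 (by decide +kernel) (by decide +kernel) (by decide +kernel)) ?_
  refine kids_cons 470 11 rfl rfl (kid_child node1571 (by decide +kernel) (by decide +kernel) (by decide +kernel)) ?_
  refine kids_cons 471 10 rfl rfl (kid_prune (by decide +kernel)) ?_
  refine kids_cons 472 9 rfl rfl (kid_child node1572 (by decide +kernel) (by decide +kernel) (by decide +kernel)) ?_
  refine kids_cons 473 8 rfl rfl (kid_child node1573 (by decide +kernel) (by decide +kernel) (by decide +kernel)) ?_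
  refine kids_cons 474 7 rfl rfl (kid_child node1574 (by decide +kernel) (by decide +kernel) (by decide +kernel)) ?_
  refine kids_cons 475 6 rfl rfl (kid_child node1575 (by decide +kernel) (by decide +kernel) (by decide +kernel)) ?_
  refine kids_cons 476 5 rfl rfl (kid_prune (by decide +kernel)) ?_
  refine kids_cons 477 4 rfl rfl (kid_child node1576 (by decide +kernel) (by decide +kernel) (by decide +kernel)) ?_
  refine kids_cons 478 3 rfl rfl (kid_child node1577 (by decide +kernel) (by decide +kernel) (by decide +kernel)) ?_
  refine kids_cons 479 2 rfl rfl (kid_child node1578 (by decide +kernel) (by decide +kernel) (by decide +kernel)) ?_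
  refine kids_cons 480 1 rfl rfl (kid_child node1579 (by decide +kernel) (by decide +kernel) (by decide +kernel)) ?_
  refine kids_cons 481 0 rfl rfl (kid_prune (by decide +kernel)) ?_
  exact kids_nil 481

theorem node1668 : dfs 2 [9, 6, 6, 6, 6, 5] 2 90 [1, 5, 6, 30, 2, 10, 3, 15, 3, 15, 18, 90, 6, 30, 9, 45] = true := by
  refine node_of_kids 46 135 (by decide) (by decide) ?_
  refine kids_cons 47 134 rfl rfl (kid_child node1581 (by decide +kernel) (by decide +kernel) (by decide +kernel)) ?_
  refine kids_cons 48 133 rfl rfl (kid_child node1582 (by decide +kernel) (by decide +kernel) (by decide +kernel)) ?_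
  refine kids_cons 49 132 rfl rfl (kid_child node1583 (by decide +kernel) (by decide +kernel) (by decide +kernel)) ?_
  refine kids_cons 50 131 rfl rfl (kid_child node1584 (by decide +kernel) (by decide +kernel) (by decide +kernel)) ?_
  refine kids_cons 51 130 rfl rfl (kid_prune (by decide +kernel)) ?_
  refine kids_cons 52 129 rfl rfl (kid_child node1585 (by decide +kernel) (by decide +kernel) (by decide +kernel)) ?_
  refine kids_cons 53 128 rfl rfl (kid_child node1586 (by decide +kernel) (by decide +kernel) (by decide +kernel)) ?_
  refine kids_cons 54 127 rfl rfl (kid_prune (by decide +kernel)) ?_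
  refine kids_cons 55 126 rfl rfl (kid_child node1587 (by decide +kernel) (by decide +kernel) (by decide +kernel)) ?_
  refine kids_cons 56 125 rfl rfl (kid_prune (by decide +kernel)) ?_
  refine kids_cons 57 124 rfl rfl (kid_child node1588 (by decide +kernel) (by decide +kernel) (by decide +kernel)) ?_
  refine kids_cons 58 123 rfl rfl (kid_child node1589 (by decide +kernel) (by decide +kernel) (by decide +kernel)) ?_
  refine kids_cons 59 122 rfl rfl (kid_child node1590 (by decide +kernel) (by decide +kernel) (by decide +kernel)) ?_
  refine kids_cons 60 121 rfl rfl (kid_child node1591 (by decide +kernel) (by decide +kernel) (by decide +kernel)) ?_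
  refine kids_cons 61 120 rfl rfl (kid_prune (by decide +kernel)) ?_
  refine kids_cons 62 119 rfl rfl (kid_prune (by decide +kernel)) ?_
  refine kids_cons 63 118 rfl rfl (kid_child node1592 (by decide +kernel) (by decide +kernel) (by decide +kernel)) ?_
  refine kids_cons 64 117 rfl rfl (kid_child node1593 (by decide +kernel) (by decide +kernel) (by decide +kernel)) ?_
  refine kids_cons 65 116 rfl rfl (kid_child node1594 (by decide +kernel) (by decide +kernel) (by decide +kernel)) ?_
  refine kids_cons 66 115 rfl rfl (kid_prune (by decide +kernel)) ?_
  refine kids_cons 67 114 rfl rfl (kid_child node1595 (by decide +kernel) (by decide +kernel) (by decide +kernel)) ?_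
  refine kids_cons 68 113 rfl rfl (kid_prune (by decide +kernel)) ?_
  refine kids_cons 69 112 rfl rfl (kid_child node1596 (by decide +kernel) (by decide +kernel) (by decide +kernel)) ?_
  refine kids_cons 70 111 rfl rfl (kid_child node1597 (by decide +kernel) (by decide +kernel) (by decide +kernel)) ?_
  refine kids_cons 71 110 rfl rfl (kid_prune (by decide +kernel)) ?_
  refine kids_cons 72 109 rfl rfl (kid_prune (by decide +kernel)) ?_
  refine kids_cons 73 108 rfl rfl (kid_child node1598 (by decide +kernel) (by decide +kernel) (by decide +kernel)) ?_
  refine kids_cons 74 107 rfl rfl (kid_prune (by decide +kernel)) ?_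
  refine kids_cons 75 106 rfl rfl (kid_child node1599 (by decide +kernel) (by decide +kernel) (by decide +kernel)) ?_
  refine kids_cons 76 105 rfl rfl (kid_prune (by decide +kernel)) ?_
  refine kids_cons 77 104 rfl rfl (kid_child node1600 (by decide +kernel) (by decide +kernel) (by decide +kernel)) ?_
  refine kids_cons 78 103 rfl rfl (kid_child node1601 (by decide +kernel) (by decide +kernel) (by decide +kernel)) ?_
  refine kids_cons 79 102 rfl rfl (kid_child node1602 (by decide +kernel) (by decide +kernel) (by decide +kernel)) ?_
  refine kids_cons 80 101 rfl rfl (kid_prune (by decide +kernel)) ?_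
  refine kids_cons 81 100 rfl rfl (kid_prune (by decide +kernel)) ?_
  refine kids_cons 82 99 rfl rfl (kid_child node1603 (by decide +kernel) (by decide +kernel) (by decide +kernel)) ?_
  refine kids_cons 83 98 rfl rfl (kid_child node1604 (by decide +kernel) (by decide +kernel) (by decide +kernel)) ?_
  refine kids_cons 84 97 rfl rfl (kid_child node1605 (by decide +kernel) (by decide +kernel) (by decide +kernel)) ?_
  refine kids_cons 85 96 rfl rfl (kid_child node1606 (by decide +kernel) (by decide +kernel) (by decide +kernel)) ?_
  refine kids_cons 86 95 rfl rfl (kid_prune (by decide +kernel)) ?_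
  refine kids_cons 87 94 rfl rfl (kid_child node1607 (by decide +kernel) (by decide +kernel) (by decide +kernel)) ?_
  refine kids_cons 88 93 rfl rfl (kid_child node1608 (by decide +kernel) (by decide +kernel) (by decide +kernel)) ?_
  refine kids_cons 89 92 rfl rfl (kid_child node1609 (by decide +kernel) (by decide +kernel) (by decide +kernel)) ?_
  refine kids_cons 90 91 rfl rfl (kid_prune (by decide +kernel)) ?_
  refine kids_cons 91 90 rfl rfl (kid_prune (by decide +kernel)) ?_
  refine kids_cons 92 89 rfl rfl (kid_child node1610 (by decide +kernel) (by decide +kernel) (by decide +kernel)) ?_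
  refine kids_cons 93 88 rfl rfl (kid_child node1611 (by decide +kernel) (by decide +kernel) (by decide +kernel)) ?_
  refine kids_cons 94 87 rfl rfl (kid_child node1612 (by decide +kernel) (by decide +kernel) (by decide +kernel)) ?_
  refine kids_cons 95 86 rfl rfl (kid_child node1613 (by decide +kernel) (by decide +kernel) (by decide +kernel)) ?_
  refine kids_cons 96 85 rfl rfl (kid_prune (by decide +kernel)) ?_
  refine kids_cons 97 84 rfl rfl (kid_child node1614 (by decide +kernel) (by decide +kernel) (by decide +kernel)) ?_
  refine kids_cons 98 83 rfl rfl (kid_prune (by decide +kernel)) ?_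
  refine kids_cons 99 82 rfl rfl (kid_child node1615 (by decide +kernel) (by decide +kernel) (by decide +kernel)) ?_
  refine kids_cons 100 81 rfl rfl (kid_child node1616 (by decide +kernel) (by decide +kernel) (by decide +kernel)) ?_
  refine kids_cons 101 80 rfl rfl (kid_prune (by decide +kernel)) ?_
  refine kids_cons 102 79 rfl rfl (kid_prune (by decide +kernel)) ?_
  refine kids_cons 103 78 rfl rfl (kid_child node1617 (by decide +kernel) (by decide +kernel) (by decide +kernel)) ?_
  refine kids_cons 104 77 rfl rfl (kid_prune (by decide +kernel)) ?_
  refine kids_cons 105 76 rfl rfl (kid_child node1618 (by decide +kernel) (by decide +kernel) (by decide +kernel)) ?_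
  refine kids_cons 106 75 rfl rfl (kid_prune (by decide +kernel)) ?_
  refine kids_cons 107 74 rfl rfl (kid_child node1619 (by decide +kernel) (by decide +kernel) (by decide +kernel)) ?_
  refine kids_cons 108 73 rfl rfl (kid_child node1620 (by decide +kernel) (by decide +kernel) (by decide +kernel)) ?_
  refine kids_cons 109 72 rfl rfl (kid_child node1621 (by decide +kernel) (by decide +kernel) (by decide +kernel)) ?_
  refine kids_cons 110 71 rfl rfl (kid_prune (by decide +kernel)) ?_
  refine kids_cons 111 70 rfl rfl (kid_prune (by decide +kernel)) ?_
  refine kids_cons 112 69 rfl rfl (kid_child node1622 (by decide +kernel) (by decide +kernel) (by decide +kernel)) ?_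
  refine kids_cons 113 68 rfl rfl (kid_child node1623 (by decide +kernel) (by decide +kernel) (by decide +kernel)) ?_
  refine kids_cons 114 67 rfl rfl (kid_prune (by decide +kernel)) ?_
  refine kids_cons 115 66 rfl rfl (kid_child node1624 (by decide +kernel) (by decide +kernel) (by decide +kernel)) ?_
  refine kids_cons 116 65 rfl rfl (kid_prune (by decide +kernel)) ?_
  refine kids_cons 117 64 rfl rfl (kid_child node1625 (by decide +kernel) (by decide +kernel) (by decide +kernel)) ?_
  refine kids_cons 118 63 rfl rfl (kid_child node1626 (by decide +kernel) (by decide +kernel) (by decide +kernel)) ?_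
  refine kids_cons 119 62 rfl rfl (kid_child node1627 (by decide +kernel) (by decide +kernel) (by decide +kernel)) ?_
  refine kids_cons 120 61 rfl rfl (kid_child node1628 (by decide +kernel) (by decide +kernel) (by decide +kernel)) ?_
  refine kids_cons 121 60 rfl rfl (kid_prune (by decide +kernel)) ?_
  refine kids_cons 122 59 rfl rfl (kid_child node1629 (by decide +kernel) (by decide +kernel) (by decide +kernel)) ?_
  refine kids_cons 123 58 rfl rfl (kid_child node1630 (by decide +kernel) (by decide +kernel) (by decide +kernel)) ?_
  refine kids_cons 124 57 rfl rfl (kid_child node1631 (by decide +kernel) (by decide +kernel) (by decide +kernel)) ?_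
  refine kids_cons 125 56 rfl rfl (kid_child node1632 (by decide +kernel) (by decide +kernel) (by decide +kernel)) ?_
  refine kids_cons 126 55 rfl rfl (kid_prune (by decide +kernel)) ?_
  refine kids_cons 127 54 rfl rfl (kid_child node1633 (by decide +kernel) (by decide +kernel) (by decide +kernel)) ?_
  refine kids_cons 128 53 rfl rfl (kid_prune (by decide +kernel)) ?_
  refine kids_cons 129 52 rfl rfl (kid_child node1634 (by decide +kernel) (by decide +kernel) (by decide +kernel)) ?_
  refine kids_cons 130 51 rfl rfl (kid_child node1635 (by decide +kernel) (by decide +kernel) (by decide +kernel)) ?_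
  refine kids_cons 131 50 rfl rfl (kid_prune (by decide +kernel)) ?_
  refine kids_cons 132 49 rfl rfl (kid_prune (by decide +kernel)) ?_
  refine kids_cons 133 48 rfl rfl (kid_child node1636 (by decide +kernel) (by decide +kernel) (by decide +kernel)) ?_
  refine kids_cons 134 47 rfl rfl (kid_child node1637 (by decide +kernel) (by decide +kernel) (by decide +kernel)) ?_
  refine kids_cons 135 46 rfl rfl (kid_child node1638 (by decide +kernel) (by decide +kernel) (by decide +kernel)) ?_
  refine kids_cons 136 45 rfl rfl (kid_prune (by decide +kernel)) ?_
  refine kids_cons 137 44 rfl rfl (kid_child node1639 (by decide +kernel) (by decide +kernel) (by decide +kernel)) ?_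
  refine kids_cons 138 43 rfl rfl (kid_prune (by decide +kernel)) ?_
  refine kids_cons 139 42 rfl rfl (kid_child node1640 (by decide +kernel) (by decide +kernel) (by decide +kernel)) ?_
  refine kids_cons 140 41 rfl rfl (kid_prune (by decide +kernel)) ?_
  refine kids_cons 141 40 rfl rfl (kid_prune (by decide +kernel)) ?_
  refine kids_cons 142 39 rfl rfl (kid_child node1641 (by decide +kernel) (by decide +kernel) (by decide +kernel)) ?_
  refine kids_cons 143 38 rfl rfl (kid_child node1642 (by decide +kernel) (by decide +kernel) (by decide +kernel)) ?_
  refine kids_cons 144 37 rfl rfl (kid_child node1643 (by decide +kernel) (by decide +kernel) (by decide +kernel)) ?_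
  refine kids_cons 145 36 rfl rfl (kid_child node1644 (by decide +kernel) (by decide +kernel) (by decide +kernel)) ?_
  refine kids_cons 146 35 rfl rfl (kid_prune (by decide +kernel)) ?_
  refine kids_cons 147 34 rfl rfl (kid_child node1645 (by decide +kernel) (by decide +kernel) (by decide +kernel)) ?_
  refine kids_cons 148 33 rfl rfl (kid_child node1646 (by decide +kernel) (by decide +kernel) (by decide +kernel)) ?_
  refine kids_cons 149 32 rfl rfl (kid_child node1647 (by decide +kernel) (by decide +kernel) (by decide +kernel)) ?_
  refine kids_cons 150 31 rfl rfl (kid_prune (by decide +kernel)) ?_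
  refine kids_cons 151 30 rfl rfl (kid_prune (by decide +kernel)) ?_
  refine kids_cons 152 29 rfl rfl (kid_prune (by decide +kernel)) ?_
  refine kids_cons 153 28 rfl rfl (kid_child node1648 (by decide +kernel) (by decide +kernel) (by decide +kernel)) ?_
  refine kids_cons 154 27 rfl rfl (kid_child node1649 (by decide +kernel) (by decide +kernel) (by decide +kernel)) ?_
  refine kids_cons 155 26 rfl rfl (kid_child node1650 (by decide +kernel) (by decide +kernel) (by decide +kernel)) ?_
  refine kids_cons 156 25 rfl rfl (kid_prune (by decide +kernel)) ?_
  refine kids_cons 157 24 rfl rfl (kid_child node1651 (by decide +kernel) (by decide +kernel) (by decide +kernel)) ?_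
  refine kids_cons 158 23 rfl rfl (kid_prune (by decide +kernel)) ?_
  refine kids_cons 159 22 rfl rfl (kid_child node1652 (by decide +kernel) (by decide +kernel) (by decide +kernel)) ?_
  refine kids_cons 160 21 rfl rfl (kid_child node1653 (by decide +kernel) (by decide +kernel) (by decide +kernel)) ?_
  refine kids_cons 161 20 rfl rfl (kid_prune (by decide +kernel)) ?_
  refine kids_cons 162 19 rfl rfl (kid_child node1654 (by decide +kernel) (by decide +kernel) (by decide +kernel)) ?_
  refine kids_cons 163 18 rfl rfl (kid_child node1655 (by decide +kernel) (by decide +kernel) (by decide +kernel)) ?_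
  refine kids_cons 164 17 rfl rfl (kid_prune (by decide +kernel)) ?_
  refine kids_cons 165 16 rfl rfl (kid_child node1656 (by decide +kernel) (by decide +kernel) (by decide +kernel)) ?_
  refine kids_cons 166 15 rfl rfl (kid_prune (by decide +kernel)) ?_
  refine kids_cons 167 14 rfl rfl (kid_child node1657 (by decide +kernel) (by decide +kernel) (by decide +kernel)) ?_
  refine kids_cons 168 13 rfl rfl (kid_child node1658 (by decide +kernel) (by decide +kernel) (by decide +kernel)) ?_
  refine kids_cons 169 12 rfl rfl (kid_child node1659 (by decide +kernel) (by decide +kernel) (by decide +kernel)) ?_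
  refine kids_cons 170 11 rfl rfl (kid_child node1660 (by decide +kernel) (by decide +kernel) (by decide +kernel)) ?_
  refine kids_cons 171 10 rfl rfl (kid_prune (by decide +kernel)) ?_
  refine kids_cons 172 9 rfl rfl (kid_child node1661 (by decide +kernel) (by decide +kernel) (by decide +kernel)) ?_
  refine kids_cons 173 8 rfl rfl (kid_child node1662 (by decide +kernel) (by decide +kernel) (by decide +kernel)) ?_
  refine kids_cons 174 7 rfl rfl (kid_prune (by decide +kernel)) ?_
  refine kids_cons 175 6 rfl rfl (kid_child node1663 (by decide +kernel) (by decide +kernel) (by decide +kernel)) ?_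
  refine kids_cons 176 5 rfl rfl (kid_prune (by decide +kernel)) ?_
  refine kids_cons 177 4 rfl rfl (kid_child node1664 (by decide +kernel) (by decide +kernel) (by decide +kernel)) ?_
  refine kids_cons 178 3 rfl rfl (kid_child node1665 (by decide +kernel) (by decide +kernel) (by decide +kernel)) ?_
  refine kids_cons 179 2 rfl rfl (kid_child node1666 (by decide +kernel) (by decide +kernel) (by decide +kernel)) ?_
  refine kids_cons 180 1 rfl rfl (kid_child node1667 (by decide +kernel) (by decide +kernel) (by decide +kernel)) ?_
  refine kids_cons 181 0 rfl rfl (kid_prune (by decide +kernel)) ?_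
  exact kids_nil 181

theorem node1687 : dfs 3 [6, 6, 6, 6, 5] 4 30 [1, 5, 6, 30, 2, 10, 3, 15] = true := by
  refine node_of_kids 8 30 (by decide) (by decide) ?_
  refine kids_cons 9 29 rfl rfl (kid_child node1580 (by decide +kernel) (by decide +kernel) (by decide +kernel)) ?_
  refine kids_cons 10 28 rfl rfl (kid_child node1668 (by decide +kernel) (by decide +kernel) (by decide +kernel)) ?_
  refine kids_cons 11 27 rfl rfl (kid_prune (by decide +kernel)) ?_
  refine kids_cons 12 26 rfl rfl (kid_child node1669 (by decide +kernel) (by decide +kernel) (by decide +kernel)) ?_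
  refine kids_cons 13 25 rfl rfl (kid_child node1670 (by decide +kernel) (by decide +kernel) (by decide +kernel)) ?_
  refine kids_cons 14 24 rfl rfl (kid_child node1671 (by decide +kernel) (by decide +kernel) (by decide +kernel)) ?_
  refine kids_cons 15 23 rfl rfl (kid_child node1672 (by decide +kernel) (by decide +kernel) (by decide +kernel)) ?_
  refine kids_cons 16 22 rfl rfl (kid_prune (by decide +kernel)) ?_
  refine kids_cons 17 21 rfl rfl (kid_child node1673 (by decide +kernel) (by decide +kernel) (by decide +kernel)) ?_
  refine kids_cons 18 20 rfl rfl (kid_prune (by decide +kernel)) ?_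
  refine kids_cons 19 19 rfl rfl (kid_child node1674 (by decide +kernel) (by decide +kernel) (by decide +kernel)) ?_
  refine kids_cons 20 18 rfl rfl (kid_child node1675 (by decide +kernel) (by decide +kernel) (by decide +kernel)) ?_
  refine kids_cons 21 17 rfl rfl (kid_prune (by decide +kernel)) ?_
  refine kids_cons 22 16 rfl rfl (kid_child node1676 (by decide +kernel) (by decide +kernel) (by decide +kernel)) ?_
  refine kids_cons 23 15 rfl rfl (kid_child node1677 (by decide +kernel) (by decide +kernel) (by decide +kernel)) ?_
  refine kids_cons 24 14 rfl rfl (kid_child node1678 (by decide +kernel) (by decide +kernel) (by decide +kernel)) ?_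
  refine kids_cons 25 13 rfl rfl (kid_child node1679 (by decide +kernel) (by decide +kernel) (by decide +kernel)) ?_
  refine kids_cons 26 12 rfl rfl (kid_prune (by decide +kernel)) ?_
  refine kids_cons 27 11 rfl rfl (kid_child node1680 (by decide +kernel) (by decide +kernel) (by decide +kernel)) ?_
  refine kids_cons 28 10 rfl rfl (kid_child node1681 (by decide +kernel) (by decide +kernel) (by decide +kernel)) ?_
  refine kids_cons 29 9 rfl rfl (kid_child node1682 (by decide +kernel) (by decide +kernel) (by decide +kernel)) ?_
  refine kids_cons 30 8 rfl rfl (kid_prune (by decide +kernel)) ?_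
  refine kids_cons 31 7 rfl rfl (kid_prune (by decide +kernel)) ?_
  refine kids_cons 32 6 rfl rfl (kid_prune (by decide +kernel)) ?_
  refine kids_cons 33 5 rfl rfl (kid_child node1683 (by decide +kernel) (by decide +kernel) (by decide +kernel)) ?_
  refine kids_cons 34 4 rfl rfl (kid_child node1684 (by decide +kernel) (by decide +kernel) (by decide +kernel)) ?_
  refine kids_cons 35 3 rfl rfl (kid_child node1685 (by decide +kernel) (by decide +kernel) (by decide +kernel)) ?_
  refine kids_cons 36 2 rfl rfl (kid_prune (by decide +kernel)) ?_
  refine kids_cons 37 1 rfl rfl (kid_child node1686 (by decide +kernel) (by decide +kernel) (by decide +kernel)) ?_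
  refine kids_cons 38 0 rfl rfl (kid_prune (by decide +kernel)) ?_
  exact kids_nil 38

theorem node1798 : dfs 2 [7, 7, 6, 6, 6, 5] 3 210 [1, 5, 6, 30, 2, 10, 3, 15, 7, 35, 42, 210, 14, 70, 21, 105] = true := by
  refine node_of_kids 71 210 (by decide) (by decide) ?_
  refine kids_cons 72 209 rfl rfl (kid_prune (by decide +kernel)) ?_
  refine kids_cons 73 208 rfl rfl (kid_child node1688 (by decide +kernel) (by decide +kernel) (by decide +kernel)) ?_
  refine kids_cons 74 207 rfl rfl (kid_prune (by decide +kernel)) ?_
  refine kids_cons 75 206 rfl rfl (kid_child node1689 (by decide +kernel) (by decide +kernel) (by decide +kernel)) ?_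
  refine kids_cons 76 205 rfl rfl (kid_prune (by decide +kernel)) ?_
  refine kids_cons 77 204 rfl rfl (kid_child node1690 (by decide +kernel) (by decide +kernel) (by decide +kernel)) ?_
  refine kids_cons 78 203 rfl rfl (kid_prune (by decide +kernel)) ?_
  refine kids_cons 79 202 rfl rfl (kid_child node1691 (by decide +kernel) (by decide +kernel) (by decide +kernel)) ?_
  refine kids_cons 80 201 rfl rfl (kid_prune (by decide +kernel)) ?_
  refine kids_cons 81 200 rfl rfl (kid_prune (by decide +kernel)) ?_
  refine kids_cons 82 199 rfl rfl (kid_child node1692 (by decide +kernel) (by decide +kernel) (by decide +kernel)) ?_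
  refine kids_cons 83 198 rfl rfl (kid_child node1693 (by decide +kernel) (by decide +kernel) (by decide +kernel)) ?_
  refine kids_cons 84 197 rfl rfl (kid_child node1694 (by decide +kernel) (by decide +kernel) (by decide +kernel)) ?_
  refine kids_cons 85 196 rfl rfl (kid_prune (by decide +kernel)) ?_
  refine kids_cons 86 195 rfl rfl (kid_prune (by decide +kernel)) ?_
  refine kids_cons 87 194 rfl rfl (kid_child node1695 (by decide +kernel) (by decide +kernel) (by decide +kernel)) ?_
  refine kids_cons 88 193 rfl rfl (kid_child node1696 (by decide +kernel) (by decide +kernel) (by decide +kernel)) ?_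
  refine kids_cons 89 192 rfl rfl (kid_child node1697 (by decide +kernel) (by decide +kernel) (by decide +kernel)) ?_
  refine kids_cons 90 191 rfl rfl (kid_prune (by decide +kernel)) ?_
  refine kids_cons 91 190 rfl rfl (kid_prune (by decide +kernel)) ?_
  refine kids_cons 92 189 rfl rfl (kid_prune (by decide +kernel)) ?_
  refine kids_cons 93 188 rfl rfl (kid_child node1698 (by decide +kernel) (by decide +kernel) (by decide +kernel)) ?_
  refine kids_cons 94 187 rfl rfl (kid_child node1699 (by decide +kernel) (by decide +kernel) (by decide +kernel)) ?_
  refine kids_cons 95 186 rfl rfl (kid_child node1700 (by decide +kernel) (by decide +kernel) (by decide +kernel)) ?_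
  refine kids_cons 96 185 rfl rfl (kid_prune (by decide +kernel)) ?_
  refine kids_cons 97 184 rfl rfl (kid_child node1701 (by decide +kernel) (by decide +kernel) (by decide +kernel)) ?_
  refine kids_cons 98 183 rfl rfl (kid_prune (by decide +kernel)) ?_
  refine kids_cons 99 182 rfl rfl (kid_prune (by decide +kernel)) ?_
  refine kids_cons 100 181 rfl rfl (kid_child node1702 (by decide +kernel) (by decide +kernel) (by decide +kernel)) ?_
  refine kids_cons 101 180 rfl rfl (kid_prune (by decide +kernel)) ?_
  refine kids_cons 102 179 rfl rfl (kid_prune (by decide +kernel)) ?_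
  refine kids_cons 103 178 rfl rfl (kid_child node1703 (by decide +kernel) (by decide +kernel) (by decide +kernel)) ?_
  refine kids_cons 104 177 rfl rfl (kid_prune (by decide +kernel)) ?_
  refine kids_cons 105 176 rfl rfl (kid_child node1704 (by decide +kernel) (by decide +kernel) (by decide +kernel)) ?_
  refine kids_cons 106 175 rfl rfl (kid_prune (by decide +kernel)) ?_
  refine kids_cons 107 174 rfl rfl (kid_child node1705 (by decide +kernel) (by decide +kernel) (by decide +kernel)) ?_
  refine kids_cons 108 173 rfl rfl (kid_child node1706 (by decide +kernel) (by decide +kernel) (by decide +kernel)) ?_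
  refine kids_cons 109 172 rfl rfl (kid_child node1707 (by decide +kernel) (by decide +kernel) (by decide +kernel)) ?_
  refine kids_cons 110 171 rfl rfl (kid_prune (by decide +kernel)) ?_
  refine kids_cons 111 170 rfl rfl (kid_prune (by decide +kernel)) ?_
  refine kids_cons 112 169 rfl rfl (kid_child node1708 (by decide +kernel) (by decide +kernel) (by decide +kernel)) ?_
  refine kids_cons 113 168 rfl rfl (kid_prune (by decide +kernel)) ?_
  refine kids_cons 114 167 rfl rfl (kid_prune (by decide +kernel)) ?_
  refine kids_cons 115 166 rfl rfl (kid_child node1709 (by decide +kernel) (by decide +kernel) (by decide +kernel)) ?_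
  refine kids_cons 116 165 rfl rfl (kid_prune (by decide +kernel)) ?_
  refine kids_cons 117 164 rfl rfl (kid_child node1710 (by decide +kernel) (by decide +kernel) (by decide +kernel)) ?_
  refine kids_cons 118 163 rfl rfl (kid_child node1711 (by decide +kernel) (by decide +kernel) (by decide +kernel)) ?_
  refine kids_cons 119 162 rfl rfl (kid_child node1712 (by decide +kernel) (by decide +kernel) (by decide +kernel)) ?_
  refine kids_cons 120 161 rfl rfl (kid_prune (by decide +kernel)) ?_
  refine kids_cons 121 160 rfl rfl (kid_prune (by decide +kernel)) ?_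
  refine kids_cons 122 159 rfl rfl (kid_child node1713 (by decide +kernel) (by decide +kernel) (by decide +kernel)) ?_
  refine kids_cons 123 158 rfl rfl (kid_child node1714 (by decide +kernel) (by decide +kernel) (by decide +kernel)) ?_
  refine kids_cons 124 157 rfl rfl (kid_child node1715 (by decide +kernel) (by decide +kernel) (by decide +kernel)) ?_
  refine kids_cons 125 156 rfl rfl (kid_child node1716 (by decide +kernel) (by decide +kernel) (by decide +kernel)) ?_
  refine kids_cons 126 155 rfl rfl (kid_prune (by decide +kernel)) ?_
  refine kids_cons 127 154 rfl rfl (kid_prune (by decide +kernel)) ?_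
  refine kids_cons 128 153 rfl rfl (kid_prune (by decide +kernel)) ?_
  refine kids_cons 129 152 rfl rfl (kid_child node1717 (by decide +kernel) (by decide +kernel) (by decide +kernel)) ?_
  refine kids_cons 130 151 rfl rfl (kid_child node1718 (by decide +kernel) (by decide +kernel) (by decide +kernel)) ?_
  refine kids_cons 131 150 rfl rfl (kid_prune (by decide +kernel)) ?_
  refine kids_cons 132 149 rfl rfl (kid_prune (by decide +kernel)) ?_
  refine kids_cons 133 148 rfl rfl (kid_child node1719 (by decide +kernel) (by decide +kernel) (by decide +kernel)) ?_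
  refine kids_cons 134 147 rfl rfl (kid_prune (by decide +kernel)) ?_
  refine kids_cons 135 146 rfl rfl (kid_child node1720 (by decide +kernel) (by decide +kernel) (by decide +kernel)) ?_
  refine kids_cons 136 145 rfl rfl (kid_prune (by decide +kernel)) ?_
  refine kids_cons 137 144 rfl rfl (kid_child node1721 (by decide +kernel) (by decide +kernel) (by decide +kernel)) ?_
  refine kids_cons 138 143 rfl rfl (kid_prune (by decide +kernel)) ?_
  refine kids_cons 139 142 rfl rfl (kid_child node1722 (by decide +kernel) (by decide +kernel) (by decide +kernel)) ?_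
  refine kids_cons 140 141 rfl rfl (kid_prune (by decide +kernel)) ?_
  refine kids_cons 141 140 rfl rfl (kid_prune (by decide +kernel)) ?_
  refine kids_cons 142 139 rfl rfl (kid_child node1723 (by decide +kernel) (by decide +kernel) (by decide +kernel)) ?_
  refine kids_cons 143 138 rfl rfl (kid_child node1724 (by decide +kernel) (by decide +kernel) (by decide +kernel)) ?_
  refine kids_cons 144 137 rfl rfl (kid_child node1725 (by decide +kernel) (by decide +kernel) (by decide +kernel)) ?_
  refine kids_cons 145 136 rfl rfl (kid_child node1726 (by decide +kernel) (by decide +kernel) (by decide +kernel)) ?_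
  refine kids_cons 146 135 rfl rfl (kid_prune (by decide +kernel)) ?_
  refine kids_cons 147 134 rfl rfl (kid_child node1727 (by decide +kernel) (by decide +kernel) (by decide +kernel)) ?_
  refine kids_cons 148 133 rfl rfl (kid_prune (by decide +kernel)) ?_
  refine kids_cons 149 132 rfl rfl (kid_child node1728 (by decide +kernel) (by decide +kernel) (by decide +kernel)) ?_
  refine kids_cons 150 131 rfl rfl (kid_prune (by decide +kernel)) ?_
  refine kids_cons 151 130 rfl rfl (kid_prune (by decide +kernel)) ?_
  refine kids_cons 152 129 rfl rfl (kid_prune (by decide +kernel)) ?_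
  refine kids_cons 153 128 rfl rfl (kid_child node1729 (by decide +kernel) (by decide +kernel) (by decide +kernel)) ?_
  refine kids_cons 154 127 rfl rfl (kid_child node1730 (by decide +kernel) (by decide +kernel) (by decide +kernel)) ?_
  refine kids_cons 155 126 rfl rfl (kid_prune (by decide +kernel)) ?_
  refine kids_cons 156 125 rfl rfl (kid_prune (by decide +kernel)) ?_
  refine kids_cons 157 124 rfl rfl (kid_child node1731 (by decide +kernel) (by decide +kernel) (by decide +kernel)) ?_
  refine kids_cons 158 123 rfl rfl (kid_prune (by decide +kernel)) ?_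
  refine kids_cons 159 122 rfl rfl (kid_child node1732 (by decide +kernel) (by decide +kernel) (by decide +kernel)) ?_
  refine kids_cons 160 121 rfl rfl (kid_child node1733 (by decide +kernel) (by decide +kernel) (by decide +kernel)) ?_
  refine kids_cons 161 120 rfl rfl (kid_prune (by decide +kernel)) ?_
  refine kids_cons 162 119 rfl rfl (kid_prune (by decide +kernel)) ?_
  refine kids_cons 163 118 rfl rfl (kid_child node1734 (by decide +kernel) (by decide +kernel) (by decide +kernel)) ?_
  refine kids_cons 164 117 rfl rfl (kid_prune (by decide +kernel)) ?_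
  refine kids_cons 165 116 rfl rfl (kid_child node1735 (by decide +kernel) (by decide +kernel) (by decide +kernel)) ?_
  refine kids_cons 166 115 rfl rfl (kid_prune (by decide +kernel)) ?_
  refine kids_cons 167 114 rfl rfl (kid_child node1736 (by decide +kernel) (by decide +kernel) (by decide +kernel)) ?_
  refine kids_cons 168 113 rfl rfl (kid_child node1737 (by decide +kernel) (by decide +kernel) (by decide +kernel)) ?_
  refine kids_cons 169 112 rfl rfl (kid_prune (by decide +kernel)) ?_
  refine kids_cons 170 111 rfl rfl (kid_child node1738 (by decide +kernel) (by decide +kernel) (by decide +kernel)) ?_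
  refine kids_cons 171 110 rfl rfl (kid_prune (by decide +kernel)) ?_
  refine kids_cons 172 109 rfl rfl (kid_child node1739 (by decide +kernel) (by decide +kernel) (by decide +kernel)) ?_
  refine kids_cons 173 108 rfl rfl (kid_child node1740 (by decide +kernel) (by decide +kernel) (by decide +kernel)) ?_
  refine kids_cons 174 107 rfl rfl (kid_prune (by decide +kernel)) ?_
  refine kids_cons 175 106 rfl rfl (kid_child node1741 (by decide +kernel) (by decide +kernel) (by decide +kernel)) ?_
  refine kids_cons 176 105 rfl rfl (kid_prune (by decide +kernel)) ?_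
  refine kids_cons 177 104 rfl rfl (kid_child node1742 (by decide +kernel) (by decide +kernel) (by decide +kernel)) ?_
  refine kids_cons 178 103 rfl rfl (kid_child node1743 (by decide +kernel) (by decide +kernel) (by decide +kernel)) ?_
  refine kids_cons 179 102 rfl rfl (kid_child node1744 (by decide +kernel) (by decide +kernel) (by decide +kernel)) ?_
  refine kids_cons 180 101 rfl rfl (kid_child node1745 (by decide +kernel) (by decide +kernel) (by decide +kernel)) ?_
  refine kids_cons 181 100 rfl rfl (kid_prune (by decide +kernel)) ?_
  refine kids_cons 182 99 rfl rfl (kid_prune (by decide +kernel)) ?_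
  refine kids_cons 183 98 rfl rfl (kid_prune (by decide +kernel)) ?_
  refine kids_cons 184 97 rfl rfl (kid_child node1746 (by decide +kernel) (by decide +kernel) (by decide +kernel)) ?_
  refine kids_cons 185 96 rfl rfl (kid_child node1747 (by decide +kernel) (by decide +kernel) (by decide +kernel)) ?_
  refine kids_cons 186 95 rfl rfl (kid_prune (by decide +kernel)) ?_
  refine kids_cons 187 94 rfl rfl (kid_child node1748 (by decide +kernel) (by decide +kernel) (by decide +kernel)) ?_
  refine kids_cons 188 93 rfl rfl (kid_child node1749 (by decide +kernel) (by decide +kernel) (by decide +kernel)) ?_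
  refine kids_cons 189 92 rfl rfl (kid_child node1750 (by decide +kernel) (by decide +kernel) (by decide +kernel)) ?_
  refine kids_cons 190 91 rfl rfl (kid_prune (by decide +kernel)) ?_
  refine kids_cons 191 90 rfl rfl (kid_prune (by decide +kernel)) ?_
  refine kids_cons 192 89 rfl rfl (kid_prune (by decide +kernel)) ?_
  refine kids_cons 193 88 rfl rfl (kid_child node1751 (by decide +kernel) (by decide +kernel) (by decide +kernel)) ?_
  refine kids_cons 194 87 rfl rfl (kid_prune (by decide +kernel)) ?_
  refine kids_cons 195 86 rfl rfl (kid_child node1752 (by decide +kernel) (by decide +kernel) (by decide +kernel)) ?_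
  refine kids_cons 196 85 rfl rfl (kid_prune (by decide +kernel)) ?_
  refine kids_cons 197 84 rfl rfl (kid_prune (by decide +kernel)) ?_
  refine kids_cons 198 83 rfl rfl (kid_prune (by decide +kernel)) ?_
  refine kids_cons 199 82 rfl rfl (kid_child node1753 (by decide +kernel) (by decide +kernel) (by decide +kernel)) ?_
  refine kids_cons 200 81 rfl rfl (kid_prune (by decide +kernel)) ?_
  refine kids_cons 201 80 rfl rfl (kid_prune (by decide +kernel)) ?_
  refine kids_cons 202 79 rfl rfl (kid_child node1754 (by decide +kernel) (by decide +kernel) (by decide +kernel)) ?_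
  refine kids_cons 203 78 rfl rfl (kid_child node1755 (by decide +kernel) (by decide +kernel) (by decide +kernel)) ?_
  refine kids_cons 204 77 rfl rfl (kid_prune (by decide +kernel)) ?_
  refine kids_cons 205 76 rfl rfl (kid_child node1756 (by decide +kernel) (by decide +kernel) (by decide +kernel)) ?_
  refine kids_cons 206 75 rfl rfl (kid_prune (by decide +kernel)) ?_
  refine kids_cons 207 74 rfl rfl (kid_child node1757 (by decide +kernel) (by decide +kernel) (by decide +kernel)) ?_
  refine kids_cons 208 73 rfl rfl (kid_child node1758 (by decide +kernel) (by decide +kernel) (by decide +kernel)) ?_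
  refine kids_cons 209 72 rfl rfl (kid_child node1759 (by decide +kernel) (by decide +kernel) (by decide +kernel)) ?_
  refine kids_cons 210 71 rfl rfl (kid_child node1760 (by decide +kernel) (by decide +kernel) (by decide +kernel)) ?_
  refine kids_cons 211 70 rfl rfl (kid_prune (by decide +kernel)) ?_
  refine kids_cons 212 69 rfl rfl (kid_prune (by decide +kernel)) ?_
  refine kids_cons 213 68 rfl rfl (kid_child node1761 (by decide +kernel) (by decide +kernel) (by decide +kernel)) ?_
  refine kids_cons 214 67 rfl rfl (kid_child node1762 (by decide +kernel) (by decide +kernel) (by decide +kernel)) ?_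
  refine kids_cons 215 66 rfl rfl (kid_child node1763 (by decide +kernel) (by decide +kernel) (by decide +kernel)) ?_
  refine kids_cons 216 65 rfl rfl (kid_prune (by decide +kernel)) ?_
  refine kids_cons 217 64 rfl rfl (kid_child node1764 (by decide +kernel) (by decide +kernel) (by decide +kernel)) ?_
  refine kids_cons 218 63 rfl rfl (kid_prune (by decide +kernel)) ?_
  refine kids_cons 219 62 rfl rfl (kid_child node1765 (by decide +kernel) (by decide +kernel) (by decide +kernel)) ?_
  refine kids_cons 220 61 rfl rfl (kid_child node1766 (by decide +kernel) (by decide +kernel) (by decide +kernel)) ?_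
  refine kids_cons 221 60 rfl rfl (kid_prune (by decide +kernel)) ?_
  refine kids_cons 222 59 rfl rfl (kid_child node1767 (by decide +kernel) (by decide +kernel) (by decide +kernel)) ?_
  refine kids_cons 223 58 rfl rfl (kid_child node1768 (by decide +kernel) (by decide +kernel) (by decide +kernel)) ?_
  refine kids_cons 224 57 rfl rfl (kid_prune (by decide +kernel)) ?_
  refine kids_cons 225 56 rfl rfl (kid_prune (by decide +kernel)) ?_
  refine kids_cons 226 55 rfl rfl (kid_prune (by decide +kernel)) ?_
  refine kids_cons 227 54 rfl rfl (kid_child node1769 (by decide +kernel) (by decide +kernel) (by decide +kernel)) ?_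
  refine kids_cons 228 53 rfl rfl (kid_child node1770 (by decide +kernel) (by decide +kernel) (by decide +kernel)) ?_
  refine kids_cons 229 52 rfl rfl (kid_child node1771 (by decide +kernel) (by decide +kernel) (by decide +kernel)) ?_
  refine kids_cons 230 51 rfl rfl (kid_prune (by decide +kernel)) ?_
  refine kids_cons 231 50 rfl rfl (kid_prune (by decide +kernel)) ?_
  refine kids_cons 232 49 rfl rfl (kid_prune (by decide +kernel)) ?_
  refine kids_cons 233 48 rfl rfl (kid_child node1772 (by decide +kernel) (by decide +kernel) (by decide +kernel)) ?_
  refine kids_cons 234 47 rfl rfl (kid_prune (by decide +kernel)) ?_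
  refine kids_cons 235 46 rfl rfl (kid_child node1773 (by decide +kernel) (by decide +kernel) (by decide +kernel)) ?_
  refine kids_cons 236 45 rfl rfl (kid_prune (by decide +kernel)) ?_
  refine kids_cons 237 44 rfl rfl (kid_child node1774 (by decide +kernel) (by decide +kernel) (by decide +kernel)) ?_
  refine kids_cons 238 43 rfl rfl (kid_child node1775 (by decide +kernel) (by decide +kernel) (by decide +kernel)) ?_
  refine kids_cons 239 42 rfl rfl (kid_prune (by decide +kernel)) ?_
  refine kids_cons 240 41 rfl rfl (kid_prune (by decide +kernel)) ?_
  refine kids_cons 241 40 rfl rfl (kid_prune (by decide +kernel)) ?_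
  refine kids_cons 242 39 rfl rfl (kid_prune (by decide +kernel)) ?_
  refine kids_cons 243 38 rfl rfl (kid_child node1776 (by decide +kernel) (by decide +kernel) (by decide +kernel)) ?_
  refine kids_cons 244 37 rfl rfl (kid_child node1777 (by decide +kernel) (by decide +kernel) (by decide +kernel)) ?_
  refine kids_cons 245 36 rfl rfl (kid_child node1778 (by decide +kernel) (by decide +kernel) (by decide +kernel)) ?_
  refine kids_cons 246 35 rfl rfl (kid_prune (by decide +kernel)) ?_
  refine kids_cons 247 34 rfl rfl (kid_child node1779 (by decide +kernel) (by decide +kernel) (by decide +kernel)) ?_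
  refine kids_cons 248 33 rfl rfl (kid_child node1780 (by decide +kernel) (by decide +kernel) (by decide +kernel)) ?_
  refine kids_cons 249 32 rfl rfl (kid_child node1781 (by decide +kernel) (by decide +kernel) (by decide +kernel)) ?_
  refine kids_cons 250 31 rfl rfl (kid_child node1782 (by decide +kernel) (by decide +kernel) (by decide +kernel)) ?_
  refine kids_cons 251 30 rfl rfl (kid_prune (by decide +kernel)) ?_
  refine kids_cons 252 29 rfl rfl (kid_prune (by decide +kernel)) ?_
  refine kids_cons 253 28 rfl rfl (kid_prune (by decide +kernel)) ?_
  refine kids_cons 254 27 rfl rfl (kid_child node1783 (by decide +kernel) (by decide +kernel) (by decide +kernel)) ?_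
  refine kids_cons 255 26 rfl rfl (kid_child node1784 (by decide +kernel) (by decide +kernel) (by decide +kernel)) ?_
  refine kids_cons 256 25 rfl rfl (kid_prune (by decide +kernel)) ?_
  refine kids_cons 257 24 rfl rfl (kid_child node1785 (by decide +kernel) (by decide +kernel) (by decide +kernel)) ?_
  refine kids_cons 258 23 rfl rfl (kid_prune (by decide +kernel)) ?_
  refine kids_cons 259 22 rfl rfl (kid_child node1786 (by decide +kernel) (by decide +kernel) (by decide +kernel)) ?_
  refine kids_cons 260 21 rfl rfl (kid_prune (by decide +kernel)) ?_
  refine kids_cons 261 20 rfl rfl (kid_prune (by decide +kernel)) ?_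
  refine kids_cons 262 19 rfl rfl (kid_child node1787 (by decide +kernel) (by decide +kernel) (by decide +kernel)) ?_
  refine kids_cons 263 18 rfl rfl (kid_child node1788 (by decide +kernel) (by decide +kernel) (by decide +kernel)) ?_
  refine kids_cons 264 17 rfl rfl (kid_child node1789 (by decide +kernel) (by decide +kernel) (by decide +kernel)) ?_
  refine kids_cons 265 16 rfl rfl (kid_child node1790 (by decide +kernel) (by decide +kernel) (by decide +kernel)) ?_
  refine kids_cons 266 15 rfl rfl (kid_prune (by decide +kernel)) ?_
  refine kids_cons 267 14 rfl rfl (kid_prune (by decide +kernel)) ?_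
  refine kids_cons 268 13 rfl rfl (kid_child node1791 (by decide +kernel) (by decide +kernel) (by decide +kernel)) ?_
  refine kids_cons 269 12 rfl rfl (kid_child node1792 (by decide +kernel) (by decide +kernel) (by decide +kernel)) ?_
  refine kids_cons 270 11 rfl rfl (kid_prune (by decide +kernel)) ?_
  refine kids_cons 271 10 rfl rfl (kid_prune (by decide +kernel)) ?_
  refine kids_cons 272 9 rfl rfl (kid_prune (by decide +kernel)) ?_
  refine kids_cons 273 8 rfl rfl (kid_child node1793 (by decide +kernel) (by decide +kernel) (by decide +kernel)) ?_
  refine kids_cons 274 7 rfl rfl (kid_prune (by decide +kernel)) ?_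
  refine kids_cons 275 6 rfl rfl (kid_child node1794 (by decide +kernel) (by decide +kernel) (by decide +kernel)) ?_
  refine kids_cons 276 5 rfl rfl (kid_prune (by decide +kernel)) ?_
  refine kids_cons 277 4 rfl rfl (kid_child node1795 (by decide +kernel) (by decide +kernel) (by decide +kernel)) ?_
  refine kids_cons 278 3 rfl rfl (kid_prune (by decide +kernel)) ?_
  refine kids_cons 279 2 rfl rfl (kid_child node1796 (by decide +kernel) (by decide +kernel) (by decide +kernel)) ?_
  refine kids_cons 280 1 rfl rfl (kid_child node1797 (by decide +kernel) (by decide +kernel) (by decide +kernel)) ?_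
  refine kids_cons 281 0 rfl rfl (kid_prune (by decide +kernel)) ?_
  exact kids_nil 281

theorem node1849 : dfs 2 [8, 7, 6, 6, 6, 5] 27 840 [1, 5, 6, 30, 2, 10, 3, 15, 7, 35, 42, 210, 14, 70, 21, 105, 4, 20, 24, 120, 8, 40, 12, 60, 28, 140, 168, 840, 56, 280, 84, 420, 2, 10, 12, 60, 4, 20, 6, 30, 14, 70, 84, 420, 28, 140, 42, 210, 2, 10, 12, 60, 4, 20, 6, 30, 14, 70, 84, 420, 28, 140, 42, 210] = true := by
  refine node_of_kids 32 93 (by decide) (by decide) ?_
  refine kids_cons 33 92 rfl rfl (kid_child node1799 (by decide +kernel) (by decide +kernel) (by decide +kernel)) ?_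
  refine kids_cons 34 91 rfl rfl (kid_child node1800 (by decide +kernel) (by decide +kernel) (by decide +kernel)) ?_
  refine kids_cons 35 90 rfl rfl (kid_child node1801 (by decide +kernel) (by decide +kernel) (by decide +kernel)) ?_
  refine kids_cons 36 89 rfl rfl (kid_prune (by decide +kernel)) ?_
  refine kids_cons 37 88 rfl rfl (kid_child node1802 (by decide +kernel) (by decide +kernel) (by decide +kernel)) ?_
  refine kids_cons 38 87 rfl rfl (kid_prune (by decide +kernel)) ?_
  refine kids_cons 39 86 rfl rfl (kid_child node1803 (by decide +kernel) (by decide +kernel) (by decide +kernel)) ?_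
  refine kids_cons 40 85 rfl rfl (kid_child node1804 (by decide +kernel) (by decide +kernel) (by decide +kernel)) ?_
  refine kids_cons 41 84 rfl rfl (kid_prune (by decide +kernel)) ?_
  refine kids_cons 42 83 rfl rfl (kid_prune (by decide +kernel)) ?_
  refine kids_cons 43 82 rfl rfl (kid_prune (by decide +kernel)) ?_
  refine kids_cons 44 81 rfl rfl (kid_prune (by decide +kernel)) ?_
  refine kids_cons 45 80 rfl rfl (kid_child node1805 (by decide +kernel) (by decide +kernel) (by decide +kernel)) ?_
  refine kids_cons 46 79 rfl rfl (kid_prune (by decide +kernel)) ?_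
  refine kids_cons 47 78 rfl rfl (kid_child node1806 (by decide +kernel) (by decide +kernel) (by decide +kernel)) ?_
  refine kids_cons 48 77 rfl rfl (kid_child node1807 (by decide +kernel) (by decide +kernel) (by decide +kernel)) ?_
  refine kids_cons 49 76 rfl rfl (kid_child node1808 (by decide +kernel) (by decide +kernel) (by decide +kernel)) ?_
  refine kids_cons 50 75 rfl rfl (kid_prune (by decide +kernel)) ?_
  refine kids_cons 51 74 rfl rfl (kid_prune (by decide +kernel)) ?_
  refine kids_cons 52 73 rfl rfl (kid_child node1809 (by decide +kernel) (by decide +kernel) (by decide +kernel)) ?_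
  refine kids_cons 53 72 rfl rfl (kid_child node1810 (by decide +kernel) (by decide +kernel) (by decide +kernel)) ?_
  refine kids_cons 54 71 rfl rfl (kid_prune (by decide +kernel)) ?_
  refine kids_cons 55 70 rfl rfl (kid_child node1811 (by decide +kernel) (by decide +kernel) (by decide +kernel)) ?_
  refine kids_cons 56 69 rfl rfl (kid_prune (by decide +kernel)) ?_
  refine kids_cons 57 68 rfl rfl (kid_prune (by decide +kernel)) ?_
  refine kids_cons 58 67 rfl rfl (kid_child node1812 (by decide +kernel) (by decide +kernel) (by decide +kernel)) ?_
  refine kids_cons 59 66 rfl rfl (kid_child node1813 (by decide +kernel) (by decide +kernel) (by decide +kernel)) ?_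
  refine kids_cons 60 65 rfl rfl (kid_child node1814 (by decide +kernel) (by decide +kernel) (by decide +kernel)) ?_
  refine kids_cons 61 64 rfl rfl (kid_prune (by decide +kernel)) ?_
  refine kids_cons 62 63 rfl rfl (kid_prune (by decide +kernel)) ?_
  refine kids_cons 63 62 rfl rfl (kid_child node1815 (by decide +kernel) (by decide +kernel) (by decide +kernel)) ?_
  refine kids_cons 64 61 rfl rfl (kid_prune (by decide +kernel)) ?_
  refine kids_cons 65 60 rfl rfl (kid_child node1816 (by decide +kernel) (by decide +kernel) (by decide +kernel)) ?_
  refine kids_cons 66 59 rfl rfl (kid_prune (by decide +kernel)) ?_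
  refine kids_cons 67 58 rfl rfl (kid_child node1817 (by decide +kernel) (by decide +kernel) (by decide +kernel)) ?_
  refine kids_cons 68 57 rfl rfl (kid_prune (by decide +kernel)) ?_
  refine kids_cons 69 56 rfl rfl (kid_child node1818 (by decide +kernel) (by decide +kernel) (by decide +kernel)) ?_
  refine kids_cons 70 55 rfl rfl (kid_child node1819 (by decide +kernel) (by decide +kernel) (by decide +kernel)) ?_
  refine kids_cons 71 54 rfl rfl (kid_prune (by decide +kernel)) ?_
  refine kids_cons 72 53 rfl rfl (kid_prune (by decide +kernel)) ?_
  refine kids_cons 73 52 rfl rfl (kid_child node1820 (by decide +kernel) (by decide +kernel) (by decide +kernel)) ?_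
  refine kids_cons 74 51 rfl rfl (kid_prune (by decide +kernel)) ?_
  refine kids_cons 75 50 rfl rfl (kid_child node1821 (by decide +kernel) (by decide +kernel) (by decide +kernel)) ?_
  refine kids_cons 76 49 rfl rfl (kid_prune (by decide +kernel)) ?_
  refine kids_cons 77 48 rfl rfl (kid_child node1822 (by decide +kernel) (by decide +kernel) (by decide +kernel)) ?_
  refine kids_cons 78 47 rfl rfl (kid_prune (by decide +kernel)) ?_
  refine kids_cons 79 46 rfl rfl (kid_child node1823 (by decide +kernel) (by decide +kernel) (by decide +kernel)) ?_
  refine kids_cons 80 45 rfl rfl (kid_prune (by decide +kernel)) ?_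
  refine kids_cons 81 44 rfl rfl (kid_prune (by decide +kernel)) ?_
  refine kids_cons 82 43 rfl rfl (kid_child node1824 (by decide +kernel) (by decide +kernel) (by decide +kernel)) ?_
  refine kids_cons 83 42 rfl rfl (kid_child node1825 (by decide +kernel) (by decide +kernel) (by decide +kernel)) ?_
  refine kids_cons 84 41 rfl rfl (kid_child node1826 (by decide +kernel) (by decide +kernel) (by decide +kernel)) ?_
  refine kids_cons 85 40 rfl rfl (kid_prune (by decide +kernel)) ?_
  refine kids_cons 86 39 rfl rfl (kid_prune (by decide +kernel)) ?_
  refine kids_cons 87 38 rfl rfl (kid_child node1827 (by decide +kernel) (by decide +kernel) (by decide +kernel)) ?_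
  refine kids_cons 88 37 rfl rfl (kid_child node1828 (by decide +kernel) (by decide +kernel) (by decide +kernel)) ?_
  refine kids_cons 89 36 rfl rfl (kid_child node1829 (by decide +kernel) (by decide +kernel) (by decide +kernel)) ?_
  refine kids_cons 90 35 rfl rfl (kid_prune (by decide +kernel)) ?_
  refine kids_cons 91 34 rfl rfl (kid_prune (by decide +kernel)) ?_
  refine kids_cons 92 33 rfl rfl (kid_prune (by decide +kernel)) ?_
  refine kids_cons 93 32 rfl rfl (kid_child node1830 (by decide +kernel) (by decide +kernel) (by decide +kernel)) ?_
  refine kids_cons 94 31 rfl rfl (kid_child node1831 (by decide +kernel) (by decide +kernel) (by decide +kernel)) ?_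
  refine kids_cons 95 30 rfl rfl (kid_child node1832 (by decide +kernel) (by decide +kernel) (by decide +kernel)) ?_
  refine kids_cons 96 29 rfl rfl (kid_prune (by decide +kernel)) ?_
  refine kids_cons 97 28 rfl rfl (kid_child node1833 (by decide +kernel) (by decide +kernel) (by decide +kernel)) ?_
  refine kids_cons 98 27 rfl rfl (kid_prune (by decide +kernel)) ?_
  refine kids_cons 99 26 rfl rfl (kid_prune (by decide +kernel)) ?_
  refine kids_cons 100 25 rfl rfl (kid_child node1834 (by decide +kernel) (by decide +kernel) (by decide +kernel)) ?_
  refine kids_cons 101 24 rfl rfl (kid_prune (by decide +kernel)) ?_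
  refine kids_cons 102 23 rfl rfl (kid_prune (by decide +kernel)) ?_
  refine kids_cons 103 22 rfl rfl (kid_child node1835 (by decide +kernel) (by decide +kernel) (by decide +kernel)) ?_
  refine kids_cons 104 21 rfl rfl (kid_prune (by decide +kernel)) ?_
  refine kids_cons 105 20 rfl rfl (kid_child node1836 (by decide +kernel) (by decide +kernel) (by decide +kernel)) ?_
  refine kids_cons 106 19 rfl rfl (kid_prune (by decide +kernel)) ?_
  refine kids_cons 107 18 rfl rfl (kid_child node1837 (by decide +kernel) (by decide +kernel) (by decide +kernel)) ?_
  refine kids_cons 108 17 rfl rfl (kid_child node1838 (by decide +kernel) (by decide +kernel) (by decide +kernel)) ?_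
  refine kids_cons 109 16 rfl rfl (kid_child node1839 (by decide +kernel) (by decide +kernel) (by decide +kernel)) ?_
  refine kids_cons 110 15 rfl rfl (kid_prune (by decide +kernel)) ?_
  refine kids_cons 111 14 rfl rfl (kid_prune (by decide +kernel)) ?_
  refine kids_cons 112 13 rfl rfl (kid_child node1840 (by decide +kernel) (by decide +kernel) (by decide +kernel)) ?_
  refine kids_cons 113 12 rfl rfl (kid_prune (by decide +kernel)) ?_
  refine kids_cons 114 11 rfl rfl (kid_prune (by decide +kernel)) ?_
  refine kids_cons 115 10 rfl rfl (kid_child node1841 (by decide +kernel) (by decide +kernel) (by decide +kernel)) ?_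
  refine kids_cons 116 9 rfl rfl (kid_prune (by decide +kernel)) ?_
  refine kids_cons 117 8 rfl rfl (kid_child node1842 (by decide +kernel) (by decide +kernel) (by decide +kernel)) ?_
  refine kids_cons 118 7 rfl rfl (kid_child node1843 (by decide +kernel) (by decide +kernel) (by decide +kernel)) ?_
  refine kids_cons 119 6 rfl rfl (kid_child node1844 (by decide +kernel) (by decide +kernel) (by decide +kernel)) ?_
  refine kids_cons 120 5 rfl rfl (kid_prune (by decide +kernel)) ?_
  refine kids_cons 121 4 rfl rfl (kid_prune (by decide +kernel)) ?_
  refine kids_cons 122 3 rfl rfl (kid_child node1845 (by decide +kernel) (by decide +kernel) (by decide +kernel)) ?_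
  refine kids_cons 123 2 rfl rfl (kid_child node1846 (by decide +kernel) (by decide +kernel) (by decide +kernel)) ?_
  refine kids_cons 124 1 rfl rfl (kid_child node1847 (by decide +kernel) (by decide +kernel) (by decide +kernel)) ?_
  refine kids_cons 125 0 rfl rfl (kid_child node1848 (by decide +kernel) (by decide +kernel) (by decide +kernel)) ?_
  exact kids_nil 125

theorem node1884 : dfs 2 [9, 7, 6, 6, 6, 5] 29 630 [1, 5, 6, 30, 2, 10, 3, 15, 7, 35, 42, 210, 14, 70, 21, 105, 3, 15, 18, 90, 6, 30, 9, 45, 21, 105, 126, 630, 42, 210, 63, 315] = true := by
  refine node_of_kids 22 65 (by decide) (by decide) ?_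
  refine kids_cons 23 64 rfl rfl (kid_child node1850 (by decide +kernel) (by decide +kernel) (by decide +kernel)) ?_
  refine kids_cons 24 63 rfl rfl (kid_child node1851 (by decide +kernel) (by decide +kernel) (by decide +kernel)) ?_
  refine kids_cons 25 62 rfl rfl (kid_child node1852 (by decide +kernel) (by decide +kernel) (by decide +kernel)) ?_
  refine kids_cons 26 61 rfl rfl (kid_prune (by decide +kernel)) ?_
  refine kids_cons 27 60 rfl rfl (kid_child node1853 (by decide +kernel) (by decide +kernel) (by decide +kernel)) ?_
  refine kids_cons 28 59 rfl rfl (kid_child node1854 (by decide +kernel) (by decide +kernel) (by decide +kernel)) ?_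
  refine kids_cons 29 58 rfl rfl (kid_prune (by decide +kernel)) ?_
  refine kids_cons 30 57 rfl rfl (kid_prune (by decide +kernel)) ?_
  refine kids_cons 31 56 rfl rfl (kid_prune (by decide +kernel)) ?_
  refine kids_cons 32 55 rfl rfl (kid_prune (by decide +kernel)) ?_
  refine kids_cons 33 54 rfl rfl (kid_child node1855 (by decide +kernel) (by decide +kernel) (by decide +kernel)) ?_
  refine kids_cons 34 53 rfl rfl (kid_child node1856 (by decide +kernel) (by decide +kernel) (by decide +kernel)) ?_
  refine kids_cons 35 52 rfl rfl (kid_child node1857 (by decide +kernel) (by decide +kernel) (by decide +kernel)) ?_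
  refine kids_cons 36 51 rfl rfl (kid_prune (by decide +kernel)) ?_
  refine kids_cons 37 50 rfl rfl (kid_child node1858 (by decide +kernel) (by decide +kernel) (by decide +kernel)) ?_
  refine kids_cons 38 49 rfl rfl (kid_prune (by decide +kernel)) ?_
  refine kids_cons 39 48 rfl rfl (kid_child node1859 (by decide +kernel) (by decide +kernel) (by decide +kernel)) ?_
  refine kids_cons 40 47 rfl rfl (kid_child node1860 (by decide +kernel) (by decide +kernel) (by decide +kernel)) ?_
  refine kids_cons 41 46 rfl rfl (kid_prune (by decide +kernel)) ?_
  refine kids_cons 42 45 rfl rfl (kid_prune (by decide +kernel)) ?_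
  refine kids_cons 43 44 rfl rfl (kid_prune (by decide +kernel)) ?_
  refine kids_cons 44 43 rfl rfl (kid_prune (by decide +kernel)) ?_
  refine kids_cons 45 42 rfl rfl (kid_child node1861 (by decide +kernel) (by decide +kernel) (by decide +kernel)) ?_
  refine kids_cons 46 41 rfl rfl (kid_prune (by decide +kernel)) ?_
  refine kids_cons 47 40 rfl rfl (kid_child node1862 (by decide +kernel) (by decide +kernel) (by decide +kernel)) ?_
  refine kids_cons 48 39 rfl rfl (kid_child node1863 (by decide +kernel) (by decide +kernel) (by decide +kernel)) ?_
  refine kids_cons 49 38 rfl rfl (kid_child node1864 (by decide +kernel) (by decide +kernel) (by decide +kernel)) ?_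
  refine kids_cons 50 37 rfl rfl (kid_prune (by decide +kernel)) ?_
  refine kids_cons 51 36 rfl rfl (kid_prune (by decide +kernel)) ?_
  refine kids_cons 52 35 rfl rfl (kid_child node1865 (by decide +kernel) (by decide +kernel) (by decide +kernel)) ?_
  refine kids_cons 53 34 rfl rfl (kid_child node1866 (by decide +kernel) (by decide +kernel) (by decide +kernel)) ?_
  refine kids_cons 54 33 rfl rfl (kid_prune (by decide +kernel)) ?_
  refine kids_cons 55 32 rfl rfl (kid_child node1867 (by decide +kernel) (by decide +kernel) (by decide +kernel)) ?_
  refine kids_cons 56 31 rfl rfl (kid_prune (by decide +kernel)) ?_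
  refine kids_cons 57 30 rfl rfl (kid_prune (by decide +kernel)) ?_
  refine kids_cons 58 29 rfl rfl (kid_child node1868 (by decide +kernel) (by decide +kernel) (by decide +kernel)) ?_
  refine kids_cons 59 28 rfl rfl (kid_child node1869 (by decide +kernel) (by decide +kernel) (by decide +kernel)) ?_
  refine kids_cons 60 27 rfl rfl (kid_child node1870 (by decide +kernel) (by decide +kernel) (by decide +kernel)) ?_
  refine kids_cons 61 26 rfl rfl (kid_prune (by decide +kernel)) ?_
  refine kids_cons 62 25 rfl rfl (kid_prune (by decide +kernel)) ?_
  refine kids_cons 63 24 rfl rfl (kid_child node1871 (by decide +kernel) (by decide +kernel) (by decide +kernel)) ?_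
  refine kids_cons 64 23 rfl rfl (kid_prune (by decide +kernel)) ?_
  refine kids_cons 65 22 rfl rfl (kid_child node1872 (by decide +kernel) (by decide +kernel) (by decide +kernel)) ?_
  refine kids_cons 66 21 rfl rfl (kid_prune (by decide +kernel)) ?_
  refine kids_cons 67 20 rfl rfl (kid_child node1873 (by decide +kernel) (by decide +kernel) (by decide +kernel)) ?_
  refine kids_cons 68 19 rfl rfl (kid_prune (by decide +kernel)) ?_
  refine kids_cons 69 18 rfl rfl (kid_child node1874 (by decide +kernel) (by decide +kernel) (by decide +kernel)) ?_
  refine kids_cons 70 17 rfl rfl (kid_child node1875 (by decide +kernel) (by decide +kernel) (by decide +kernel)) ?_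
  refine kids_cons 71 16 rfl rfl (kid_prune (by decide +kernel)) ?_
  refine kids_cons 72 15 rfl rfl (kid_prune (by decide +kernel)) ?_
  refine kids_cons 73 14 rfl rfl (kid_child node1876 (by decide +kernel) (by decide +kernel) (by decide +kernel)) ?_
  refine kids_cons 74 13 rfl rfl (kid_prune (by decide +kernel)) ?_
  refine kids_cons 75 12 rfl rfl (kid_child node1877 (by decide +kernel) (by decide +kernel) (by decide +kernel)) ?_
  refine kids_cons 76 11 rfl rfl (kid_prune (by decide +kernel)) ?_
  refine kids_cons 77 10 rfl rfl (kid_child node1878 (by decide +kernel) (by decide +kernel) (by decide +kernel)) ?_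
  refine kids_cons 78 9 rfl rfl (kid_prune (by decide +kernel)) ?_
  refine kids_cons 79 8 rfl rfl (kid_child node1879 (by decide +kernel) (by decide +kernel) (by decide +kernel)) ?_
  refine kids_cons 80 7 rfl rfl (kid_prune (by decide +kernel)) ?_
  refine kids_cons 81 6 rfl rfl (kid_prune (by decide +kernel)) ?_
  refine kids_cons 82 5 rfl rfl (kid_child node1880 (by decide +kernel) (by decide +kernel) (by decide +kernel)) ?_
  refine kids_cons 83 4 rfl rfl (kid_child node1881 (by decide +kernel) (by decide +kernel) (by decide +kernel)) ?_
  refine kids_cons 84 3 rfl rfl (kid_child node1882 (by decide +kernel) (by decide +kernel) (by decide +kernel)) ?_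
  refine kids_cons 85 2 rfl rfl (kid_prune (by decide +kernel)) ?_
  refine kids_cons 86 1 rfl rfl (kid_prune (by decide +kernel)) ?_
  refine kids_cons 87 0 rfl rfl (kid_child node1883 (by decide +kernel) (by decide +kernel) (by decide +kernel)) ?_
  exact kids_nil 87

theorem node1897 : dfs 3 [7, 6, 6, 6, 5] 33 210 [1, 5, 6, 30, 2, 10, 3, 15, 7, 35, 42, 210, 14, 70, 21, 105] = true := by
  refine node_of_kids 7 25 (by decide) (by decide) ?_
  refine kids_cons 8 24 rfl rfl (kid_child node1798 (by decide +kernel) (by decide +kernel) (by decide +kernel)) ?_
  refine kids_cons 9 23 rfl rfl (kid_child node1849 (by decide +kernel) (by decide +kernel) (by decide +kernel)) ?_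
  refine kids_cons 10 22 rfl rfl (kid_child node1884 (by decide +kernel) (by decide +kernel) (by decide +kernel)) ?_
  refine kids_cons 11 21 rfl rfl (kid_prune (by decide +kernel)) ?_
  refine kids_cons 12 20 rfl rfl (kid_child node1885 (by decide +kernel) (by decide +kernel) (by decide +kernel)) ?_
  refine kids_cons 13 19 rfl rfl (kid_child node1886 (by decide +kernel) (by decide +kernel) (by decide +kernel)) ?_
  refine kids_cons 14 18 rfl rfl (kid_child node1887 (by decide +kernel) (by decide +kernel) (by decide +kernel)) ?_
  refine kids_cons 15 17 rfl rfl (kid_prune (by decide +kernel)) ?_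
  refine kids_cons 16 16 rfl rfl (kid_prune (by decide +kernel)) ?_
  refine kids_cons 17 15 rfl rfl (kid_child node1888 (by decide +kernel) (by decide +kernel) (by decide +kernel)) ?_
  refine kids_cons 18 14 rfl rfl (kid_prune (by decide +kernel)) ?_
  refine kids_cons 19 13 rfl rfl (kid_child node1889 (by decide +kernel) (by decide +kernel) (by decide +kernel)) ?_
  refine kids_cons 20 12 rfl rfl (kid_child node1890 (by decide +kernel) (by decide +kernel) (by decide +kernel)) ?_
  refine kids_cons 21 11 rfl rfl (kid_prune (by decide +kernel)) ?_
  refine kids_cons 22 10 rfl rfl (kid_prune (by decide +kernel)) ?_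
  refine kids_cons 23 9 rfl rfl (kid_child node1891 (by decide +kernel) (by decide +kernel) (by decide +kernel)) ?_
  refine kids_cons 24 8 rfl rfl (kid_child node1892 (by decide +kernel) (by decide +kernel) (by decide +kernel)) ?_
  refine kids_cons 25 7 rfl rfl (kid_child node1893 (by decide +kernel) (by decide +kernel) (by decide +kernel)) ?_
  refine kids_cons 26 6 rfl rfl (kid_prune (by decide +kernel)) ?_
  refine kids_cons 27 5 rfl rfl (kid_child node1894 (by decide +kernel) (by decide +kernel) (by decide +kernel)) ?_
  refine kids_cons 28 4 rfl rfl (kid_child node1895 (by decide +kernel) (by decide +kernel) (by decide +kernel)) ?_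
  refine kids_cons 29 3 rfl rfl (kid_prune (by decide +kernel)) ?_
  refine kids_cons 30 2 rfl rfl (kid_child node1896 (by decide +kernel) (by decide +kernel) (by decide +kernel)) ?_
  refine kids_cons 31 1 rfl rfl (kid_prune (by decide +kernel)) ?_
  refine kids_cons 32 0 rfl rfl (kid_prune (by decide +kernel)) ?_
  exact kids_nil 32

theorem node1929 : dfs 2 [9, 8, 6, 6, 6, 5] 23 360 [1, 5, 6, 30, 2, 10, 3, 15, 4, 20, 24, 120, 8, 40, 12, 60, 2, 10, 12, 60, 4, 20, 6, 30, 2, 10, 12, 60, 4, 20, 6, 30, 3, 15, 18, 90, 6, 30, 9, 45, 12, 60, 72, 360, 24, 120, 36, 180, 6, 30, 36, 180, 12, 60, 18, 90, 6, 30, 36, 180, 12, 60, 18, 90] = true := by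
  refine node_of_kids 16 47 (by decide) (by decide) ?_
  refine kids_cons 17 46 rfl rfl (kid_child node1899 (by decide +kernel) (by decide +kernel) (by decide +kernel)) ?_
  refine kids_cons 18 45 rfl rfl (kid_prune (by decide +kernel)) ?_
  refine kids_cons 19 44 rfl rfl (kid_child node1900 (by decide +kernel) (by decide +kernel) (by decide +kernel)) ?_
  refine kids_cons 20 43 rfl rfl (kid_child node1901 (by decide +kernel) (by decide +kernel) (by decide +kernel)) ?_
  refine kids_cons 21 42 rfl rfl (kid_prune (by decide +kernel)) ?_
  refine kids_cons 22 41 rfl rfl (kid_child node1902 (by decide +kernel) (by decide +kernel) (by decide +kernel)) ?_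
  refine kids_cons 23 40 rfl rfl (kid_child node1903 (by decide +kernel) (by decide +kernel) (by decide +kernel)) ?_
  refine kids_cons 24 39 rfl rfl (kid_child node1904 (by decide +kernel) (by decide +kernel) (by decide +kernel)) ?_
  refine kids_cons 25 38 rfl rfl (kid_child node1905 (by decide +kernel) (by decide +kernel) (by decide +kernel)) ?_
  refine kids_cons 26 37 rfl rfl (kid_prune (by decide +kernel)) ?_
  refine kids_cons 27 36 rfl rfl (kid_child node1906 (by decide +kernel) (by decide +kernel) (by decide +kernel)) ?_
  refine kids_cons 28 35 rfl rfl (kid_child node1907 (by decide +kernel) (by decide +kernel) (by decide +kernel)) ?_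
  refine kids_cons 29 34 rfl rfl (kid_child node1908 (by decide +kernel) (by decide +kernel) (by decide +kernel)) ?_
  refine kids_cons 30 33 rfl rfl (kid_prune (by decide +kernel)) ?_
  refine kids_cons 31 32 rfl rfl (kid_prune (by decide +kernel)) ?_
  refine kids_cons 32 31 rfl rfl (kid_prune (by decide +kernel)) ?_
  refine kids_cons 33 30 rfl rfl (kid_child node1909 (by decide +kernel) (by decide +kernel) (by decide +kernel)) ?_
  refine kids_cons 34 29 rfl rfl (kid_child node1910 (by decide +kernel) (by decide +kernel) (by decide +kernel)) ?_
  refine kids_cons 35 28 rfl rfl (kid_child node1911 (by decide +kernel) (by decide +kernel) (by decide +kernel)) ?_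
  refine kids_cons 36 27 rfl rfl (kid_prune (by decide +kernel)) ?_
  refine kids_cons 37 26 rfl rfl (kid_child node1912 (by decide +kernel) (by decide +kernel) (by decide +kernel)) ?_
  refine kids_cons 38 25 rfl rfl (kid_prune (by decide +kernel)) ?_
  refine kids_cons 39 24 rfl rfl (kid_child node1913 (by decide +kernel) (by decide +kernel) (by decide +kernel)) ?_
  refine kids_cons 40 23 rfl rfl (kid_child node1914 (by decide +kernel) (by decide +kernel) (by decide +kernel)) ?_
  refine kids_cons 41 22 rfl rfl (kid_prune (by decide +kernel)) ?_
  refine kids_cons 42 21 rfl rfl (kid_prune (by decide +kernel)) ?_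
  refine kids_cons 43 20 rfl rfl (kid_child node1915 (by decide +kernel) (by decide +kernel) (by decide +kernel)) ?_
  refine kids_cons 44 19 rfl rfl (kid_prune (by decide +kernel)) ?_
  refine kids_cons 45 18 rfl rfl (kid_child node1916 (by decide +kernel) (by decide +kernel) (by decide +kernel)) ?_
  refine kids_cons 46 17 rfl rfl (kid_prune (by decide +kernel)) ?_
  refine kids_cons 47 16 rfl rfl (kid_child node1917 (by decide +kernel) (by decide +kernel) (by decide +kernel)) ?_
  refine kids_cons 48 15 rfl rfl (kid_child node1918 (by decide +kernel) (by decide +kernel) (by decide +kernel)) ?_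
  refine kids_cons 49 14 rfl rfl (kid_child node1919 (by decide +kernel) (by decide +kernel) (by decide +kernel)) ?_
  refine kids_cons 50 13 rfl rfl (kid_child node1920 (by decide +kernel) (by decide +kernel) (by decide +kernel)) ?_
  refine kids_cons 51 12 rfl rfl (kid_prune (by decide +kernel)) ?_
  refine kids_cons 52 11 rfl rfl (kid_child node1921 (by decide +kernel) (by decide +kernel) (by decide +kernel)) ?_
  refine kids_cons 53 10 rfl rfl (kid_child node1922 (by decide +kernel) (by decide +kernel) (by decide +kernel)) ?_
  refine kids_cons 54 9 rfl rfl (kid_prune (by decide +kernel)) ?_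
  refine kids_cons 55 8 rfl rfl (kid_child node1923 (by decide +kernel) (by decide +kernel) (by decide +kernel)) ?_
  refine kids_cons 56 7 rfl rfl (kid_prune (by decide +kernel)) ?_
  refine kids_cons 57 6 rfl rfl (kid_child node1924 (by decide +kernel) (by decide +kernel) (by decide +kernel)) ?_
  refine kids_cons 58 5 rfl rfl (kid_child node1925 (by decide +kernel) (by decide +kernel) (by decide +kernel)) ?_
  refine kids_cons 59 4 rfl rfl (kid_child node1926 (by decide +kernel) (by decide +kernel) (by decide +kernel)) ?_
  refine kids_cons 60 3 rfl rfl (kid_child node1927 (by decide +kernel) (by decide +kernel) (by decide +kernel)) ?_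
  refine kids_cons 61 2 rfl rfl (kid_prune (by decide +kernel)) ?_
  refine kids_cons 62 1 rfl rfl (kid_prune (by decide +kernel)) ?_
  refine kids_cons 63 0 rfl rfl (kid_child node1928 (by decide +kernel) (by decide +kernel) (by decide +kernel)) ?_
  exact kids_nil 63

theorem node1945 : dfs 3 [8, 6, 6, 6, 5] 21 120 [1, 5, 6, 30, 2, 10, 3, 15, 4, 20, 24, 120, 8, 40, 12, 60, 2, 10, 12, 60, 4, 20, 6, 30, 2, 10, 12, 60, 4, 20, 6, 30] = true := by
  refine node_of_kids 8 21 (by decide) (by decide) ?_
  refine kids_cons 9 20 rfl rfl (kid_child node1898 (by decide +kernel) (by decide +kernel) (by decide +kernel)) ?_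
  refine kids_cons 10 19 rfl rfl (kid_child node1929 (by decide +kernel) (by decide +kernel) (by decide +kernel)) ?_
  refine kids_cons 11 18 rfl rfl (kid_prune (by decide +kernel)) ?_
  refine kids_cons 12 17 rfl rfl (kid_child node1930 (by decide +kernel) (by decide +kernel) (by decide +kernel)) ?_
  refine kids_cons 13 16 rfl rfl (kid_child node1931 (by decide +kernel) (by decide +kernel) (by decide +kernel)) ?_
  refine kids_cons 14 15 rfl rfl (kid_child node1932 (by decide +kernel) (by decide +kernel) (by decide +kernel)) ?_
  refine kids_cons 15 14 rfl rfl (kid_child node1933 (by decide +kernel) (by decide +kernel) (by decide +kernel)) ?_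
  refine kids_cons 16 13 rfl rfl (kid_prune (by decide +kernel)) ?_
  refine kids_cons 17 12 rfl rfl (kid_child node1934 (by decide +kernel) (by decide +kernel) (by decide +kernel)) ?_
  refine kids_cons 18 11 rfl rfl (kid_child node1935 (by decide +kernel) (by decide +kernel) (by decide +kernel)) ?_
  refine kids_cons 19 10 rfl rfl (kid_child node1936 (by decide +kernel) (by decide +kernel) (by decide +kernel)) ?_
  refine kids_cons 20 9 rfl rfl (kid_child node1937 (by decide +kernel) (by decide +kernel) (by decide +kernel)) ?_
  refine kids_cons 21 8 rfl rfl (kid_prune (by decide +kernel)) ?_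
  refine kids_cons 22 7 rfl rfl (kid_child node1938 (by decide +kernel) (by decide +kernel) (by decide +kernel)) ?_
  refine kids_cons 23 6 rfl rfl (kid_child node1939 (by decide +kernel) (by decide +kernel) (by decide +kernel)) ?_
  refine kids_cons 24 5 rfl rfl (kid_child node1940 (by decide +kernel) (by decide +kernel) (by decide +kernel)) ?_
  refine kids_cons 25 4 rfl rfl (kid_child node1941 (by decide +kernel) (by decide +kernel) (by decide +kernel)) ?_
  refine kids_cons 26 3 rfl rfl (kid_prune (by decide +kernel)) ?_
  refine kids_cons 27 2 rfl rfl (kid_child node1942 (by decide +kernel) (by decide +kernel) (by decide +kernel)) ?_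
  refine kids_cons 28 1 rfl rfl (kid_child node1943 (by decide +kernel) (by decide +kernel) (by decide +kernel)) ?_
  refine kids_cons 29 0 rfl rfl (kid_child node1944 (by decide +kernel) (by decide +kernel) (by decide +kernel)) ?_
  exact kids_nil 29

theorem node1971 : dfs 2 [9, 9, 6, 6, 6, 5] 7 90 [1, 5, 6, 30, 2, 10, 3, 15, 3, 15, 18, 90, 6, 30, 9, 45] = true := by
  refine node_of_kids 13 39 (by decide) (by decide) ?_
  refine kids_cons 14 38 rfl rfl (kid_child node1946 (by decide +kernel) (by decide +kernel) (by decide +kernel)) ?_
  refine kids_cons 15 37 rfl rfl (kid_child node1947 (by decide +kernel) (by decide +kernel) (by decide +kernel)) ?_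
  refine kids_cons 16 36 rfl rfl (kid_prune (by decide +kernel)) ?_
  refine kids_cons 17 35 rfl rfl (kid_child node1948 (by decide +kernel) (by decide +kernel) (by decide +kernel)) ?_
  refine kids_cons 18 34 rfl rfl (kid_prune (by decide +kernel)) ?_
  refine kids_cons 19 33 rfl rfl (kid_child node1949 (by decide +kernel) (by decide +kernel) (by decide +kernel)) ?_
  refine kids_cons 20 32 rfl rfl (kid_child node1950 (by decide +kernel) (by decide +kernel) (by decide +kernel)) ?_
  refine kids_cons 21 31 rfl rfl (kid_prune (by decide +kernel)) ?_
  refine kids_cons 22 30 rfl rfl (kid_child node1951 (by decide +kernel) (by decide +kernel) (by decide +kernel)) ?_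
  refine kids_cons 23 29 rfl rfl (kid_child node1952 (by decide +kernel) (by decide +kernel) (by decide +kernel)) ?_
  refine kids_cons 24 28 rfl rfl (kid_child node1953 (by decide +kernel) (by decide +kernel) (by decide +kernel)) ?_
  refine kids_cons 25 27 rfl rfl (kid_child node1954 (by decide +kernel) (by decide +kernel) (by decide +kernel)) ?_
  refine kids_cons 26 26 rfl rfl (kid_prune (by decide +kernel)) ?_
  refine kids_cons 27 25 rfl rfl (kid_child node1955 (by decide +kernel) (by decide +kernel) (by decide +kernel)) ?_
  refine kids_cons 28 24 rfl rfl (kid_child node1956 (by decide +kernel) (by decide +kernel) (by decide +kernel)) ?_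
  refine kids_cons 29 23 rfl rfl (kid_child node1957 (by decide +kernel) (by decide +kernel) (by decide +kernel)) ?_
  refine kids_cons 30 22 rfl rfl (kid_prune (by decide +kernel)) ?_
  refine kids_cons 31 21 rfl rfl (kid_prune (by decide +kernel)) ?_
  refine kids_cons 32 20 rfl rfl (kid_prune (by decide +kernel)) ?_
  refine kids_cons 33 19 rfl rfl (kid_child node1958 (by decide +kernel) (by decide +kernel) (by decide +kernel)) ?_
  refine kids_cons 34 18 rfl rfl (kid_child node1959 (by decide +kernel) (by decide +kernel) (by decide +kernel)) ?_
  refine kids_cons 35 17 rfl rfl (kid_child node1960 (by decide +kernel) (by decide +kernel) (by decide +kernel)) ?_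
  refine kids_cons 36 16 rfl rfl (kid_prune (by decide +kernel)) ?_
  refine kids_cons 37 15 rfl rfl (kid_child node1961 (by decide +kernel) (by decide +kernel) (by decide +kernel)) ?_
  refine kids_cons 38 14 rfl rfl (kid_prune (by decide +kernel)) ?_
  refine kids_cons 39 13 rfl rfl (kid_child node1962 (by decide +kernel) (by decide +kernel) (by decide +kernel)) ?_
  refine kids_cons 40 12 rfl rfl (kid_child node1963 (by decide +kernel) (by decide +kernel) (by decide +kernel)) ?_
  refine kids_cons 41 11 rfl rfl (kid_prune (by decide +kernel)) ?_
  refine kids_cons 42 10 rfl rfl (kid_prune (by decide +kernel)) ?_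
  refine kids_cons 43 9 rfl rfl (kid_child node1964 (by decide +kernel) (by decide +kernel) (by decide +kernel)) ?_
  refine kids_cons 44 8 rfl rfl (kid_prune (by decide +kernel)) ?_
  refine kids_cons 45 7 rfl rfl (kid_child node1965 (by decide +kernel) (by decide +kernel) (by decide +kernel)) ?_
  refine kids_cons 46 6 rfl rfl (kid_prune (by decide +kernel)) ?_
  refine kids_cons 47 5 rfl rfl (kid_child node1966 (by decide +kernel) (by decide +kernel) (by decide +kernel)) ?_
  refine kids_cons 48 4 rfl rfl (kid_child node1967 (by decide +kernel) (by decide +kernel) (by decide +kernel)) ?_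
  refine kids_cons 49 3 rfl rfl (kid_child node1968 (by decide +kernel) (by decide +kernel) (by decide +kernel)) ?_
  refine kids_cons 50 2 rfl rfl (kid_child node1969 (by decide +kernel) (by decide +kernel) (by decide +kernel)) ?_
  refine kids_cons 51 1 rfl rfl (kid_prune (by decide +kernel)) ?_
  refine kids_cons 52 0 rfl rfl (kid_child node1970 (by decide +kernel) (by decide +kernel) (by decide +kernel)) ?_
  exact kids_nil 52

theorem node1984 : dfs 3 [9, 6, 6, 6, 5] 17 90 [1, 5, 6, 30, 2, 10, 3, 15, 3, 15, 18, 90, 6, 30, 9, 45] = true := by
  refine node_of_kids 9 18 (by decide) (by decide) ?_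
  refine kids_cons 10 17 rfl rfl (kid_child node1971 (by decide +kernel) (by decide +kernel) (by decide +kernel)) ?_
  refine kids_cons 11 16 rfl rfl (kid_prune (by decide +kernel)) ?_
  refine kids_cons 12 15 rfl rfl (kid_child node1972 (by decide +kernel) (by decide +kernel) (by decide +kernel)) ?_
  refine kids_cons 13 14 rfl rfl (kid_child node1973 (by decide +kernel) (by decide +kernel) (by decide +kernel)) ?_
  refine kids_cons 14 13 rfl rfl (kid_child node1974 (by decide +kernel) (by decide +kernel) (by decide +kernel)) ?_
  refine kids_cons 15 12 rfl rfl (kid_child node1975 (by decide +kernel) (by decide +kernel) (by decide +kernel)) ?_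
  refine kids_cons 16 11 rfl rfl (kid_prune (by decide +kernel)) ?_
  refine kids_cons 17 10 rfl rfl (kid_child node1976 (by decide +kernel) (by decide +kernel) (by decide +kernel)) ?_
  refine kids_cons 18 9 rfl rfl (kid_prune (by decide +kernel)) ?_
  refine kids_cons 19 8 rfl rfl (kid_child node1977 (by decide +kernel) (by decide +kernel) (by decide +kernel)) ?_
  refine kids_cons 20 7 rfl rfl (kid_child node1978 (by decide +kernel) (by decide +kernel) (by decide +kernel)) ?_
  refine kids_cons 21 6 rfl rfl (kid_prune (by decide +kernel)) ?_
  refine kids_cons 22 5 rfl rfl (kid_child node1979 (by decide +kernel) (by decide +kernel) (by decide +kernel)) ?_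
  refine kids_cons 23 4 rfl rfl (kid_child node1980 (by decide +kernel) (by decide +kernel) (by decide +kernel)) ?_
  refine kids_cons 24 3 rfl rfl (kid_child node1981 (by decide +kernel) (by decide +kernel) (by decide +kernel)) ?_
  refine kids_cons 25 2 rfl rfl (kid_child node1982 (by decide +kernel) (by decide +kernel) (by decide +kernel)) ?_
  refine kids_cons 26 1 rfl rfl (kid_prune (by decide +kernel)) ?_
  refine kids_cons 27 0 rfl rfl (kid_child node1983 (by decide +kernel) (by decide +kernel) (by decide +kernel)) ?_
  exact kids_nil 27

theorem node1993 : dfs 4 [6, 6, 6, 5] 9 30 [1, 5, 6, 30, 2, 10, 3, 15] = true := by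
  refine node_of_kids 6 15 (by decide) (by decide) ?_
  refine kids_cons 7 14 rfl rfl (kid_child node1687 (by decide +kernel) (by decide +kernel) (by decide +kernel)) ?_
  refine kids_cons 8 13 rfl rfl (kid_child node1897 (by decide +kernel) (by decide +kernel) (by decide +kernel)) ?_
  refine kids_cons 9 12 rfl rfl (kid_child node1945 (by decide +kernel) (by decide +kernel) (by decide +kernel)) ?_
  refine kids_cons 10 11 rfl rfl (kid_child node1984 (by decide +kernel) (by decide +kernel) (by decide +kernel)) ?_
  refine kids_cons 11 10 rfl rfl (kid_prune (by decide +kernel)) ?_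
  refine kids_cons 12 9 rfl rfl (kid_child node1985 (by decide +kernel) (by decide +kernel) (by decide +kernel)) ?_
  refine kids_cons 13 8 rfl rfl (kid_child node1986 (by decide +kernel) (by decide +kernel) (by decide +kernel)) ?_
  refine kids_cons 14 7 rfl rfl (kid_child node1987 (by decide +kernel) (by decide +kernel) (by decide +kernel)) ?_
  refine kids_cons 15 6 rfl rfl (kid_child node1988 (by decide +kernel) (by decide +kernel) (by decide +kernel)) ?_
  refine kids_cons 16 5 rfl rfl (kid_prune (by decide +kernel)) ?_
  refine kids_cons 17 4 rfl rfl (kid_child node1989 (by decide +kernel) (by decide +kernel) (by decide +kernel)) ?_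
  refine kids_cons 18 3 rfl rfl (kid_child node1990 (by decide +kernel) (by decide +kernel) (by decide +kernel)) ?_
  refine kids_cons 19 2 rfl rfl (kid_child node1991 (by decide +kernel) (by decide +kernel) (by decide +kernel)) ?_
  refine kids_cons 20 1 rfl rfl (kid_child node1992 (by decide +kernel) (by decide +kernel) (by decide +kernel)) ?_
  refine kids_cons 21 0 rfl rfl (kid_prune (by decide +kernel)) ?_
  exact kids_nil 21

theorem node2033 : dfs 2 [7, 7, 7, 6, 6, 5] 8 210 [1, 5, 6, 30, 2, 10, 3, 15, 7, 35, 42, 210, 14, 70, 21, 105] = true := by
  refine node_of_kids 27 79 (by decide) (by decide) ?_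
  refine kids_cons 28 78 rfl rfl (kid_child node1994 (by decide +kernel) (by decide +kernel) (by decide +kernel)) ?_
  refine kids_cons 29 77 rfl rfl (kid_prune (by decide +kernel)) ?_
  refine kids_cons 30 76 rfl rfl (kid_prune (by decide +kernel)) ?_
  refine kids_cons 31 75 rfl rfl (kid_prune (by decide +kernel)) ?_
  refine kids_cons 32 74 rfl rfl (kid_prune (by decide +kernel)) ?_
  refine kids_cons 33 73 rfl rfl (kid_child node1995 (by decide +kernel) (by decide +kernel) (by decide +kernel)) ?_
  refine kids_cons 34 72 rfl rfl (kid_child node1996 (by decide +kernel) (by decide +kernel) (by decide +kernel)) ?_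
  refine kids_cons 35 71 rfl rfl (kid_child node1997 (by decide +kernel) (by decide +kernel) (by decide +kernel)) ?_
  refine kids_cons 36 70 rfl rfl (kid_prune (by decide +kernel)) ?_
  refine kids_cons 37 69 rfl rfl (kid_child node1998 (by decide +kernel) (by decide +kernel) (by decide +kernel)) ?_
  refine kids_cons 38 68 rfl rfl (kid_prune (by decide +kernel)) ?_
  refine kids_cons 39 67 rfl rfl (kid_child node1999 (by decide +kernel) (by decide +kernel) (by decide +kernel)) ?_
  refine kids_cons 40 66 rfl rfl (kid_child node2000 (by decide +kernel) (by decide +kernel) (by decide +kernel)) ?_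
  refine kids_cons 41 65 rfl rfl (kid_prune (by decide +kernel)) ?_
  refine kids_cons 42 64 rfl rfl (kid_prune (by decide +kernel)) ?_
  refine kids_cons 43 63 rfl rfl (kid_prune (by decide +kernel)) ?_
  refine kids_cons 44 62 rfl rfl (kid_prune (by decide +kernel)) ?_
  refine kids_cons 45 61 rfl rfl (kid_child node2001 (by decide +kernel) (by decide +kernel) (by decide +kernel)) ?_
  refine kids_cons 46 60 rfl rfl (kid_prune (by decide +kernel)) ?_
  refine kids_cons 47 59 rfl rfl (kid_child node2002 (by decide +kernel) (by decide +kernel) (by decide +kernel)) ?_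
  refine kids_cons 48 58 rfl rfl (kid_child node2003 (by decide +kernel) (by decide +kernel) (by decide +kernel)) ?_
  refine kids_cons 49 57 rfl rfl (kid_child node2004 (by decide +kernel) (by decide +kernel) (by decide +kernel)) ?_
  refine kids_cons 50 56 rfl rfl (kid_prune (by decide +kernel)) ?_
  refine kids_cons 51 55 rfl rfl (kid_prune (by decide +kernel)) ?_
  refine kids_cons 52 54 rfl rfl (kid_child node2005 (by decide +kernel) (by decide +kernel) (by decide +kernel)) ?_
  refine kids_cons 53 53 rfl rfl (kid_child node2006 (by decide +kernel) (by decide +kernel) (by decide +kernel)) ?_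
  refine kids_cons 54 52 rfl rfl (kid_prune (by decide +kernel)) ?_
  refine kids_cons 55 51 rfl rfl (kid_child node2007 (by decide +kernel) (by decide +kernel) (by decide +kernel)) ?_
  refine kids_cons 56 50 rfl rfl (kid_prune (by decide +kernel)) ?_
  refine kids_cons 57 49 rfl rfl (kid_prune (by decide +kernel)) ?_
  refine kids_cons 58 48 rfl rfl (kid_child node2008 (by decide +kernel) (by decide +kernel) (by decide +kernel)) ?_
  refine kids_cons 59 47 rfl rfl (kid_child node2009 (by decide +kernel) (by decide +kernel) (by decide +kernel)) ?_
  refine kids_cons 60 46 rfl rfl (kid_child node2010 (by decide +kernel) (by decide +kernel) (by decide +kernel)) ?_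
  refine kids_cons 61 45 rfl rfl (kid_prune (by decide +kernel)) ?_
  refine kids_cons 62 44 rfl rfl (kid_prune (by decide +kernel)) ?_
  refine kids_cons 63 43 rfl rfl (kid_child node2011 (by decide +kernel) (by decide +kernel) (by decide +kernel)) ?_
  refine kids_cons 64 42 rfl rfl (kid_prune (by decide +kernel)) ?_
  refine kids_cons 65 41 rfl rfl (kid_child node2012 (by decide +kernel) (by decide +kernel) (by decide +kernel)) ?_
  refine kids_cons 66 40 rfl rfl (kid_prune (by decide +kernel)) ?_
  refine kids_cons 67 39 rfl rfl (kid_child node2013 (by decide +kernel) (by decide +kernel) (by decide +kernel)) ?_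
  refine kids_cons 68 38 rfl rfl (kid_prune (by decide +kernel)) ?_
  refine kids_cons 69 37 rfl rfl (kid_child node2014 (by decide +kernel) (by decide +kernel) (by decide +kernel)) ?_
  refine kids_cons 70 36 rfl rfl (kid_child node2015 (by decide +kernel) (by decide +kernel) (by decide +kernel)) ?_
  refine kids_cons 71 35 rfl rfl (kid_prune (by decide +kernel)) ?_
  refine kids_cons 72 34 rfl rfl (kid_prune (by decide +kernel)) ?_
  refine kids_cons 73 33 rfl rfl (kid_child node2016 (by decide +kernel) (by decide +kernel) (by decide +kernel)) ?_
  refine kids_cons 74 32 rfl rfl (kid_prune (by decide +kernel)) ?_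
  refine kids_cons 75 31 rfl rfl (kid_child node2017 (by decide +kernel) (by decide +kernel) (by decide +kernel)) ?_
  refine kids_cons 76 30 rfl rfl (kid_prune (by decide +kernel)) ?_
  refine kids_cons 77 29 rfl rfl (kid_child node2018 (by decide +kernel) (by decide +kernel) (by decide +kernel)) ?_
  refine kids_cons 78 28 rfl rfl (kid_prune (by decide +kernel)) ?_
  refine kids_cons 79 27 rfl rfl (kid_child node2019 (by decide +kernel) (by decide +kernel) (by decide +kernel)) ?_
  refine kids_cons 80 26 rfl rfl (kid_prune (by decide +kernel)) ?_
  refine kids_cons 81 25 rfl rfl (kid_prune (by decide +kernel)) ?_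
  refine kids_cons 82 24 rfl rfl (kid_child node2020 (by decide +kernel) (by decide +kernel) (by decide +kernel)) ?_
  refine kids_cons 83 23 rfl rfl (kid_child node2021 (by decide +kernel) (by decide +kernel) (by decide +kernel)) ?_
  refine kids_cons 84 22 rfl rfl (kid_child node2022 (by decide +kernel) (by decide +kernel) (by decide +kernel)) ?_
  refine kids_cons 85 21 rfl rfl (kid_prune (by decide +kernel)) ?_
  refine kids_cons 86 20 rfl rfl (kid_prune (by decide +kernel)) ?_
  refine kids_cons 87 19 rfl rfl (kid_child node2023 (by decide +kernel) (by decide +kernel) (by decide +kernel)) ?_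
  refine kids_cons 88 18 rfl rfl (kid_child node2024 (by decide +kernel) (by decide +kernel) (by decide +kernel)) ?_
  refine kids_cons 89 17 rfl rfl (kid_child node2025 (by decide +kernel) (by decide +kernel) (by decide +kernel)) ?_
  refine kids_cons 90 16 rfl rfl (kid_prune (by decide +kernel)) ?_
  refine kids_cons 91 15 rfl rfl (kid_prune (by decide +kernel)) ?_
  refine kids_cons 92 14 rfl rfl (kid_prune (by decide +kernel)) ?_
  refine kids_cons 93 13 rfl rfl (kid_child node2026 (by decide +kernel) (by decide +kernel) (by decide +kernel)) ?_
  refine kids_cons 94 12 rfl rfl (kid_child node2027 (by decide +kernel) (by decide +kernel) (by decide +kernel)) ?_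
  refine kids_cons 95 11 rfl rfl (kid_child node2028 (by decide +kernel) (by decide +kernel) (by decide +kernel)) ?_
  refine kids_cons 96 10 rfl rfl (kid_prune (by decide +kernel)) ?_
  refine kids_cons 97 9 rfl rfl (kid_child node2029 (by decide +kernel) (by decide +kernel) (by decide +kernel)) ?_
  refine kids_cons 98 8 rfl rfl (kid_prune (by decide +kernel)) ?_
  refine kids_cons 99 7 rfl rfl (kid_prune (by decide +kernel)) ?_
  refine kids_cons 100 6 rfl rfl (kid_child node2030 (by decide +kernel) (by decide +kernel) (by decide +kernel)) ?_
  refine kids_cons 101 5 rfl rfl (kid_prune (by decide +kernel)) ?_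
  refine kids_cons 102 4 rfl rfl (kid_prune (by decide +kernel)) ?_
  refine kids_cons 103 3 rfl rfl (kid_child node2031 (by decide +kernel) (by decide +kernel) (by decide +kernel)) ?_
  refine kids_cons 104 2 rfl rfl (kid_prune (by decide +kernel)) ?_
  refine kids_cons 105 1 rfl rfl (kid_child node2032 (by decide +kernel) (by decide +kernel) (by decide +kernel)) ?_
  refine kids_cons 106 0 rfl rfl (kid_prune (by decide +kernel)) ?_
  exact kids_nil 106

theorem node2061 : dfs 2 [8, 7, 7, 6, 6, 5] 47 840 [1, 5, 6, 30, 2, 10, 3, 15, 7, 35, 42, 210, 14, 70, 21, 105, 4, 20, 24, 120, 8, 40, 12, 60, 28, 140, 168, 840, 56, 280, 84, 420, 2, 10, 12, 60, 4, 20, 6, 30, 14, 70, 84, 420, 28, 140, 42, 210, 2, 10, 12, 60, 4, 20, 6, 30, 14, 70, 84, 420, 28, 140, 42, 210] = true := by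
  refine node_of_kids 18 54 (by decide) (by decide) ?_
  refine kids_cons 19 53 rfl rfl (kid_child node2034 (by decide +kernel) (by decide +kernel) (by decide +kernel)) ?_
  refine kids_cons 20 52 rfl rfl (kid_prune (by decide +kernel)) ?_
  refine kids_cons 21 51 rfl rfl (kid_prune (by decide +kernel)) ?_
  refine kids_cons 22 50 rfl rfl (kid_prune (by decide +kernel)) ?_
  refine kids_cons 23 49 rfl rfl (kid_child node2035 (by decide +kernel) (by decide +kernel) (by decide +kernel)) ?_
  refine kids_cons 24 48 rfl rfl (kid_child node2036 (by decide +kernel) (by decide +kernel) (by decide +kernel)) ?_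
  refine kids_cons 25 47 rfl rfl (kid_child node2037 (by decide +kernel) (by decide +kernel) (by decide +kernel)) ?_
  refine kids_cons 26 46 rfl rfl (kid_prune (by decide +kernel)) ?_
  refine kids_cons 27 45 rfl rfl (kid_child node2038 (by decide +kernel) (by decide +kernel) (by decide +kernel)) ?_
  refine kids_cons 28 44 rfl rfl (kid_child node2039 (by decide +kernel) (by decide +kernel) (by decide +kernel)) ?_
  refine kids_cons 29 43 rfl rfl (kid_prune (by decide +kernel)) ?_
  refine kids_cons 30 42 rfl rfl (kid_prune (by decide +kernel)) ?_
  refine kids_cons 31 41 rfl rfl (kid_prune (by decide +kernel)) ?_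
  refine kids_cons 32 40 rfl rfl (kid_prune (by decide +kernel)) ?_
  refine kids_cons 33 39 rfl rfl (kid_child node2040 (by decide +kernel) (by decide +kernel) (by decide +kernel)) ?_
  refine kids_cons 34 38 rfl rfl (kid_child node2041 (by decide +kernel) (by decide +kernel) (by decide +kernel)) ?_
  refine kids_cons 35 37 rfl rfl (kid_child node2042 (by decide +kernel) (by decide +kernel) (by decide +kernel)) ?_
  refine kids_cons 36 36 rfl rfl (kid_prune (by decide +kernel)) ?_
  refine kids_cons 37 35 rfl rfl (kid_child node2043 (by decide +kernel) (by decide +kernel) (by decide +kernel)) ?_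
  refine kids_cons 38 34 rfl rfl (kid_prune (by decide +kernel)) ?_
  refine kids_cons 39 33 rfl rfl (kid_child node2044 (by decide +kernel) (by decide +kernel) (by decide +kernel)) ?_
  refine kids_cons 40 32 rfl rfl (kid_child node2045 (by decide +kernel) (by decide +kernel) (by decide +kernel)) ?_
  refine kids_cons 41 31 rfl rfl (kid_prune (by decide +kernel)) ?_
  refine kids_cons 42 30 rfl rfl (kid_prune (by decide +kernel)) ?_
  refine kids_cons 43 29 rfl rfl (kid_prune (by decide +kernel)) ?_
  refine kids_cons 44 28 rfl rfl (kid_prune (by decide +kernel)) ?_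
  refine kids_cons 45 27 rfl rfl (kid_child node2046 (by decide +kernel) (by decide +kernel) (by decide +kernel)) ?_
  refine kids_cons 46 26 rfl rfl (kid_prune (by decide +kernel)) ?_
  refine kids_cons 47 25 rfl rfl (kid_child node2047 (by decide +kernel) (by decide +kernel) (by decide +kernel)) ?_
  refine kids_cons 48 24 rfl rfl (kid_child node2048 (by decide +kernel) (by decide +kernel) (by decide +kernel)) ?_
  refine kids_cons 49 23 rfl rfl (kid_child node2049 (by decide +kernel) (by decide +kernel) (by decide +kernel)) ?_
  refine kids_cons 50 22 rfl rfl (kid_prune (by decide +kernel)) ?_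
  refine kids_cons 51 21 rfl rfl (kid_prune (by decide +kernel)) ?_
  refine kids_cons 52 20 rfl rfl (kid_child node2050 (by decide +kernel) (by decide +kernel) (by decide +kernel)) ?_
  refine kids_cons 53 19 rfl rfl (kid_child node2051 (by decide +kernel) (by decide +kernel) (by decide +kernel)) ?_
  refine kids_cons 54 18 rfl rfl (kid_prune (by decide +kernel)) ?_
  refine kids_cons 55 17 rfl rfl (kid_child node2052 (by decide +kernel) (by decide +kernel) (by decide +kernel)) ?_
  refine kids_cons 56 16 rfl rfl (kid_prune (by decide +kernel)) ?_
  refine kids_cons 57 15 rfl rfl (kid_prune (by decide +kernel)) ?_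
  refine kids_cons 58 14 rfl rfl (kid_child node2053 (by decide +kernel) (by decide +kernel) (by decide +kernel)) ?_
  refine kids_cons 59 13 rfl rfl (kid_child node2054 (by decide +kernel) (by decide +kernel) (by decide +kernel)) ?_
  refine kids_cons 60 12 rfl rfl (kid_child node2055 (by decide +kernel) (by decide +kernel) (by decide +kernel)) ?_
  refine kids_cons 61 11 rfl rfl (kid_prune (by decide +kernel)) ?_
  refine kids_cons 62 10 rfl rfl (kid_prune (by decide +kernel)) ?_
  refine kids_cons 63 9 rfl rfl (kid_child node2056 (by decide +kernel) (by decide +kernel) (by decide +kernel)) ?_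
  refine kids_cons 64 8 rfl rfl (kid_prune (by decide +kernel)) ?_
  refine kids_cons 65 7 rfl rfl (kid_child node2057 (by decide +kernel) (by decide +kernel) (by decide +kernel)) ?_
  refine kids_cons 66 6 rfl rfl (kid_prune (by decide +kernel)) ?_
  refine kids_cons 67 5 rfl rfl (kid_child node2058 (by decide +kernel) (by decide +kernel) (by decide +kernel)) ?_
  refine kids_cons 68 4 rfl rfl (kid_prune (by decide +kernel)) ?_
  refine kids_cons 69 3 rfl rfl (kid_child node2059 (by decide +kernel) (by decide +kernel) (by decide +kernel)) ?_
  refine kids_cons 70 2 rfl rfl (kid_child node2060 (by decide +kernel) (by decide +kernel) (by decide +kernel)) ?_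
  refine kids_cons 71 1 rfl rfl (kid_prune (by decide +kernel)) ?_
  refine kids_cons 72 0 rfl rfl (kid_prune (by decide +kernel)) ?_
  exact kids_nil 72

theorem node2074 : dfs 3 [7, 7, 6, 6, 5] 38 210 [1, 5, 6, 30, 2, 10, 3, 15, 7, 35, 42, 210, 14, 70, 21, 105] = true := by
  refine node_of_kids 7 21 (by decide) (by decide) ?_
  refine kids_cons 8 20 rfl rfl (kid_child node2033 (by decide +kernel) (by decide +kernel) (by decide +kernel)) ?_
  refine kids_cons 9 19 rfl rfl (kid_child node2061 (by decide +kernel) (by decide +kernel) (by decide +kernel)) ?_
  refine kids_cons 10 18 rfl rfl (kid_child node2062 (by decide +kernel) (by decide +kernel) (by decide +kernel)) ?_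
  refine kids_cons 11 17 rfl rfl (kid_prune (by decide +kernel)) ?_
  refine kids_cons 12 16 rfl rfl (kid_child node2063 (by decide +kernel) (by decide +kernel) (by decide +kernel)) ?_
  refine kids_cons 13 15 rfl rfl (kid_child node2064 (by decide +kernel) (by decide +kernel) (by decide +kernel)) ?_
  refine kids_cons 14 14 rfl rfl (kid_child node2065 (by decide +kernel) (by decide +kernel) (by decide +kernel)) ?_
  refine kids_cons 15 13 rfl rfl (kid_prune (by decide +kernel)) ?_
  refine kids_cons 16 12 rfl rfl (kid_prune (by decide +kernel)) ?_
  refine kids_cons 17 11 rfl rfl (kid_child node2066 (by decide +kernel) (by decide +kernel) (by decide +kernel)) ?_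
  refine kids_cons 18 10 rfl rfl (kid_prune (by decide +kernel)) ?_
  refine kids_cons 19 9 rfl rfl (kid_child node2067 (by decide +kernel) (by decide +kernel) (by decide +kernel)) ?_
  refine kids_cons 20 8 rfl rfl (kid_child node2068 (by decide +kernel) (by decide +kernel) (by decide +kernel)) ?_
  refine kids_cons 21 7 rfl rfl (kid_prune (by decide +kernel)) ?_
  refine kids_cons 22 6 rfl rfl (kid_prune (by decide +kernel)) ?_
  refine kids_cons 23 5 rfl rfl (kid_child node2069 (by decide +kernel) (by decide +kernel) (by decide +kernel)) ?_
  refine kids_cons 24 4 rfl rfl (kid_child node2070 (by decide +kernel) (by decide +kernel) (by decide +kernel)) ?_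
  refine kids_cons 25 3 rfl rfl (kid_child node2071 (by decide +kernel) (by decide +kernel) (by decide +kernel)) ?_
  refine kids_cons 26 2 rfl rfl (kid_prune (by decide +kernel)) ?_
  refine kids_cons 27 1 rfl rfl (kid_child node2072 (by decide +kernel) (by decide +kernel) (by decide +kernel)) ?_
  refine kids_cons 28 0 rfl rfl (kid_child node2073 (by decide +kernel) (by decide +kernel) (by decide +kernel)) ?_
  exact kids_nil 28

theorem node2087 : dfs 3 [8, 7, 6, 6, 5] 167 840 [1, 5, 6, 30, 2, 10, 3, 15, 7, 35, 42, 210, 14, 70, 21, 105, 4, 20, 24, 120, 8, 40, 12, 60, 28, 140, 168, 840, 56, 280, 84, 420, 2, 10, 12, 60, 4, 20, 6, 30, 14, 70, 84, 420, 28, 140, 42, 210, 2, 10, 12, 60, 4, 20, 6, 30, 14, 70, 84, 420, 28, 140, 42, 210] = true := by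
  refine node_of_kids 8 18 (by decide) (by decide) ?_
  refine kids_cons 9 17 rfl rfl (kid_child node2075 (by decide +kernel) (by decide +kernel) (by decide +kernel)) ?_
  refine kids_cons 10 16 rfl rfl (kid_child node2076 (by decide +kernel) (by decide +kernel) (by decide +kernel)) ?_
  refine kids_cons 11 15 rfl rfl (kid_prune (by decide +kernel)) ?_
  refine kids_cons 12 14 rfl rfl (kid_child node2077 (by decide +kernel) (by decide +kernel) (by decide +kernel)) ?_
  refine kids_cons 13 13 rfl rfl (kid_child node2078 (by decide +kernel) (by decide +kernel) (by decide +kernel)) ?_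
  refine kids_cons 14 12 rfl rfl (kid_child node2079 (by decide +kernel) (by decide +kernel) (by decide +kernel)) ?_
  refine kids_cons 15 11 rfl rfl (kid_prune (by decide +kernel)) ?_
  refine kids_cons 16 10 rfl rfl (kid_prune (by decide +kernel)) ?_
  refine kids_cons 17 9 rfl rfl (kid_child node2080 (by decide +kernel) (by decide +kernel) (by decide +kernel)) ?_
  refine kids_cons 18 8 rfl rfl (kid_child node2081 (by decide +kernel) (by decide +kernel) (by decide +kernel)) ?_
  refine kids_cons 19 7 rfl rfl (kid_child node2082 (by decide +kernel) (by decide +kernel) (by decide +kernel)) ?_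
  refine kids_cons 20 6 rfl rfl (kid_child node2083 (by decide +kernel) (by decide +kernel) (by decide +kernel)) ?_
  refine kids_cons 21 5 rfl rfl (kid_prune (by decide +kernel)) ?_
  refine kids_cons 22 4 rfl rfl (kid_prune (by decide +kernel)) ?_
  refine kids_cons 23 3 rfl rfl (kid_child node2084 (by decide +kernel) (by decide +kernel) (by decide +kernel)) ?_
  refine kids_cons 24 2 rfl rfl (kid_child node2085 (by decide +kernel) (by decide +kernel) (by decide +kernel)) ?_
  refine kids_cons 25 1 rfl rfl (kid_child node2086 (by decide +kernel) (by decide +kernel) (by decide +kernel)) ?_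
  refine kids_cons 26 0 rfl rfl (kid_prune (by decide +kernel)) ?_
  exact kids_nil 26

theorem node2095 : dfs 4 [7, 6, 6, 5] 68 210 [1, 5, 6, 30, 2, 10, 3, 15, 7, 35, 42, 210, 14, 70, 21, 105] = true := by
  refine node_of_kids 7 12 (by decide) (by decide) ?_
  refine kids_cons 8 11 rfl rfl (kid_child node2074 (by decide +kernel) (by decide +kernel) (by decide +kernel)) ?_
  refine kids_cons 9 10 rfl rfl (kid_child node2087 (by decide +kernel) (by decide +kernel) (by decide +kernel)) ?_
  refine kids_cons 10 9 rfl rfl (kid_child node2088 (by decide +kernel) (by decide +kernel) (by decide +kernel)) ?_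
  refine kids_cons 11 8 rfl rfl (kid_prune (by decide +kernel)) ?_
  refine kids_cons 12 7 rfl rfl (kid_child node2089 (by decide +kernel) (by decide +kernel) (by decide +kernel)) ?_
  refine kids_cons 13 6 rfl rfl (kid_child node2090 (by decide +kernel) (by decide +kernel) (by decide +kernel)) ?_
  refine kids_cons 14 5 rfl rfl (kid_child node2091 (by decide +kernel) (by decide +kernel) (by decide +kernel)) ?_
  refine kids_cons 15 4 rfl rfl (kid_prune (by decide +kernel)) ?_
  refine kids_cons 16 3 rfl rfl (kid_prune (by decide +kernel)) ?_
  refine kids_cons 17 2 rfl rfl (kid_child node2092 (by decide +kernel) (by decide +kernel) (by decide +kernel)) ?_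
  refine kids_cons 18 1 rfl rfl (kid_child node2093 (by decide +kernel) (by decide +kernel) (by decide +kernel)) ?_
  refine kids_cons 19 0 rfl rfl (kid_child node2094 (by decide +kernel) (by decide +kernel) (by decide +kernel)) ?_
  exact kids_nil 19

theorem node2117 : dfs 2 [8, 8, 8, 6, 6, 5] 11 120 [1, 5, 6, 30, 2, 10, 3, 15, 4, 20, 24, 120, 8, 40, 12, 60, 2, 10, 12, 60, 4, 20, 6, 30, 2, 10, 12, 60, 4, 20, 6, 30] = true := by
  refine node_of_kids 11 33 (by decide) (by decide) ?_
  refine kids_cons 12 32 rfl rfl (kid_child node2096 (by decide +kernel) (by decide +kernel) (by decide +kernel)) ?_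
  refine kids_cons 13 31 rfl rfl (kid_child node2097 (by decide +kernel) (by decide +kernel) (by decide +kernel)) ?_
  refine kids_cons 14 30 rfl rfl (kid_child node2098 (by decide +kernel) (by decide +kernel) (by decide +kernel)) ?_
  refine kids_cons 15 29 rfl rfl (kid_child node2099 (by decide +kernel) (by decide +kernel) (by decide +kernel)) ?_
  refine kids_cons 16 28 rfl rfl (kid_prune (by decide +kernel)) ?_
  refine kids_cons 17 27 rfl rfl (kid_child node2100 (by decide +kernel) (by decide +kernel) (by decide +kernel)) ?_
  refine kids_cons 18 26 rfl rfl (kid_child node2101 (by decide +kernel) (by decide +kernel) (by decide +kernel)) ?_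
  refine kids_cons 19 25 rfl rfl (kid_child node2102 (by decide +kernel) (by decide +kernel) (by decide +kernel)) ?_
  refine kids_cons 20 24 rfl rfl (kid_prune (by decide +kernel)) ?_
  refine kids_cons 21 23 rfl rfl (kid_prune (by decide +kernel)) ?_
  refine kids_cons 22 22 rfl rfl (kid_child node2103 (by decide +kernel) (by decide +kernel) (by decide +kernel)) ?_
  refine kids_cons 23 21 rfl rfl (kid_child node2104 (by decide +kernel) (by decide +kernel) (by decide +kernel)) ?_
  refine kids_cons 24 20 rfl rfl (kid_child node2105 (by decide +kernel) (by decide +kernel) (by decide +kernel)) ?_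
  refine kids_cons 25 19 rfl rfl (kid_child node2106 (by decide +kernel) (by decide +kernel) (by decide +kernel)) ?_
  refine kids_cons 26 18 rfl rfl (kid_prune (by decide +kernel)) ?_
  refine kids_cons 27 17 rfl rfl (kid_child node2107 (by decide +kernel) (by decide +kernel) (by decide +kernel)) ?_
  refine kids_cons 28 16 rfl rfl (kid_child node2108 (by decide +kernel) (by decide +kernel) (by decide +kernel)) ?_
  refine kids_cons 29 15 rfl rfl (kid_child node2109 (by decide +kernel) (by decide +kernel) (by decide +kernel)) ?_
  refine kids_cons 30 14 rfl rfl (kid_prune (by decide +kernel)) ?_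
  refine kids_cons 31 13 rfl rfl (kid_prune (by decide +kernel)) ?_
  refine kids_cons 32 12 rfl rfl (kid_prune (by decide +kernel)) ?_
  refine kids_cons 33 11 rfl rfl (kid_child node2110 (by decide +kernel) (by decide +kernel) (by decide +kernel)) ?_
  refine kids_cons 34 10 rfl rfl (kid_child node2111 (by decide +kernel) (by decide +kernel) (by decide +kernel)) ?_
  refine kids_cons 35 9 rfl rfl (kid_child node2112 (by decide +kernel) (by decide +kernel) (by decide +kernel)) ?_
  refine kids_cons 36 8 rfl rfl (kid_prune (by decide +kernel)) ?_
  refine kids_cons 37 7 rfl rfl (kid_child node2113 (by decide +kernel) (by decide +kernel) (by decide +kernel)) ?_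
  refine kids_cons 38 6 rfl rfl (kid_prune (by decide +kernel)) ?_
  refine kids_cons 39 5 rfl rfl (kid_child node2114 (by decide +kernel) (by decide +kernel) (by decide +kernel)) ?_
  refine kids_cons 40 4 rfl rfl (kid_child node2115 (by decide +kernel) (by decide +kernel) (by decide +kernel)) ?_
  refine kids_cons 41 3 rfl rfl (kid_prune (by decide +kernel)) ?_
  refine kids_cons 42 2 rfl rfl (kid_prune (by decide +kernel)) ?_
  refine kids_cons 43 1 rfl rfl (kid_child node2116 (by decide +kernel) (by decide +kernel) (by decide +kernel)) ?_
  refine kids_cons 44 0 rfl rfl (kid_prune (by decide +kernel)) ?_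
  exact kids_nil 44

theorem node2130 : dfs 3 [8, 8, 6, 6, 5] 26 120 [1, 5, 6, 30, 2, 10, 3, 15, 4, 20, 24, 120, 8, 40, 12, 60, 2, 10, 12, 60, 4, 20, 6, 30, 2, 10, 12, 60, 4, 20, 6, 30] = true := by
  refine node_of_kids 8 16 (by decide) (by decide) ?_
  refine kids_cons 9 15 rfl rfl (kid_child node2117 (by decide +kernel) (by decide +kernel) (by decide +kernel)) ?_
  refine kids_cons 10 14 rfl rfl (kid_child node2118 (by decide +kernel) (by decide +kernel) (by decide +kernel)) ?_
  refine kids_cons 11 13 rfl rfl (kid_prune (by decide +kernel)) ?_
  refine kids_cons 12 12 rfl rfl (kid_child node2119 (by decide +kernel) (by decide +kernel) (by decide +kernel)) ?_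
  refine kids_cons 13 11 rfl rfl (kid_child node2120 (by decide +kernel) (by decide +kernel) (by decide +kernel)) ?_
  refine kids_cons 14 10 rfl rfl (kid_child node2121 (by decide +kernel) (by decide +kernel) (by decide +kernel)) ?_
  refine kids_cons 15 9 rfl rfl (kid_child node2122 (by decide +kernel) (by decide +kernel) (by decide +kernel)) ?_
  refine kids_cons 16 8 rfl rfl (kid_prune (by decide +kernel)) ?_
  refine kids_cons 17 7 rfl rfl (kid_child node2123 (by decide +kernel) (by decide +kernel) (by decide +kernel)) ?_
  refine kids_cons 18 6 rfl rfl (kid_child node2124 (by decide +kernel) (by decide +kernel) (by decide +kernel)) ?_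
  refine kids_cons 19 5 rfl rfl (kid_child node2125 (by decide +kernel) (by decide +kernel) (by decide +kernel)) ?_
  refine kids_cons 20 4 rfl rfl (kid_child node2126 (by decide +kernel) (by decide +kernel) (by decide +kernel)) ?_
  refine kids_cons 21 3 rfl rfl (kid_prune (by decide +kernel)) ?_
  refine kids_cons 22 2 rfl rfl (kid_child node2127 (by decide +kernel) (by decide +kernel) (by decide +kernel)) ?_
  refine kids_cons 23 1 rfl rfl (kid_child node2128 (by decide +kernel) (by decide +kernel) (by decide +kernel)) ?_
  refine kids_cons 24 0 rfl rfl (kid_child node2129 (by decide +kernel) (by decide +kernel) (by decide +kernel)) ?_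
  exact kids_nil 24

theorem node2138 : dfs 4 [8, 6, 6, 5] 41 120 [1, 5, 6, 30, 2, 10, 3, 15, 4, 20, 24, 120, 8, 40, 12, 60, 2, 10, 12, 60, 4, 20, 6, 30, 2, 10, 12, 60, 4, 20, 6, 30] = true := by
  refine node_of_kids 8 10 (by decide) (by decide) ?_
  refine kids_cons 9 9 rfl rfl (kid_child node2130 (by decide +kernel) (by decide +kernel) (by decide +kernel)) ?_
  refine kids_cons 10 8 rfl rfl (kid_child node2131 (by decide +kernel) (by decide +kernel) (by decide +kernel)) ?_
  refine kids_cons 11 7 rfl rfl (kid_prune (by decide +kernel)) ?_
  refine kids_cons 12 6 rfl rfl (kid_child node2132 (by decide +kernel) (by decide +kernel) (by decide +kernel)) ?_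
  refine kids_cons 13 5 rfl rfl (kid_child node2133 (by decide +kernel) (by decide +kernel) (by decide +kernel)) ?_
  refine kids_cons 14 4 rfl rfl (kid_child node2134 (by decide +kernel) (by decide +kernel) (by decide +kernel)) ?_
  refine kids_cons 15 3 rfl rfl (kid_child node2135 (by decide +kernel) (by decide +kernel) (by decide +kernel)) ?_
  refine kids_cons 16 2 rfl rfl (kid_prune (by decide +kernel)) ?_
  refine kids_cons 17 1 rfl rfl (kid_child node2136 (by decide +kernel) (by decide +kernel) (by decide +kernel)) ?_
  refine kids_cons 18 0 rfl rfl (kid_child node2137 (by decide +kernel) (by decide +kernel) (by decide +kernel)) ?_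
  exact kids_nil 18

theorem node2144 : dfs 5 [6, 6, 5] 14 30 [1, 5, 6, 30, 2, 10, 3, 15] = true := by
  refine node_of_kids 6 10 (by decide) (by decide) ?_
  refine kids_cons 7 9 rfl rfl (kid_child node1993 (by decide +kernel) (by decide +kernel) (by decide +kernel)) ?_
  refine kids_cons 8 8 rfl rfl (kid_child node2095 (by decide +kernel) (by decide +kernel) (by decide +kernel)) ?_
  refine kids_cons 9 7 rfl rfl (kid_child node2138 (by decide +kernel) (by decide +kernel) (by decide +kernel)) ?_
  refine kids_cons 10 6 rfl rfl (kid_child node2139 (by decide +kernel) (by decide +kernel) (by decide +kernel)) ?_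
  refine kids_cons 11 5 rfl rfl (kid_prune (by decide +kernel)) ?_
  refine kids_cons 12 4 rfl rfl (kid_child node2140 (by decide +kernel) (by decide +kernel) (by decide +kernel)) ?_
  refine kids_cons 13 3 rfl rfl (kid_child node2141 (by decide +kernel) (by decide +kernel) (by decide +kernel)) ?_
  refine kids_cons 14 2 rfl rfl (kid_child node2142 (by decide +kernel) (by decide +kernel) (by decide +kernel)) ?_
  refine kids_cons 15 1 rfl rfl (kid_child node2143 (by decide +kernel) (by decide +kernel) (by decide +kernel)) ?_
  refine kids_cons 16 0 rfl rfl (kid_prune (by decide +kernel)) ?_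
  exact kids_nil 16

theorem node2153 : dfs 4 [7, 7, 6, 5] 73 210 [1, 5, 6, 30, 2, 10, 3, 15, 7, 35, 42, 210, 14, 70, 21, 105] = true := by
  refine node_of_kids 7 11 (by decide) (by decide) ?_
  refine kids_cons 8 10 rfl rfl (kid_child node2145 (by decide +kernel) (by decide +kernel) (by decide +kernel)) ?_
  refine kids_cons 9 9 rfl rfl (kid_child node2146 (by decide +kernel) (by decide +kernel) (by decide +kernel)) ?_
  refine kids_cons 10 8 rfl rfl (kid_child node2147 (by decide +kernel) (by decide +kernel) (by decide +kernel)) ?_
  refine kids_cons 11 7 rfl rfl (kid_prune (by decide +kernel)) ?_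
  refine kids_cons 12 6 rfl rfl (kid_child node2148 (by decide +kernel) (by decide +kernel) (by decide +kernel)) ?_
  refine kids_cons 13 5 rfl rfl (kid_child node2149 (by decide +kernel) (by decide +kernel) (by decide +kernel)) ?_
  refine kids_cons 14 4 rfl rfl (kid_child node2150 (by decide +kernel) (by decide +kernel) (by decide +kernel)) ?_
  refine kids_cons 15 3 rfl rfl (kid_prune (by decide +kernel)) ?_
  refine kids_cons 16 2 rfl rfl (kid_prune (by decide +kernel)) ?_
  refine kids_cons 17 1 rfl rfl (kid_child node2151 (by decide +kernel) (by decide +kernel) (by decide +kernel)) ?_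
  refine kids_cons 18 0 rfl rfl (kid_child node2152 (by decide +kernel) (by decide +kernel) (by decide +kernel)) ?_
  exact kids_nil 18

theorem node2159 : dfs 5 [7, 6, 5] 103 210 [1, 5, 6, 30, 2, 10, 3, 15, 7, 35, 42, 210, 14, 70, 21, 105] = true := by
  refine node_of_kids 7 8 (by decide) (by decide) ?_
  refine kids_cons 8 7 rfl rfl (kid_child node2153 (by decide +kernel) (by decide +kernel) (by decide +kernel)) ?_
  refine kids_cons 9 6 rfl rfl (kid_child node2154 (by decide +kernel) (by decide +kernel) (by decide +kernel)) ?_
  refine kids_cons 10 5 rfl rfl (kid_child node2155 (by decide +kernel) (by decide +kernel) (by decide +kernel)) ?_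
  refine kids_cons 11 4 rfl rfl (kid_prune (by decide +kernel)) ?_
  refine kids_cons 12 3 rfl rfl (kid_child node2156 (by decide +kernel) (by decide +kernel) (by decide +kernel)) ?_
  refine kids_cons 13 2 rfl rfl (kid_child node2157 (by decide +kernel) (by decide +kernel) (by decide +kernel)) ?_
  refine kids_cons 14 1 rfl rfl (kid_child node2158 (by decide +kernel) (by decide +kernel) (by decide +kernel)) ?_
  refine kids_cons 15 0 rfl rfl (kid_prune (by decide +kernel)) ?_
  exact kids_nil 15

theorem node2164 : dfs 6 [6, 5] 19 30 [1, 5, 6, 30, 2, 10, 3, 15] = true := by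
  refine node_of_kids 6 7 (by decide) (by decide) ?_
  refine kids_cons 7 6 rfl rfl (kid_child node2144 (by decide +kernel) (by decide +kernel) (by decide +kernel)) ?_
  refine kids_cons 8 5 rfl rfl (kid_child node2159 (by decide +kernel) (by decide +kernel) (by decide +kernel)) ?_
  refine kids_cons 9 4 rfl rfl (kid_child node2160 (by decide +kernel) (by decide +kernel) (by decide +kernel)) ?_
  refine kids_cons 10 3 rfl rfl (kid_child node2161 (by decide +kernel) (by decide +kernel) (by decide +kernel)) ?_
  refine kids_cons 11 2 rfl rfl (kid_prune (by decide +kernel)) ?_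
  refine kids_cons 12 1 rfl rfl (kid_child node2162 (by decide +kernel) (by decide +kernel) (by decide +kernel)) ?_
  refine kids_cons 13 0 rfl rfl (kid_child node2163 (by decide +kernel) (by decide +kernel) (by decide +kernel)) ?_
  exact kids_nil 13

theorem node2171 : dfs 5 [7, 7, 5] 18 35 [1, 5, 7, 35] = true := by
  refine node_of_kids 7 7 (by decide) (by decide) ?_
  refine kids_cons 8 6 rfl rfl (kid_child node2165 (by decide +kernel) (by decide +kernel) (by decide +kernel)) ?_
  refine kids_cons 9 5 rfl rfl (kid_child node2166 (by decide +kernel) (by decide +kernel) (by decide +kernel)) ?_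
  refine kids_cons 10 4 rfl rfl (kid_child node2167 (by decide +kernel) (by decide +kernel) (by decide +kernel)) ?_
  refine kids_cons 11 3 rfl rfl (kid_prune (by decide +kernel)) ?_
  refine kids_cons 12 2 rfl rfl (kid_child node2168 (by decide +kernel) (by decide +kernel) (by decide +kernel)) ?_
  refine kids_cons 13 1 rfl rfl (kid_child node2169 (by decide +kernel) (by decide +kernel) (by decide +kernel)) ?_
  refine kids_cons 14 0 rfl rfl (kid_child node2170 (by decide +kernel) (by decide +kernel) (by decide +kernel)) ?_
  exact kids_nil 14

theorem node2176 : dfs 6 [7, 5] 23 35 [1, 5, 7, 35] = true := by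
  refine node_of_kids 7 6 (by decide) (by decide) ?_
  refine kids_cons 8 5 rfl rfl (kid_child node2171 (by decide +kernel) (by decide +kernel) (by decide +kernel)) ?_
  refine kids_cons 9 4 rfl rfl (kid_child node2172 (by decide +kernel) (by decide +kernel) (by decide +kernel)) ?_
  refine kids_cons 10 3 rfl rfl (kid_child node2173 (by decide +kernel) (by decide +kernel) (by decide +kernel)) ?_
  refine kids_cons 11 2 rfl rfl (kid_prune (by decide +kernel)) ?_
  refine kids_cons 12 1 rfl rfl (kid_child node2174 (by decide +kernel) (by decide +kernel) (by decide +kernel)) ?_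
  refine kids_cons 13 0 rfl rfl (kid_child node2175 (by decide +kernel) (by decide +kernel) (by decide +kernel)) ?_
  exact kids_nil 13

theorem node2180 : dfs 7 [5] 4 5 [1, 5] = true := by
  refine node_of_kids 5 7 (by decide) (by decide) ?_
  refine kids_cons 6 6 rfl rfl (kid_child node1344 (by decide +kernel) (by decide +kernel) (by decide +kernel)) ?_
  refine kids_cons 7 5 rfl rfl (kid_child node2164 (by decide +kernel) (by decide +kernel) (by decide +kernel)) ?_
  refine kids_cons 8 4 rfl rfl (kid_child node2176 (by decide +kernel) (by decide +kernel) (by decide +kernel)) ?_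
  refine kids_cons 9 3 rfl rfl (kid_child node2177 (by decide +kernel) (by decide +kernel) (by decide +kernel)) ?_
  refine kids_cons 10 2 rfl rfl (kid_child node2178 (by decide +kernel) (by decide +kernel) (by decide +kernel)) ?_
  refine kids_cons 11 1 rfl rfl (kid_prune (by decide +kernel)) ?_
  refine kids_cons 12 0 rfl rfl (kid_child node2179 (by decide +kernel) (by decide +kernel) (by decide +kernel)) ?_
  exact kids_nil 12

theorem node2268 : dfs 2 [7, 6, 6, 6, 6, 6] 1 42 [1, 6, 2, 3, 7, 42, 14, 21] = true := by
  refine node_of_kids 43 126 (by decide) (by decide) ?_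
  refine kids_cons 44 125 rfl rfl (kid_prune (by decide +kernel)) ?_
  refine kids_cons 45 124 rfl rfl (kid_child node2181 (by decide +kernel) (by decide +kernel) (by decide +kernel)) ?_
  refine kids_cons 46 123 rfl rfl (kid_child node2182 (by decide +kernel) (by decide +kernel) (by decide +kernel)) ?_
  refine kids_cons 47 122 rfl rfl (kid_child node2183 (by decide +kernel) (by decide +kernel) (by decide +kernel)) ?_
  refine kids_cons 48 121 rfl rfl (kid_child node2184 (by decide +kernel) (by decide +kernel) (by decide +kernel)) ?_
  refine kids_cons 49 120 rfl rfl (kid_child node2185 (by decide +kernel) (by decide +kernel) (by decide +kernel)) ?_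
  refine kids_cons 50 119 rfl rfl (kid_prune (by decide +kernel)) ?_
  refine kids_cons 51 118 rfl rfl (kid_child node2186 (by decide +kernel) (by decide +kernel) (by decide +kernel)) ?_
  refine kids_cons 52 117 rfl rfl (kid_child node2187 (by decide +kernel) (by decide +kernel) (by decide +kernel)) ?_
  refine kids_cons 53 116 rfl rfl (kid_child node2188 (by decide +kernel) (by decide +kernel) (by decide +kernel)) ?_
  refine kids_cons 54 115 rfl rfl (kid_prune (by decide +kernel)) ?_
  refine kids_cons 55 114 rfl rfl (kid_child node2189 (by decide +kernel) (by decide +kernel) (by decide +kernel)) ?_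
  refine kids_cons 56 113 rfl rfl (kid_child node2190 (by decide +kernel) (by decide +kernel) (by decide +kernel)) ?_
  refine kids_cons 57 112 rfl rfl (kid_prune (by decide +kernel)) ?_
  refine kids_cons 58 111 rfl rfl (kid_child node2191 (by decide +kernel) (by decide +kernel) (by decide +kernel)) ?_
  refine kids_cons 59 110 rfl rfl (kid_child node2192 (by decide +kernel) (by decide +kernel) (by decide +kernel)) ?_
  refine kids_cons 60 109 rfl rfl (kid_child node2193 (by decide +kernel) (by decide +kernel) (by decide +kernel)) ?_
  refine kids_cons 61 108 rfl rfl (kid_child node2194 (by decide +kernel) (by decide +kernel) (by decide +kernel)) ?_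
  refine kids_cons 62 107 rfl rfl (kid_prune (by decide +kernel)) ?_
  refine kids_cons 63 106 rfl rfl (kid_child node2195 (by decide +kernel) (by decide +kernel) (by decide +kernel)) ?_
  refine kids_cons 64 105 rfl rfl (kid_prune (by decide +kernel)) ?_
  refine kids_cons 65 104 rfl rfl (kid_child node2196 (by decide +kernel) (by decide +kernel) (by decide +kernel)) ?_
  refine kids_cons 66 103 rfl rfl (kid_child node2197 (by decide +kernel) (by decide +kernel) (by decide +kernel)) ?_
  refine kids_cons 67 102 rfl rfl (kid_child node2198 (by decide +kernel) (by decide +kernel) (by decide +kernel)) ?_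
  refine kids_cons 68 101 rfl rfl (kid_prune (by decide +kernel)) ?_
  refine kids_cons 69 100 rfl rfl (kid_child node2199 (by decide +kernel) (by decide +kernel) (by decide +kernel)) ?_
  refine kids_cons 70 99 rfl rfl (kid_child node2200 (by decide +kernel) (by decide +kernel) (by decide +kernel)) ?_
  refine kids_cons 71 98 rfl rfl (kid_prune (by decide +kernel)) ?_
  refine kids_cons 72 97 rfl rfl (kid_prune (by decide +kernel)) ?_
  refine kids_cons 73 96 rfl rfl (kid_child node2201 (by decide +kernel) (by decide +kernel) (by decide +kernel)) ?_
  refine kids_cons 74 95 rfl rfl (kid_prune (by decide +kernel)) ?_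
  refine kids_cons 75 94 rfl rfl (kid_child node2202 (by decide +kernel) (by decide +kernel) (by decide +kernel)) ?_
  refine kids_cons 76 93 rfl rfl (kid_child node2203 (by decide +kernel) (by decide +kernel) (by decide +kernel)) ?_
  refine kids_cons 77 92 rfl rfl (kid_child node2204 (by decide +kernel) (by decide +kernel) (by decide +kernel)) ?_
  refine kids_cons 78 91 rfl rfl (kid_prune (by decide +kernel)) ?_
  refine kids_cons 79 90 rfl rfl (kid_child node2205 (by decide +kernel) (by decide +kernel) (by decide +kernel)) ?_
  refine kids_cons 80 89 rfl rfl (kid_prune (by decide +kernel)) ?_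
  refine kids_cons 81 88 rfl rfl (kid_child node2206 (by decide +kernel) (by decide +kernel) (by decide +kernel)) ?_
  refine kids_cons 82 87 rfl rfl (kid_child node2207 (by decide +kernel) (by decide +kernel) (by decide +kernel)) ?_
  refine kids_cons 83 86 rfl rfl (kid_child node2208 (by decide +kernel) (by decide +kernel) (by decide +kernel)) ?_
  refine kids_cons 84 85 rfl rfl (kid_child node2209 (by decide +kernel) (by decide +kernel) (by decide +kernel)) ?_
  refine kids_cons 85 84 rfl rfl (kid_prune (by decide +kernel)) ?_
  refine kids_cons 86 83 rfl rfl (kid_child node2210 (by decide +kernel) (by decide +kernel) (by decide +kernel)) ?_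
  refine kids_cons 87 82 rfl rfl (kid_child node2211 (by decide +kernel) (by decide +kernel) (by decide +kernel)) ?_
  refine kids_cons 88 81 rfl rfl (kid_child node2212 (by decide +kernel) (by decide +kernel) (by decide +kernel)) ?_
  refine kids_cons 89 80 rfl rfl (kid_child node2213 (by decide +kernel) (by decide +kernel) (by decide +kernel)) ?_
  refine kids_cons 90 79 rfl rfl (kid_prune (by decide +kernel)) ?_
  refine kids_cons 91 78 rfl rfl (kid_child node2214 (by decide +kernel) (by decide +kernel) (by decide +kernel)) ?_
  refine kids_cons 92 77 rfl rfl (kid_prune (by decide +kernel)) ?_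
  refine kids_cons 93 76 rfl rfl (kid_child node2215 (by decide +kernel) (by decide +kernel) (by decide +kernel)) ?_
  refine kids_cons 94 75 rfl rfl (kid_child node2216 (by decide +kernel) (by decide +kernel) (by decide +kernel)) ?_
  refine kids_cons 95 74 rfl rfl (kid_child node2217 (by decide +kernel) (by decide +kernel) (by decide +kernel)) ?_
  refine kids_cons 96 73 rfl rfl (kid_child node2218 (by decide +kernel) (by decide +kernel) (by decide +kernel)) ?_
  refine kids_cons 97 72 rfl rfl (kid_child node2219 (by decide +kernel) (by decide +kernel) (by decide +kernel)) ?_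
  refine kids_cons 98 71 rfl rfl (kid_prune (by decide +kernel)) ?_
  refine kids_cons 99 70 rfl rfl (kid_prune (by decide +kernel)) ?_
  refine kids_cons 100 69 rfl rfl (kid_child node2220 (by decide +kernel) (by decide +kernel) (by decide +kernel)) ?_
  refine kids_cons 101 68 rfl rfl (kid_child node2221 (by decide +kernel) (by decide +kernel) (by decide +kernel)) ?_
  refine kids_cons 102 67 rfl rfl (kid_prune (by decide +kernel)) ?_
  refine kids_cons 103 66 rfl rfl (kid_child node2222 (by decide +kernel) (by decide +kernel) (by decide +kernel)) ?_
  refine kids_cons 104 65 rfl rfl (kid_prune (by decide +kernel)) ?_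
  refine kids_cons 105 64 rfl rfl (kid_child node2223 (by decide +kernel) (by decide +kernel) (by decide +kernel)) ?_
  refine kids_cons 106 63 rfl rfl (kid_prune (by decide +kernel)) ?_
  refine kids_cons 107 62 rfl rfl (kid_child node2224 (by decide +kernel) (by decide +kernel) (by decide +kernel)) ?_
  refine kids_cons 108 61 rfl rfl (kid_child node2225 (by decide +kernel) (by decide +kernel) (by decide +kernel)) ?_
  refine kids_cons 109 60 rfl rfl (kid_child node2226 (by decide +kernel) (by decide +kernel) (by decide +kernel)) ?_
  refine kids_cons 110 59 rfl rfl (kid_prune (by decide +kernel)) ?_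
  refine kids_cons 111 58 rfl rfl (kid_child node2227 (by decide +kernel) (by decide +kernel) (by decide +kernel)) ?_
  refine kids_cons 112 57 rfl rfl (kid_child node2228 (by decide +kernel) (by decide +kernel) (by decide +kernel)) ?_
  refine kids_cons 113 56 rfl rfl (kid_prune (by decide +kernel)) ?_
  refine kids_cons 114 55 rfl rfl (kid_prune (by decide +kernel)) ?_
  refine kids_cons 115 54 rfl rfl (kid_child node2229 (by decide +kernel) (by decide +kernel) (by decide +kernel)) ?_
  refine kids_cons 116 53 rfl rfl (kid_child node2230 (by decide +kernel) (by decide +kernel) (by decide +kernel)) ?_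
  refine kids_cons 117 52 rfl rfl (kid_child node2231 (by decide +kernel) (by decide +kernel) (by decide +kernel)) ?_
  refine kids_cons 118 51 rfl rfl (kid_child node2232 (by decide +kernel) (by decide +kernel) (by decide +kernel)) ?_
  refine kids_cons 119 50 rfl rfl (kid_child node2233 (by decide +kernel) (by decide +kernel) (by decide +kernel)) ?_
  refine kids_cons 120 49 rfl rfl (kid_prune (by decide +kernel)) ?_
  refine kids_cons 121 48 rfl rfl (kid_child node2234 (by decide +kernel) (by decide +kernel) (by decide +kernel)) ?_
  refine kids_cons 122 47 rfl rfl (kid_child node2235 (by decide +kernel) (by decide +kernel) (by decide +kernel)) ?_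
  refine kids_cons 123 46 rfl rfl (kid_child node2236 (by decide +kernel) (by decide +kernel) (by decide +kernel)) ?_
  refine kids_cons 124 45 rfl rfl (kid_child node2237 (by decide +kernel) (by decide +kernel) (by decide +kernel)) ?_
  refine kids_cons 125 44 rfl rfl (kid_child node2238 (by decide +kernel) (by decide +kernel) (by decide +kernel)) ?_
  refine kids_cons 126 43 rfl rfl (kid_child node2239 (by decide +kernel) (by decide +kernel) (by decide +kernel)) ?_
  refine kids_cons 127 42 rfl rfl (kid_prune (by decide +kernel)) ?_
  refine kids_cons 128 41 rfl rfl (kid_prune (by decide +kernel)) ?_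
  refine kids_cons 129 40 rfl rfl (kid_child node2240 (by decide +kernel) (by decide +kernel) (by decide +kernel)) ?_
  refine kids_cons 130 39 rfl rfl (kid_child node2241 (by decide +kernel) (by decide +kernel) (by decide +kernel)) ?_
  refine kids_cons 131 38 rfl rfl (kid_child node2242 (by decide +kernel) (by decide +kernel) (by decide +kernel)) ?_
  refine kids_cons 132 37 rfl rfl (kid_prune (by decide +kernel)) ?_
  refine kids_cons 133 36 rfl rfl (kid_child node2243 (by decide +kernel) (by decide +kernel) (by decide +kernel)) ?_
  refine kids_cons 134 35 rfl rfl (kid_prune (by decide +kernel)) ?_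
  refine kids_cons 135 34 rfl rfl (kid_child node2244 (by decide +kernel) (by decide +kernel) (by decide +kernel)) ?_
  refine kids_cons 136 33 rfl rfl (kid_child node2245 (by decide +kernel) (by decide +kernel) (by decide +kernel)) ?_
  refine kids_cons 137 32 rfl rfl (kid_child node2246 (by decide +kernel) (by decide +kernel) (by decide +kernel)) ?_
  refine kids_cons 138 31 rfl rfl (kid_prune (by decide +kernel)) ?_
  refine kids_cons 139 30 rfl rfl (kid_child node2247 (by decide +kernel) (by decide +kernel) (by decide +kernel)) ?_
  refine kids_cons 140 29 rfl rfl (kid_prune (by decide +kernel)) ?_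
  refine kids_cons 141 28 rfl rfl (kid_prune (by decide +kernel)) ?_
  refine kids_cons 142 27 rfl rfl (kid_child node2248 (by decide +kernel) (by decide +kernel) (by decide +kernel)) ?_
  refine kids_cons 143 26 rfl rfl (kid_child node2249 (by decide +kernel) (by decide +kernel) (by decide +kernel)) ?_
  refine kids_cons 144 25 rfl rfl (kid_child node2250 (by decide +kernel) (by decide +kernel) (by decide +kernel)) ?_
  refine kids_cons 145 24 rfl rfl (kid_child node2251 (by decide +kernel) (by decide +kernel) (by decide +kernel)) ?_
  refine kids_cons 146 23 rfl rfl (kid_child node2252 (by decide +kernel) (by decide +kernel) (by decide +kernel)) ?_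
  refine kids_cons 147 22 rfl rfl (kid_child node2253 (by decide +kernel) (by decide +kernel) (by decide +kernel)) ?_
  refine kids_cons 148 21 rfl rfl (kid_prune (by decide +kernel)) ?_
  refine kids_cons 149 20 rfl rfl (kid_child node2254 (by decide +kernel) (by decide +kernel) (by decide +kernel)) ?_
  refine kids_cons 150 19 rfl rfl (kid_prune (by decide +kernel)) ?_
  refine kids_cons 151 18 rfl rfl (kid_child node2255 (by decide +kernel) (by decide +kernel) (by decide +kernel)) ?_
  refine kids_cons 152 17 rfl rfl (kid_prune (by decide +kernel)) ?_
  refine kids_cons 153 16 rfl rfl (kid_child node2256 (by decide +kernel) (by decide +kernel) (by decide +kernel)) ?_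
  refine kids_cons 154 15 rfl rfl (kid_child node2257 (by decide +kernel) (by decide +kernel) (by decide +kernel)) ?_
  refine kids_cons 155 14 rfl rfl (kid_prune (by decide +kernel)) ?_
  refine kids_cons 156 13 rfl rfl (kid_child node2258 (by decide +kernel) (by decide +kernel) (by decide +kernel)) ?_
  refine kids_cons 157 12 rfl rfl (kid_child node2259 (by decide +kernel) (by decide +kernel) (by decide +kernel)) ?_
  refine kids_cons 158 11 rfl rfl (kid_prune (by decide +kernel)) ?_
  refine kids_cons 159 10 rfl rfl (kid_child node2260 (by decide +kernel) (by decide +kernel) (by decide +kernel)) ?_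
  refine kids_cons 160 9 rfl rfl (kid_child node2261 (by decide +kernel) (by decide +kernel) (by decide +kernel)) ?_
  refine kids_cons 161 8 rfl rfl (kid_child node2262 (by decide +kernel) (by decide +kernel) (by decide +kernel)) ?_
  refine kids_cons 162 7 rfl rfl (kid_prune (by decide +kernel)) ?_
  refine kids_cons 163 6 rfl rfl (kid_child node2263 (by decide +kernel) (by decide +kernel) (by decide +kernel)) ?_
  refine kids_cons 164 5 rfl rfl (kid_prune (by decide +kernel)) ?_
  refine kids_cons 165 4 rfl rfl (kid_child node2264 (by decide +kernel) (by decide +kernel) (by decide +kernel)) ?_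
  refine kids_cons 166 3 rfl rfl (kid_child node2265 (by decide +kernel) (by decide +kernel) (by decide +kernel)) ?_
  refine kids_cons 167 2 rfl rfl (kid_child node2266 (by decide +kernel) (by decide +kernel) (by decide +kernel)) ?_
  refine kids_cons 168 1 rfl rfl (kid_child node2267 (by decide +kernel) (by decide +kernel) (by decide +kernel)) ?_
  refine kids_cons 169 0 rfl rfl (kid_prune (by decide +kernel)) ?_
  exact kids_nil 169

theorem node2329 : dfs 2 [8, 6, 6, 6, 6, 6] 1 24 [1, 6, 2, 3, 4, 24, 8, 12, 2, 12, 4, 6, 2, 12, 4, 6] = true := by
  refine node_of_kids 25 72 (by decide) (by decide) ?_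
  refine kids_cons 26 71 rfl rfl (kid_child node2269 (by decide +kernel) (by decide +kernel) (by decide +kernel)) ?_
  refine kids_cons 27 70 rfl rfl (kid_child node2270 (by decide +kernel) (by decide +kernel) (by decide +kernel)) ?_
  refine kids_cons 28 69 rfl rfl (kid_child node2271 (by decide +kernel) (by decide +kernel) (by decide +kernel)) ?_
  refine kids_cons 29 68 rfl rfl (kid_child node2272 (by decide +kernel) (by decide +kernel) (by decide +kernel)) ?_
  refine kids_cons 30 67 rfl rfl (kid_prune (by decide +kernel)) ?_
  refine kids_cons 31 66 rfl rfl (kid_child node2273 (by decide +kernel) (by decide +kernel) (by decide +kernel)) ?_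
  refine kids_cons 32 65 rfl rfl (kid_prune (by decide +kernel)) ?_
  refine kids_cons 33 64 rfl rfl (kid_child node2274 (by decide +kernel) (by decide +kernel) (by decide +kernel)) ?_
  refine kids_cons 34 63 rfl rfl (kid_child node2275 (by decide +kernel) (by decide +kernel) (by decide +kernel)) ?_
  refine kids_cons 35 62 rfl rfl (kid_child node2276 (by decide +kernel) (by decide +kernel) (by decide +kernel)) ?_
  refine kids_cons 36 61 rfl rfl (kid_child node2277 (by decide +kernel) (by decide +kernel) (by decide +kernel)) ?_
  refine kids_cons 37 60 rfl rfl (kid_child node2278 (by decide +kernel) (by decide +kernel) (by decide +kernel)) ?_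
  refine kids_cons 38 59 rfl rfl (kid_prune (by decide +kernel)) ?_
  refine kids_cons 39 58 rfl rfl (kid_child node2279 (by decide +kernel) (by decide +kernel) (by decide +kernel)) ?_
  refine kids_cons 40 57 rfl rfl (kid_child node2280 (by decide +kernel) (by decide +kernel) (by decide +kernel)) ?_
  refine kids_cons 41 56 rfl rfl (kid_child node2281 (by decide +kernel) (by decide +kernel) (by decide +kernel)) ?_
  refine kids_cons 42 55 rfl rfl (kid_prune (by decide +kernel)) ?_
  refine kids_cons 43 54 rfl rfl (kid_child node2282 (by decide +kernel) (by decide +kernel) (by decide +kernel)) ?_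
  refine kids_cons 44 53 rfl rfl (kid_prune (by decide +kernel)) ?_
  refine kids_cons 45 52 rfl rfl (kid_child node2283 (by decide +kernel) (by decide +kernel) (by decide +kernel)) ?_
  refine kids_cons 46 51 rfl rfl (kid_child node2284 (by decide +kernel) (by decide +kernel) (by decide +kernel)) ?_
  refine kids_cons 47 50 rfl rfl (kid_child node2285 (by decide +kernel) (by decide +kernel) (by decide +kernel)) ?_
  refine kids_cons 48 49 rfl rfl (kid_child node2286 (by decide +kernel) (by decide +kernel) (by decide +kernel)) ?_
  refine kids_cons 49 48 rfl rfl (kid_child node2287 (by decide +kernel) (by decide +kernel) (by decide +kernel)) ?_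
  refine kids_cons 50 47 rfl rfl (kid_child node2288 (by decide +kernel) (by decide +kernel) (by decide +kernel)) ?_
  refine kids_cons 51 46 rfl rfl (kid_child node2289 (by decide +kernel) (by decide +kernel) (by decide +kernel)) ?_
  refine kids_cons 52 45 rfl rfl (kid_child node2290 (by decide +kernel) (by decide +kernel) (by decide +kernel)) ?_
  refine kids_cons 53 44 rfl rfl (kid_child node2291 (by decide +kernel) (by decide +kernel) (by decide +kernel)) ?_
  refine kids_cons 54 43 rfl rfl (kid_prune (by decide +kernel)) ?_
  refine kids_cons 55 42 rfl rfl (kid_child node2292 (by decide +kernel) (by decide +kernel) (by decide +kernel)) ?_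
  refine kids_cons 56 41 rfl rfl (kid_child node2293 (by decide +kernel) (by decide +kernel) (by decide +kernel)) ?_
  refine kids_cons 57 40 rfl rfl (kid_child node2294 (by decide +kernel) (by decide +kernel) (by decide +kernel)) ?_
  refine kids_cons 58 39 rfl rfl (kid_child node2295 (by decide +kernel) (by decide +kernel) (by decide +kernel)) ?_
  refine kids_cons 59 38 rfl rfl (kid_child node2296 (by decide +kernel) (by decide +kernel) (by decide +kernel)) ?_
  refine kids_cons 60 37 rfl rfl (kid_child node2297 (by decide +kernel) (by decide +kernel) (by decide +kernel)) ?_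
  refine kids_cons 61 36 rfl rfl (kid_child node2298 (by decide +kernel) (by decide +kernel) (by decide +kernel)) ?_
  refine kids_cons 62 35 rfl rfl (kid_prune (by decide +kernel)) ?_
  refine kids_cons 63 34 rfl rfl (kid_child node2299 (by decide +kernel) (by decide +kernel) (by decide +kernel)) ?_
  refine kids_cons 64 33 rfl rfl (kid_child node2300 (by decide +kernel) (by decide +kernel) (by decide +kernel)) ?_
  refine kids_cons 65 32 rfl rfl (kid_child node2301 (by decide +kernel) (by decide +kernel) (by decide +kernel)) ?_
  refine kids_cons 66 31 rfl rfl (kid_child node2302 (by decide +kernel) (by decide +kernel) (by decide +kernel)) ?_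
  refine kids_cons 67 30 rfl rfl (kid_child node2303 (by decide +kernel) (by decide +kernel) (by decide +kernel)) ?_
  refine kids_cons 68 29 rfl rfl (kid_prune (by decide +kernel)) ?_
  refine kids_cons 69 28 rfl rfl (kid_child node2304 (by decide +kernel) (by decide +kernel) (by decide +kernel)) ?_
  refine kids_cons 70 27 rfl rfl (kid_child node2305 (by decide +kernel) (by decide +kernel) (by decide +kernel)) ?_
  refine kids_cons 71 26 rfl rfl (kid_child node2306 (by decide +kernel) (by decide +kernel) (by decide +kernel)) ?_
  refine kids_cons 72 25 rfl rfl (kid_prune (by decide +kernel)) ?_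
  refine kids_cons 73 24 rfl rfl (kid_child node2307 (by decide +kernel) (by decide +kernel) (by decide +kernel)) ?_
  refine kids_cons 74 23 rfl rfl (kid_prune (by decide +kernel)) ?_
  refine kids_cons 75 22 rfl rfl (kid_child node2308 (by decide +kernel) (by decide +kernel) (by decide +kernel)) ?_
  refine kids_cons 76 21 rfl rfl (kid_child node2309 (by decide +kernel) (by decide +kernel) (by decide +kernel)) ?_
  refine kids_cons 77 20 rfl rfl (kid_child node2310 (by decide +kernel) (by decide +kernel) (by decide +kernel)) ?_
  refine kids_cons 78 19 rfl rfl (kid_child node2311 (by decide +kernel) (by decide +kernel) (by decide +kernel)) ?_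
  refine kids_cons 79 18 rfl rfl (kid_child node2312 (by decide +kernel) (by decide +kernel) (by decide +kernel)) ?_
  refine kids_cons 80 17 rfl rfl (kid_prune (by decide +kernel)) ?_
  refine kids_cons 81 16 rfl rfl (kid_child node2313 (by decide +kernel) (by decide +kernel) (by decide +kernel)) ?_
  refine kids_cons 82 15 rfl rfl (kid_child node2314 (by decide +kernel) (by decide +kernel) (by decide +kernel)) ?_
  refine kids_cons 83 14 rfl rfl (kid_child node2315 (by decide +kernel) (by decide +kernel) (by decide +kernel)) ?_
  refine kids_cons 84 13 rfl rfl (kid_child node2316 (by decide +kernel) (by decide +kernel) (by decide +kernel)) ?_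
  refine kids_cons 85 12 rfl rfl (kid_child node2317 (by decide +kernel) (by decide +kernel) (by decide +kernel)) ?_
  refine kids_cons 86 11 rfl rfl (kid_child node2318 (by decide +kernel) (by decide +kernel) (by decide +kernel)) ?_
  refine kids_cons 87 10 rfl rfl (kid_child node2319 (by decide +kernel) (by decide +kernel) (by decide +kernel)) ?_
  refine kids_cons 88 9 rfl rfl (kid_child node2320 (by decide +kernel) (by decide +kernel) (by decide +kernel)) ?_
  refine kids_cons 89 8 rfl rfl (kid_child node2321 (by decide +kernel) (by decide +kernel) (by decide +kernel)) ?_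
  refine kids_cons 90 7 rfl rfl (kid_prune (by decide +kernel)) ?_
  refine kids_cons 91 6 rfl rfl (kid_child node2322 (by decide +kernel) (by decide +kernel) (by decide +kernel)) ?_
  refine kids_cons 92 5 rfl rfl (kid_child node2323 (by decide +kernel) (by decide +kernel) (by decide +kernel)) ?_
  refine kids_cons 93 4 rfl rfl (kid_child node2324 (by decide +kernel) (by decide +kernel) (by decide +kernel)) ?_
  refine kids_cons 94 3 rfl rfl (kid_child node2325 (by decide +kernel) (by decide +kernel) (by decide +kernel)) ?_
  refine kids_cons 95 2 rfl rfl (kid_child node2326 (by decide +kernel) (by decide +kernel) (by decide +kernel)) ?_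
  refine kids_cons 96 1 rfl rfl (kid_child node2327 (by decide +kernel) (by decide +kernel) (by decide +kernel)) ?_
  refine kids_cons 97 0 rfl rfl (kid_child node2328 (by decide +kernel) (by decide +kernel) (by decide +kernel)) ?_
  exact kids_nil 97

theorem node2375 : dfs 2 [9, 6, 6, 6, 6, 6] 1 18 [1, 6, 2, 3, 3, 18, 6, 9] = true := by
  refine node_of_kids 19 54 (by decide) (by decide) ?_
  refine kids_cons 20 53 rfl rfl (kid_child node2330 (by decide +kernel) (by decide +kernel) (by decide +kernel)) ?_
  refine kids_cons 21 52 rfl rfl (kid_child node2331 (by decide +kernel) (by decide +kernel) (by decide +kernel)) ?_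
  refine kids_cons 22 51 rfl rfl (kid_child node2332 (by decide +kernel) (by decide +kernel) (by decide +kernel)) ?_
  refine kids_cons 23 50 rfl rfl (kid_child node2333 (by decide +kernel) (by decide +kernel) (by decide +kernel)) ?_
  refine kids_cons 24 49 rfl rfl (kid_child node2334 (by decide +kernel) (by decide +kernel) (by decide +kernel)) ?_
  refine kids_cons 25 48 rfl rfl (kid_child node2335 (by decide +kernel) (by decide +kernel) (by decide +kernel)) ?_
  refine kids_cons 26 47 rfl rfl (kid_child node2336 (by decide +kernel) (by decide +kernel) (by decide +kernel)) ?_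
  refine kids_cons 27 46 rfl rfl (kid_child node2337 (by decide +kernel) (by decide +kernel) (by decide +kernel)) ?_
  refine kids_cons 28 45 rfl rfl (kid_child node2338 (by decide +kernel) (by decide +kernel) (by decide +kernel)) ?_
  refine kids_cons 29 44 rfl rfl (kid_child node2339 (by decide +kernel) (by decide +kernel) (by decide +kernel)) ?_
  refine kids_cons 30 43 rfl rfl (kid_prune (by decide +kernel)) ?_
  refine kids_cons 31 42 rfl rfl (kid_child node2340 (by decide +kernel) (by decide +kernel) (by decide +kernel)) ?_
  refine kids_cons 32 41 rfl rfl (kid_prune (by decide +kernel)) ?_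
  refine kids_cons 33 40 rfl rfl (kid_child node2341 (by decide +kernel) (by decide +kernel) (by decide +kernel)) ?_
  refine kids_cons 34 39 rfl rfl (kid_child node2342 (by decide +kernel) (by decide +kernel) (by decide +kernel)) ?_
  refine kids_cons 35 38 rfl rfl (kid_child node2343 (by decide +kernel) (by decide +kernel) (by decide +kernel)) ?_
  refine kids_cons 36 37 rfl rfl (kid_child node2344 (by decide +kernel) (by decide +kernel) (by decide +kernel)) ?_
  refine kids_cons 37 36 rfl rfl (kid_child node2345 (by decide +kernel) (by decide +kernel) (by decide +kernel)) ?_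
  refine kids_cons 38 35 rfl rfl (kid_prune (by decide +kernel)) ?_
  refine kids_cons 39 34 rfl rfl (kid_child node2346 (by decide +kernel) (by decide +kernel) (by decide +kernel)) ?_
  refine kids_cons 40 33 rfl rfl (kid_child node2347 (by decide +kernel) (by decide +kernel) (by decide +kernel)) ?_
  refine kids_cons 41 32 rfl rfl (kid_child node2348 (by decide +kernel) (by decide +kernel) (by decide +kernel)) ?_
  refine kids_cons 42 31 rfl rfl (kid_prune (by decide +kernel)) ?_
  refine kids_cons 43 30 rfl rfl (kid_child node2349 (by decide +kernel) (by decide +kernel) (by decide +kernel)) ?_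
  refine kids_cons 44 29 rfl rfl (kid_prune (by decide +kernel)) ?_
  refine kids_cons 45 28 rfl rfl (kid_child node2350 (by decide +kernel) (by decide +kernel) (by decide +kernel)) ?_
  refine kids_cons 46 27 rfl rfl (kid_child node2351 (by decide +kernel) (by decide +kernel) (by decide +kernel)) ?_
  refine kids_cons 47 26 rfl rfl (kid_child node2352 (by decide +kernel) (by decide +kernel) (by decide +kernel)) ?_
  refine kids_cons 48 25 rfl rfl (kid_child node2353 (by decide +kernel) (by decide +kernel) (by decide +kernel)) ?_
  refine kids_cons 49 24 rfl rfl (kid_child node2354 (by decide +kernel) (by decide +kernel) (by decide +kernel)) ?_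
  refine kids_cons 50 23 rfl rfl (kid_child node2355 (by decide +kernel) (by decide +kernel) (by decide +kernel)) ?_
  refine kids_cons 51 22 rfl rfl (kid_child node2356 (by decide +kernel) (by decide +kernel) (by decide +kernel)) ?_
  refine kids_cons 52 21 rfl rfl (kid_child node2357 (by decide +kernel) (by decide +kernel) (by decide +kernel)) ?_
  refine kids_cons 53 20 rfl rfl (kid_child node2358 (by decide +kernel) (by decide +kernel) (by decide +kernel)) ?_
  refine kids_cons 54 19 rfl rfl (kid_prune (by decide +kernel)) ?_
  refine kids_cons 55 18 rfl rfl (kid_child node2359 (by decide +kernel) (by decide +kernel) (by decide +kernel)) ?_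
  refine kids_cons 56 17 rfl rfl (kid_child node2360 (by decide +kernel) (by decide +kernel) (by decide +kernel)) ?_
  refine kids_cons 57 16 rfl rfl (kid_child node2361 (by decide +kernel) (by decide +kernel) (by decide +kernel)) ?_
  refine kids_cons 58 15 rfl rfl (kid_child node2362 (by decide +kernel) (by decide +kernel) (by decide +kernel)) ?_
  refine kids_cons 59 14 rfl rfl (kid_child node2363 (by decide +kernel) (by decide +kernel) (by decide +kernel)) ?_
  refine kids_cons 60 13 rfl rfl (kid_child node2364 (by decide +kernel) (by decide +kernel) (by decide +kernel)) ?_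
  refine kids_cons 61 12 rfl rfl (kid_child node2365 (by decide +kernel) (by decide +kernel) (by decide +kernel)) ?_
  refine kids_cons 62 11 rfl rfl (kid_prune (by decide +kernel)) ?_
  refine kids_cons 63 10 rfl rfl (kid_child node2366 (by decide +kernel) (by decide +kernel) (by decide +kernel)) ?_
  refine kids_cons 64 9 rfl rfl (kid_child node2367 (by decide +kernel) (by decide +kernel) (by decide +kernel)) ?_
  refine kids_cons 65 8 rfl rfl (kid_child node2368 (by decide +kernel) (by decide +kernel) (by decide +kernel)) ?_
  refine kids_cons 66 7 rfl rfl (kid_child node2369 (by decide +kernel) (by decide +kernel) (by decide +kernel)) ?_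
  refine kids_cons 67 6 rfl rfl (kid_child node2370 (by decide +kernel) (by decide +kernel) (by decide +kernel)) ?_
  refine kids_cons 68 5 rfl rfl (kid_prune (by decide +kernel)) ?_
  refine kids_cons 69 4 rfl rfl (kid_child node2371 (by decide +kernel) (by decide +kernel) (by decide +kernel)) ?_
  refine kids_cons 70 3 rfl rfl (kid_child node2372 (by decide +kernel) (by decide +kernel) (by decide +kernel)) ?_
  refine kids_cons 71 2 rfl rfl (kid_child node2373 (by decide +kernel) (by decide +kernel) (by decide +kernel)) ?_
  refine kids_cons 72 1 rfl rfl (kid_prune (by decide +kernel)) ?_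
  refine kids_cons 73 0 rfl rfl (kid_child node2374 (by decide +kernel) (by decide +kernel) (by decide +kernel)) ?_
  exact kids_nil 73

theorem node2395 : dfs 3 [6, 6, 6, 6, 6] 1 6 [1, 6, 2, 3] = true := by
  refine node_of_kids 7 24 (by decide) (by decide) ?_
  refine kids_cons 8 23 rfl rfl (kid_child node2268 (by decide +kernel) (by decide +kernel) (by decide +kernel)) ?_
  refine kids_cons 9 22 rfl rfl (kid_child node2329 (by decide +kernel) (by decide +kernel) (by decide +kernel)) ?_
  refine kids_cons 10 21 rfl rfl (kid_child node2375 (by decide +kernel) (by decide +kernel) (by decide +kernel)) ?_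
  refine kids_cons 11 20 rfl rfl (kid_child node2376 (by decide +kernel) (by decide +kernel) (by decide +kernel)) ?_
  refine kids_cons 12 19 rfl rfl (kid_child node2377 (by decide +kernel) (by decide +kernel) (by decide +kernel)) ?_
  refine kids_cons 13 18 rfl rfl (kid_child node2378 (by decide +kernel) (by decide +kernel) (by decide +kernel)) ?_
  refine kids_cons 14 17 rfl rfl (kid_child node2379 (by decide +kernel) (by decide +kernel) (by decide +kernel)) ?_
  refine kids_cons 15 16 rfl rfl (kid_child node2380 (by decide +kernel) (by decide +kernel) (by decide +kernel)) ?_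
  refine kids_cons 16 15 rfl rfl (kid_child node2381 (by decide +kernel) (by decide +kernel) (by decide +kernel)) ?_
  refine kids_cons 17 14 rfl rfl (kid_child node2382 (by decide +kernel) (by decide +kernel) (by decide +kernel)) ?_
  refine kids_cons 18 13 rfl rfl (kid_prune (by decide +kernel)) ?_
  refine kids_cons 19 12 rfl rfl (kid_child node2383 (by decide +kernel) (by decide +kernel) (by decide +kernel)) ?_
  refine kids_cons 20 11 rfl rfl (kid_child node2384 (by decide +kernel) (by decide +kernel) (by decide +kernel)) ?_
  refine kids_cons 21 10 rfl rfl (kid_child node2385 (by decide +kernel) (by decide +kernel) (by decide +kernel)) ?_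
  refine kids_cons 22 9 rfl rfl (kid_child node2386 (by decide +kernel) (by decide +kernel) (by decide +kernel)) ?_
  refine kids_cons 23 8 rfl rfl (kid_child node2387 (by decide +kernel) (by decide +kernel) (by decide +kernel)) ?_
  refine kids_cons 24 7 rfl rfl (kid_child node2388 (by decide +kernel) (by decide +kernel) (by decide +kernel)) ?_
  refine kids_cons 25 6 rfl rfl (kid_child node2389 (by decide +kernel) (by decide +kernel) (by decide +kernel)) ?_
  refine kids_cons 26 5 rfl rfl (kid_child node2390 (by decide +kernel) (by decide +kernel) (by decide +kernel)) ?_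
  refine kids_cons 27 4 rfl rfl (kid_child node2391 (by decide +kernel) (by decide +kernel) (by decide +kernel)) ?_
  refine kids_cons 28 3 rfl rfl (kid_child node2392 (by decide +kernel) (by decide +kernel) (by decide +kernel)) ?_
  refine kids_cons 29 2 rfl rfl (kid_child node2393 (by decide +kernel) (by decide +kernel) (by decide +kernel)) ?_
  refine kids_cons 30 1 rfl rfl (kid_prune (by decide +kernel)) ?_
  refine kids_cons 31 0 rfl rfl (kid_child node2394 (by decide +kernel) (by decide +kernel) (by decide +kernel)) ?_
  exact kids_nil 31

theorem node2439 : dfs 2 [7, 7, 6, 6, 6, 6] 2 42 [1, 6, 2, 3, 7, 42, 14, 21] = true := by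
  refine node_of_kids 22 63 (by decide) (by decide) ?_
  refine kids_cons 23 62 rfl rfl (kid_child node2396 (by decide +kernel) (by decide +kernel) (by decide +kernel)) ?_
  refine kids_cons 24 61 rfl rfl (kid_child node2397 (by decide +kernel) (by decide +kernel) (by decide +kernel)) ?_
  refine kids_cons 25 60 rfl rfl (kid_child node2398 (by decide +kernel) (by decide +kernel) (by decide +kernel)) ?_
  refine kids_cons 26 59 rfl rfl (kid_child node2399 (by decide +kernel) (by decide +kernel) (by decide +kernel)) ?_
  refine kids_cons 27 58 rfl rfl (kid_child node2400 (by decide +kernel) (by decide +kernel) (by decide +kernel)) ?_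
  refine kids_cons 28 57 rfl rfl (kid_child node2401 (by decide +kernel) (by decide +kernel) (by decide +kernel)) ?_
  refine kids_cons 29 56 rfl rfl (kid_prune (by decide +kernel)) ?_
  refine kids_cons 30 55 rfl rfl (kid_prune (by decide +kernel)) ?_
  refine kids_cons 31 54 rfl rfl (kid_child node2402 (by decide +kernel) (by decide +kernel) (by decide +kernel)) ?_
  refine kids_cons 32 53 rfl rfl (kid_prune (by decide +kernel)) ?_
  refine kids_cons 33 52 rfl rfl (kid_child node2403 (by decide +kernel) (by decide +kernel) (by decide +kernel)) ?_
  refine kids_cons 34 51 rfl rfl (kid_child node2404 (by decide +kernel) (by decide +kernel) (by decide +kernel)) ?_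
  refine kids_cons 35 50 rfl rfl (kid_child node2405 (by decide +kernel) (by decide +kernel) (by decide +kernel)) ?_
  refine kids_cons 36 49 rfl rfl (kid_prune (by decide +kernel)) ?_
  refine kids_cons 37 48 rfl rfl (kid_child node2406 (by decide +kernel) (by decide +kernel) (by decide +kernel)) ?_
  refine kids_cons 38 47 rfl rfl (kid_prune (by decide +kernel)) ?_
  refine kids_cons 39 46 rfl rfl (kid_child node2407 (by decide +kernel) (by decide +kernel) (by decide +kernel)) ?_
  refine kids_cons 40 45 rfl rfl (kid_child node2408 (by decide +kernel) (by decide +kernel) (by decide +kernel)) ?_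
  refine kids_cons 41 44 rfl rfl (kid_child node2409 (by decide +kernel) (by decide +kernel) (by decide +kernel)) ?_
  refine kids_cons 42 43 rfl rfl (kid_prune (by decide +kernel)) ?_
  refine kids_cons 43 42 rfl rfl (kid_prune (by decide +kernel)) ?_
  refine kids_cons 44 41 rfl rfl (kid_prune (by decide +kernel)) ?_
  refine kids_cons 45 40 rfl rfl (kid_child node2410 (by decide +kernel) (by decide +kernel) (by decide +kernel)) ?_
  refine kids_cons 46 39 rfl rfl (kid_child node2411 (by decide +kernel) (by decide +kernel) (by decide +kernel)) ?_
  refine kids_cons 47 38 rfl rfl (kid_child node2412 (by decide +kernel) (by decide +kernel) (by decide +kernel)) ?_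
  refine kids_cons 48 37 rfl rfl (kid_child node2413 (by decide +kernel) (by decide +kernel) (by decide +kernel)) ?_
  refine kids_cons 49 36 rfl rfl (kid_child node2414 (by decide +kernel) (by decide +kernel) (by decide +kernel)) ?_
  refine kids_cons 50 35 rfl rfl (kid_prune (by decide +kernel)) ?_
  refine kids_cons 51 34 rfl rfl (kid_child node2415 (by decide +kernel) (by decide +kernel) (by decide +kernel)) ?_
  refine kids_cons 52 33 rfl rfl (kid_child node2416 (by decide +kernel) (by decide +kernel) (by decide +kernel)) ?_
  refine kids_cons 53 32 rfl rfl (kid_child node2417 (by decide +kernel) (by decide +kernel) (by decide +kernel)) ?_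
  refine kids_cons 54 31 rfl rfl (kid_prune (by decide +kernel)) ?_
  refine kids_cons 55 30 rfl rfl (kid_child node2418 (by decide +kernel) (by decide +kernel) (by decide +kernel)) ?_
  refine kids_cons 56 29 rfl rfl (kid_child node2419 (by decide +kernel) (by decide +kernel) (by decide +kernel)) ?_
  refine kids_cons 57 28 rfl rfl (kid_prune (by decide +kernel)) ?_
  refine kids_cons 58 27 rfl rfl (kid_child node2420 (by decide +kernel) (by decide +kernel) (by decide +kernel)) ?_
  refine kids_cons 59 26 rfl rfl (kid_child node2421 (by decide +kernel) (by decide +kernel) (by decide +kernel)) ?_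
  refine kids_cons 60 25 rfl rfl (kid_child node2422 (by decide +kernel) (by decide +kernel) (by decide +kernel)) ?_
  refine kids_cons 61 24 rfl rfl (kid_child node2423 (by decide +kernel) (by decide +kernel) (by decide +kernel)) ?_
  refine kids_cons 62 23 rfl rfl (kid_prune (by decide +kernel)) ?_
  refine kids_cons 63 22 rfl rfl (kid_child node2424 (by decide +kernel) (by decide +kernel) (by decide +kernel)) ?_
  refine kids_cons 64 21 rfl rfl (kid_prune (by decide +kernel)) ?_
  refine kids_cons 65 20 rfl rfl (kid_child node2425 (by decide +kernel) (by decide +kernel) (by decide +kernel)) ?_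
  refine kids_cons 66 19 rfl rfl (kid_child node2426 (by decide +kernel) (by decide +kernel) (by decide +kernel)) ?_
  refine kids_cons 67 18 rfl rfl (kid_child node2427 (by decide +kernel) (by decide +kernel) (by decide +kernel)) ?_
  refine kids_cons 68 17 rfl rfl (kid_prune (by decide +kernel)) ?_
  refine kids_cons 69 16 rfl rfl (kid_child node2428 (by decide +kernel) (by decide +kernel) (by decide +kernel)) ?_
  refine kids_cons 70 15 rfl rfl (kid_child node2429 (by decide +kernel) (by decide +kernel) (by decide +kernel)) ?_
  refine kids_cons 71 14 rfl rfl (kid_prune (by decide +kernel)) ?_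
  refine kids_cons 72 13 rfl rfl (kid_prune (by decide +kernel)) ?_
  refine kids_cons 73 12 rfl rfl (kid_child node2430 (by decide +kernel) (by decide +kernel) (by decide +kernel)) ?_
  refine kids_cons 74 11 rfl rfl (kid_prune (by decide +kernel)) ?_
  refine kids_cons 75 10 rfl rfl (kid_child node2431 (by decide +kernel) (by decide +kernel) (by decide +kernel)) ?_
  refine kids_cons 76 9 rfl rfl (kid_child node2432 (by decide +kernel) (by decide +kernel) (by decide +kernel)) ?_
  refine kids_cons 77 8 rfl rfl (kid_child node2433 (by decide +kernel) (by decide +kernel) (by decide +kernel)) ?_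
  refine kids_cons 78 7 rfl rfl (kid_prune (by decide +kernel)) ?_
  refine kids_cons 79 6 rfl rfl (kid_child node2434 (by decide +kernel) (by decide +kernel) (by decide +kernel)) ?_
  refine kids_cons 80 5 rfl rfl (kid_prune (by decide +kernel)) ?_
  refine kids_cons 81 4 rfl rfl (kid_child node2435 (by decide +kernel) (by decide +kernel) (by decide +kernel)) ?_
  refine kids_cons 82 3 rfl rfl (kid_child node2436 (by decide +kernel) (by decide +kernel) (by decide +kernel)) ?_
  refine kids_cons 83 2 rfl rfl (kid_child node2437 (by decide +kernel) (by decide +kernel) (by decide +kernel)) ?_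
  refine kids_cons 84 1 rfl rfl (kid_child node2438 (by decide +kernel) (by decide +kernel) (by decide +kernel)) ?_
  refine kids_cons 85 0 rfl rfl (kid_prune (by decide +kernel)) ?_
  exact kids_nil 85

theorem node2456 : dfs 3 [7, 6, 6, 6, 6] 8 42 [1, 6, 2, 3, 7, 42, 14, 21] = true := by
  refine node_of_kids 7 20 (by decide) (by decide) ?_
  refine kids_cons 8 19 rfl rfl (kid_child node2439 (by decide +kernel) (by decide +kernel) (by decide +kernel)) ?_
  refine kids_cons 9 18 rfl rfl (kid_child node2440 (by decide +kernel) (by decide +kernel) (by decide +kernel)) ?_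
  refine kids_cons 10 17 rfl rfl (kid_child node2441 (by decide +kernel) (by decide +kernel) (by decide +kernel)) ?_
  refine kids_cons 11 16 rfl rfl (kid_child node2442 (by decide +kernel) (by decide +kernel) (by decide +kernel)) ?_
  refine kids_cons 12 15 rfl rfl (kid_child node2443 (by decide +kernel) (by decide +kernel) (by decide +kernel)) ?_
  refine kids_cons 13 14 rfl rfl (kid_child node2444 (by decide +kernel) (by decide +kernel) (by decide +kernel)) ?_
  refine kids_cons 14 13 rfl rfl (kid_child node2445 (by decide +kernel) (by decide +kernel) (by decide +kernel)) ?_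
  refine kids_cons 15 12 rfl rfl (kid_prune (by decide +kernel)) ?_
  refine kids_cons 16 11 rfl rfl (kid_child node2446 (by decide +kernel) (by decide +kernel) (by decide +kernel)) ?_
  refine kids_cons 17 10 rfl rfl (kid_child node2447 (by decide +kernel) (by decide +kernel) (by decide +kernel)) ?_
  refine kids_cons 18 9 rfl rfl (kid_prune (by decide +kernel)) ?_
  refine kids_cons 19 8 rfl rfl (kid_child node2448 (by decide +kernel) (by decide +kernel) (by decide +kernel)) ?_
  refine kids_cons 20 7 rfl rfl (kid_child node2449 (by decide +kernel) (by decide +kernel) (by decide +kernel)) ?_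
  refine kids_cons 21 6 rfl rfl (kid_child node2450 (by decide +kernel) (by decide +kernel) (by decide +kernel)) ?_
  refine kids_cons 22 5 rfl rfl (kid_prune (by decide +kernel)) ?_
  refine kids_cons 23 4 rfl rfl (kid_child node2451 (by decide +kernel) (by decide +kernel) (by decide +kernel)) ?_
  refine kids_cons 24 3 rfl rfl (kid_child node2452 (by decide +kernel) (by decide +kernel) (by decide +kernel)) ?_
  refine kids_cons 25 2 rfl rfl (kid_child node2453 (by decide +kernel) (by decide +kernel) (by decide +kernel)) ?_
  refine kids_cons 26 1 rfl rfl (kid_child node2454 (by decide +kernel) (by decide +kernel) (by decide +kernel)) ?_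
  refine kids_cons 27 0 rfl rfl (kid_child node2455 (by decide +kernel) (by decide +kernel) (by decide +kernel)) ?_
  exact kids_nil 27

theorem node2474 : dfs 3 [8, 6, 6, 6, 6] 5 24 [1, 6, 2, 3, 4, 24, 8, 12, 2, 12, 4, 6, 2, 12, 4, 6] = true := by
  refine node_of_kids 8 17 (by decide) (by decide) ?_
  refine kids_cons 9 16 rfl rfl (kid_child node2457 (by decide +kernel) (by decide +kernel) (by decide +kernel)) ?_
  refine kids_cons 10 15 rfl rfl (kid_child node2458 (by decide +kernel) (by decide +kernel) (by decide +kernel)) ?_
  refine kids_cons 11 14 rfl rfl (kid_child node2459 (by decide +kernel) (by decide +kernel) (by decide +kernel)) ?_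
  refine kids_cons 12 13 rfl rfl (kid_child node2460 (by decide +kernel) (by decide +kernel) (by decide +kernel)) ?_
  refine kids_cons 13 12 rfl rfl (kid_child node2461 (by decide +kernel) (by decide +kernel) (by decide +kernel)) ?_
  refine kids_cons 14 11 rfl rfl (kid_child node2462 (by decide +kernel) (by decide +kernel) (by decide +kernel)) ?_
  refine kids_cons 15 10 rfl rfl (kid_child node2463 (by decide +kernel) (by decide +kernel) (by decide +kernel)) ?_
  refine kids_cons 16 9 rfl rfl (kid_child node2464 (by decide +kernel) (by decide +kernel) (by decide +kernel)) ?_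
  refine kids_cons 17 8 rfl rfl (kid_child node2465 (by decide +kernel) (by decide +kernel) (by decide +kernel)) ?_
  refine kids_cons 18 7 rfl rfl (kid_child node2466 (by decide +kernel) (by decide +kernel) (by decide +kernel)) ?_
  refine kids_cons 19 6 rfl rfl (kid_child node2467 (by decide +kernel) (by decide +kernel) (by decide +kernel)) ?_
  refine kids_cons 20 5 rfl rfl (kid_child node2468 (by decide +kernel) (by decide +kernel) (by decide +kernel)) ?_
  refine kids_cons 21 4 rfl rfl (kid_child node2469 (by decide +kernel) (by decide +kernel) (by decide +kernel)) ?_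
  refine kids_cons 22 3 rfl rfl (kid_child node2470 (by decide +kernel) (by decide +kernel) (by decide +kernel)) ?_
  refine kids_cons 23 2 rfl rfl (kid_child node2471 (by decide +kernel) (by decide +kernel) (by decide +kernel)) ?_
  refine kids_cons 24 1 rfl rfl (kid_child node2472 (by decide +kernel) (by decide +kernel) (by decide +kernel)) ?_
  refine kids_cons 25 0 rfl rfl (kid_child node2473 (by decide +kernel) (by decide +kernel) (by decide +kernel)) ?_
  exact kids_nil 25

theorem node2485 : dfs 4 [6, 6, 6, 6] 2 6 [1, 6, 2, 3] = true := by
  refine node_of_kids 6 13 (by decide) (by decide) ?_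
  refine kids_cons 7 12 rfl rfl (kid_child node2395 (by decide +kernel) (by decide +kernel) (by decide +kernel)) ?_
  refine kids_cons 8 11 rfl rfl (kid_child node2456 (by decide +kernel) (by decide +kernel) (by decide +kernel)) ?_
  refine kids_cons 9 10 rfl rfl (kid_child node2474 (by decide +kernel) (by decide +kernel) (by decide +kernel)) ?_
  refine kids_cons 10 9 rfl rfl (kid_child node2475 (by decide +kernel) (by decide +kernel) (by decide +kernel)) ?_
  refine kids_cons 11 8 rfl rfl (kid_child node2476 (by decide +kernel) (by decide +kernel) (by decide +kernel)) ?_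
  refine kids_cons 12 7 rfl rfl (kid_child node2477 (by decide +kernel) (by decide +kernel) (by decide +kernel)) ?_
  refine kids_cons 13 6 rfl rfl (kid_child node2478 (by decide +kernel) (by decide +kernel) (by decide +kernel)) ?_
  refine kids_cons 14 5 rfl rfl (kid_child node2479 (by decide +kernel) (by decide +kernel) (by decide +kernel)) ?_
  refine kids_cons 15 4 rfl rfl (kid_child node2480 (by decide +kernel) (by decide +kernel) (by decide +kernel)) ?_
  refine kids_cons 16 3 rfl rfl (kid_child node2481 (by decide +kernel) (by decide +kernel) (by decide +kernel)) ?_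
  refine kids_cons 17 2 rfl rfl (kid_child node2482 (by decide +kernel) (by decide +kernel) (by decide +kernel)) ?_
  refine kids_cons 18 1 rfl rfl (kid_child node2483 (by decide +kernel) (by decide +kernel) (by decide +kernel)) ?_
  refine kids_cons 19 0 rfl rfl (kid_child node2484 (by decide +kernel) (by decide +kernel) (by decide +kernel)) ?_
  exact kids_nil 19

theorem node2500 : dfs 3 [7, 7, 6, 6, 6] 9 42 [1, 6, 2, 3, 7, 42, 14, 21] = true := by
  refine node_of_kids 7 17 (by decide) (by decide) ?_
  refine kids_cons 8 16 rfl rfl (kid_child node2486 (by decide +kernel) (by decide +kernel) (by decide +kernel)) ?_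
  refine kids_cons 9 15 rfl rfl (kid_child node2487 (by decide +kernel) (by decide +kernel) (by decide +kernel)) ?_
  refine kids_cons 10 14 rfl rfl (kid_child node2488 (by decide +kernel) (by decide +kernel) (by decide +kernel)) ?_
  refine kids_cons 11 13 rfl rfl (kid_child node2489 (by decide +kernel) (by decide +kernel) (by decide +kernel)) ?_
  refine kids_cons 12 12 rfl rfl (kid_child node2490 (by decide +kernel) (by decide +kernel) (by decide +kernel)) ?_
  refine kids_cons 13 11 rfl rfl (kid_child node2491 (by decide +kernel) (by decide +kernel) (by decide +kernel)) ?_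
  refine kids_cons 14 10 rfl rfl (kid_child node2492 (by decide +kernel) (by decide +kernel) (by decide +kernel)) ?_
  refine kids_cons 15 9 rfl rfl (kid_prune (by decide +kernel)) ?_
  refine kids_cons 16 8 rfl rfl (kid_child node2493 (by decide +kernel) (by decide +kernel) (by decide +kernel)) ?_
  refine kids_cons 17 7 rfl rfl (kid_child node2494 (by decide +kernel) (by decide +kernel) (by decide +kernel)) ?_
  refine kids_cons 18 6 rfl rfl (kid_prune (by decide +kernel)) ?_
  refine kids_cons 19 5 rfl rfl (kid_child node2495 (by decide +kernel) (by decide +kernel) (by decide +kernel)) ?_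
  refine kids_cons 20 4 rfl rfl (kid_child node2496 (by decide +kernel) (by decide +kernel) (by decide +kernel)) ?_
  refine kids_cons 21 3 rfl rfl (kid_child node2497 (by decide +kernel) (by decide +kernel) (by decide +kernel)) ?_
  refine kids_cons 22 2 rfl rfl (kid_prune (by decide +kernel)) ?_
  refine kids_cons 23 1 rfl rfl (kid_child node2498 (by decide +kernel) (by decide +kernel) (by decide +kernel)) ?_
  refine kids_cons 24 0 rfl rfl (kid_child node2499 (by decide +kernel) (by decide +kernel) (by decide +kernel)) ?_
  exact kids_nil 24

theorem node2513 : dfs 3 [8, 7, 6, 6, 6] 39 168 [1, 6, 2, 3, 7, 42, 14, 21, 4, 24, 8, 12, 28, 168, 56, 84, 2, 12, 4, 6, 14, 84, 28, 42, 2, 12, 4, 6, 14, 84, 28, 42] = true := by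
  refine node_of_kids 8 14 (by decide) (by decide) ?_
  refine kids_cons 9 13 rfl rfl (kid_child node2501 (by decide +kernel) (by decide +kernel) (by decide +kernel)) ?_
  refine kids_cons 10 12 rfl rfl (kid_child node2502 (by decide +kernel) (by decide +kernel) (by decide +kernel)) ?_
  refine kids_cons 11 11 rfl rfl (kid_child node2503 (by decide +kernel) (by decide +kernel) (by decide +kernel)) ?_
  refine kids_cons 12 10 rfl rfl (kid_child node2504 (by decide +kernel) (by decide +kernel) (by decide +kernel)) ?_
  refine kids_cons 13 9 rfl rfl (kid_child node2505 (by decide +kernel) (by decide +kernel) (by decide +kernel)) ?_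
  refine kids_cons 14 8 rfl rfl (kid_child node2506 (by decide +kernel) (by decide +kernel) (by decide +kernel)) ?_
  refine kids_cons 15 7 rfl rfl (kid_prune (by decide +kernel)) ?_
  refine kids_cons 16 6 rfl rfl (kid_child node2507 (by decide +kernel) (by decide +kernel) (by decide +kernel)) ?_
  refine kids_cons 17 5 rfl rfl (kid_child node2508 (by decide +kernel) (by decide +kernel) (by decide +kernel)) ?_
  refine kids_cons 18 4 rfl rfl (kid_child node2509 (by decide +kernel) (by decide +kernel) (by decide +kernel)) ?_
  refine kids_cons 19 3 rfl rfl (kid_child node2510 (by decide +kernel) (by decide +kernel) (by decide +kernel)) ?_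
  refine kids_cons 20 2 rfl rfl (kid_child node2511 (by decide +kernel) (by decide +kernel) (by decide +kernel)) ?_
  refine kids_cons 21 1 rfl rfl (kid_child node2512 (by decide +kernel) (by decide +kernel) (by decide +kernel)) ?_
  refine kids_cons 22 0 rfl rfl (kid_prune (by decide +kernel)) ?_
  exact kids_nil 22

theorem node2521 : dfs 4 [7, 6, 6, 6] 15 42 [1, 6, 2, 3, 7, 42, 14, 21] = true := by
  refine node_of_kids 7 10 (by decide) (by decide) ?_
  refine kids_cons 8 9 rfl rfl (kid_child node2500 (by decide +kernel) (by decide +kernel) (by decide +kernel)) ?_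
  refine kids_cons 9 8 rfl rfl (kid_child node2513 (by decide +kernel) (by decide +kernel) (by decide +kernel)) ?_
  refine kids_cons 10 7 rfl rfl (kid_child node2514 (by decide +kernel) (by decide +kernel) (by decide +kernel)) ?_
  refine kids_cons 11 6 rfl rfl (kid_child node2515 (by decide +kernel) (by decide +kernel) (by decide +kernel)) ?_
  refine kids_cons 12 5 rfl rfl (kid_child node2516 (by decide +kernel) (by decide +kernel) (by decide +kernel)) ?_
  refine kids_cons 13 4 rfl rfl (kid_child node2517 (by decide +kernel) (by decide +kernel) (by decide +kernel)) ?_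
  refine kids_cons 14 3 rfl rfl (kid_child node2518 (by decide +kernel) (by decide +kernel) (by decide +kernel)) ?_
  refine kids_cons 15 2 rfl rfl (kid_prune (by decide +kernel)) ?_
  refine kids_cons 16 1 rfl rfl (kid_child node2519 (by decide +kernel) (by decide +kernel) (by decide +kernel)) ?_
  refine kids_cons 17 0 rfl rfl (kid_child node2520 (by decide +kernel) (by decide +kernel) (by decide +kernel)) ?_
  exact kids_nil 17

theorem node2531 : dfs 4 [8, 6, 6, 6] 9 24 [1, 6, 2, 3, 4, 24, 8, 12, 2, 12, 4, 6, 2, 12, 4, 6] = true := by
  refine node_of_kids 8 9 (by decide) (by decide) ?_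
  refine kids_cons 9 8 rfl rfl (kid_child node2522 (by decide +kernel) (by decide +kernel) (by decide +kernel)) ?_
  refine kids_cons 10 7 rfl rfl (kid_child node2523 (by decide +kernel) (by decide +kernel) (by decide +kernel)) ?_
  refine kids_cons 11 6 rfl rfl (kid_child node2524 (by decide +kernel) (by decide +kernel) (by decide +kernel)) ?_
  refine kids_cons 12 5 rfl rfl (kid_child node2525 (by decide +kernel) (by decide +kernel) (by decide +kernel)) ?_
  refine kids_cons 13 4 rfl rfl (kid_child node2526 (by decide +kernel) (by decide +kernel) (by decide +kernel)) ?_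
  refine kids_cons 14 3 rfl rfl (kid_child node2527 (by decide +kernel) (by decide +kernel) (by decide +kernel)) ?_
  refine kids_cons 15 2 rfl rfl (kid_child node2528 (by decide +kernel) (by decide +kernel) (by decide +kernel)) ?_
  refine kids_cons 16 1 rfl rfl (kid_child node2529 (by decide +kernel) (by decide +kernel) (by decide +kernel)) ?_
  refine kids_cons 17 0 rfl rfl (kid_child node2530 (by decide +kernel) (by decide +kernel) (by decide +kernel)) ?_
  exact kids_nil 17

theorem node2538 : dfs 5 [6, 6, 6] 3 6 [1, 6, 2, 3] = true := by
  refine node_of_kids 6 9 (by decide) (by decide) ?_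
  refine kids_cons 7 8 rfl rfl (kid_child node2485 (by decide +kernel) (by decide +kernel) (by decide +kernel)) ?_
  refine kids_cons 8 7 rfl rfl (kid_child node2521 (by decide +kernel) (by decide +kernel) (by decide +kernel)) ?_
  refine kids_cons 9 6 rfl rfl (kid_child node2531 (by decide +kernel) (by decide +kernel) (by decide +kernel)) ?_
  refine kids_cons 10 5 rfl rfl (kid_child node2532 (by decide +kernel) (by decide +kernel) (by decide +kernel)) ?_
  refine kids_cons 11 4 rfl rfl (kid_child node2533 (by decide +kernel) (by decide +kernel) (by decide +kernel)) ?_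
  refine kids_cons 12 3 rfl rfl (kid_child node2534 (by decide +kernel) (by decide +kernel) (by decide +kernel)) ?_
  refine kids_cons 13 2 rfl rfl (kid_child node2535 (by decide +kernel) (by decide +kernel) (by decide +kernel)) ?_
  refine kids_cons 14 1 rfl rfl (kid_child node2536 (by decide +kernel) (by decide +kernel) (by decide +kernel)) ?_
  refine kids_cons 15 0 rfl rfl (kid_child node2537 (by decide +kernel) (by decide +kernel) (by decide +kernel)) ?_
  exact kids_nil 15

theorem node2550 : dfs 3 [7, 7, 7, 6, 6] 10 42 [1, 6, 2, 3, 7, 42, 14, 21] = true := by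
  refine node_of_kids 7 15 (by decide) (by decide) ?_
  refine kids_cons 8 14 rfl rfl (kid_prune (by decide +kernel)) ?_
  refine kids_cons 9 13 rfl rfl (kid_child node2539 (by decide +kernel) (by decide +kernel) (by decide +kernel)) ?_
  refine kids_cons 10 12 rfl rfl (kid_child node2540 (by decide +kernel) (by decide +kernel) (by decide +kernel)) ?_
  refine kids_cons 11 11 rfl rfl (kid_child node2541 (by decide +kernel) (by decide +kernel) (by decide +kernel)) ?_
  refine kids_cons 12 10 rfl rfl (kid_child node2542 (by decide +kernel) (by decide +kernel) (by decide +kernel)) ?_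
  refine kids_cons 13 9 rfl rfl (kid_child node2543 (by decide +kernel) (by decide +kernel) (by decide +kernel)) ?_
  refine kids_cons 14 8 rfl rfl (kid_child node2544 (by decide +kernel) (by decide +kernel) (by decide +kernel)) ?_
  refine kids_cons 15 7 rfl rfl (kid_prune (by decide +kernel)) ?_
  refine kids_cons 16 6 rfl rfl (kid_child node2545 (by decide +kernel) (by decide +kernel) (by decide +kernel)) ?_
  refine kids_cons 17 5 rfl rfl (kid_child node2546 (by decide +kernel) (by decide +kernel) (by decide +kernel)) ?_
  refine kids_cons 18 4 rfl rfl (kid_prune (by decide +kernel)) ?_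
  refine kids_cons 19 3 rfl rfl (kid_child node2547 (by decide +kernel) (by decide +kernel) (by decide +kernel)) ?_
  refine kids_cons 20 2 rfl rfl (kid_child node2548 (by decide +kernel) (by decide +kernel) (by decide +kernel)) ?_
  refine kids_cons 21 1 rfl rfl (kid_child node2549 (by decide +kernel) (by decide +kernel) (by decide +kernel)) ?_
  refine kids_cons 22 0 rfl rfl (kid_prune (by decide +kernel)) ?_
  exact kids_nil 22

theorem node2558 : dfs 4 [7, 7, 6, 6] 16 42 [1, 6, 2, 3, 7, 42, 14, 21] = true := by
  refine node_of_kids 7 9 (by decide) (by decide) ?_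
  refine kids_cons 8 8 rfl rfl (kid_child node2550 (by decide +kernel) (by decide +kernel) (by decide +kernel)) ?_
  refine kids_cons 9 7 rfl rfl (kid_child node2551 (by decide +kernel) (by decide +kernel) (by decide +kernel)) ?_
  refine kids_cons 10 6 rfl rfl (kid_child node2552 (by decide +kernel) (by decide +kernel) (by decide +kernel)) ?_
  refine kids_cons 11 5 rfl rfl (kid_child node2553 (by decide +kernel) (by decide +kernel) (by decide +kernel)) ?_
  refine kids_cons 12 4 rfl rfl (kid_child node2554 (by decide +kernel) (by decide +kernel) (by decide +kernel)) ?_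
  refine kids_cons 13 3 rfl rfl (kid_child node2555 (by decide +kernel) (by decide +kernel) (by decide +kernel)) ?_
  refine kids_cons 14 2 rfl rfl (kid_child node2556 (by decide +kernel) (by decide +kernel) (by decide +kernel)) ?_
  refine kids_cons 15 1 rfl rfl (kid_prune (by decide +kernel)) ?_
  refine kids_cons 16 0 rfl rfl (kid_child node2557 (by decide +kernel) (by decide +kernel) (by decide +kernel)) ?_
  exact kids_nil 16

theorem node2565 : dfs 5 [7, 6, 6] 22 42 [1, 6, 2, 3, 7, 42, 14, 21] = true := by
  refine node_of_kids 7 7 (by decide) (by decide) ?_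
  refine kids_cons 8 6 rfl rfl (kid_child node2558 (by decide +kernel) (by decide +kernel) (by decide +kernel)) ?_
  refine kids_cons 9 5 rfl rfl (kid_child node2559 (by decide +kernel) (by decide +kernel) (by decide +kernel)) ?_
  refine kids_cons 10 4 rfl rfl (kid_child node2560 (by decide +kernel) (by decide +kernel) (by decide +kernel)) ?_
  refine kids_cons 11 3 rfl rfl (kid_child node2561 (by decide +kernel) (by decide +kernel) (by decide +kernel)) ?_
  refine kids_cons 12 2 rfl rfl (kid_child node2562 (by decide +kernel) (by decide +kernel) (by decide +kernel)) ?_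
  refine kids_cons 13 1 rfl rfl (kid_child node2563 (by decide +kernel) (by decide +kernel) (by decide +kernel)) ?_
  refine kids_cons 14 0 rfl rfl (kid_child node2564 (by decide +kernel) (by decide +kernel) (by decide +kernel)) ?_
  exact kids_nil 14

theorem node2571 : dfs 5 [8, 6, 6] 13 24 [1, 6, 2, 3, 4, 24, 8, 12, 2, 12, 4, 6, 2, 12, 4, 6] = true := by
  refine node_of_kids 8 5 (by decide) (by decide) ?_
  refine kids_cons 9 4 rfl rfl (kid_child node2566 (by decide +kernel) (by decide +kernel) (by decide +kernel)) ?_
  refine kids_cons 10 3 rfl rfl (kid_child node2567 (by decide +kernel) (by decide +kernel) (by decide +kernel)) ?_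
  refine kids_cons 11 2 rfl rfl (kid_child node2568 (by decide +kernel) (by decide +kernel) (by decide +kernel)) ?_
  refine kids_cons 12 1 rfl rfl (kid_child node2569 (by decide +kernel) (by decide +kernel) (by decide +kernel)) ?_
  refine kids_cons 13 0 rfl rfl (kid_child node2570 (by decide +kernel) (by decide +kernel) (by decide +kernel)) ?_
  exact kids_nil 13

theorem node2576 : dfs 6 [6, 6] 4 6 [1, 6, 2, 3] = true := by
  refine node_of_kids 6 7 (by decide) (by decide) ?_
  refine kids_cons 7 6 rfl rfl (kid_child node2538 (by decide +kernel) (by decide +kernel) (by decide +kernel)) ?_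
  refine kids_cons 8 5 rfl rfl (kid_child node2565 (by decide +kernel) (by decide +kernel) (by decide +kernel)) ?_
  refine kids_cons 9 4 rfl rfl (kid_child node2571 (by decide +kernel) (by decide +kernel) (by decide +kernel)) ?_
  refine kids_cons 10 3 rfl rfl (kid_child node2572 (by decide +kernel) (by decide +kernel) (by decide +kernel)) ?_
  refine kids_cons 11 2 rfl rfl (kid_child node2573 (by decide +kernel) (by decide +kernel) (by decide +kernel)) ?_
  refine kids_cons 12 1 rfl rfl (kid_child node2574 (by decide +kernel) (by decide +kernel) (by decide +kernel)) ?_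
  refine kids_cons 13 0 rfl rfl (kid_child node2575 (by decide +kernel) (by decide +kernel) (by decide +kernel)) ?_
  exact kids_nil 13

theorem node2582 : dfs 6 [7, 6] 29 42 [1, 6, 2, 3, 7, 42, 14, 21] = true := by
  refine node_of_kids 7 5 (by decide) (by decide) ?_
  refine kids_cons 8 4 rfl rfl (kid_child node2577 (by decide +kernel) (by decide +kernel) (by decide +kernel)) ?_
  refine kids_cons 9 3 rfl rfl (kid_child node2578 (by decide +kernel) (by decide +kernel) (by decide +kernel)) ?_
  refine kids_cons 10 2 rfl rfl (kid_child node2579 (by decide +kernel) (by decide +kernel) (by decide +kernel)) ?_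
  refine kids_cons 11 1 rfl rfl (kid_child node2580 (by decide +kernel) (by decide +kernel) (by decide +kernel)) ?_
  refine kids_cons 12 0 rfl rfl (kid_child node2581 (by decide +kernel) (by decide +kernel) (by decide +kernel)) ?_
  exact kids_nil 12

theorem node2586 : dfs 7 [6] 5 6 [1, 6, 2, 3] = true := by
  refine node_of_kids 6 5 (by decide) (by decide) ?_
  refine kids_cons 7 4 rfl rfl (kid_child node2576 (by decide +kernel) (by decide +kernel) (by decide +kernel)) ?_
  refine kids_cons 8 3 rfl rfl (kid_child node2582 (by decide +kernel) (by decide +kernel) (by decide +kernel)) ?_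
  refine kids_cons 9 2 rfl rfl (kid_child node2583 (by decide +kernel) (by decide +kernel) (by decide +kernel)) ?_
  refine kids_cons 10 1 rfl rfl (kid_child node2584 (by decide +kernel) (by decide +kernel) (by decide +kernel)) ?_
  refine kids_cons 11 0 rfl rfl (kid_child node2585 (by decide +kernel) (by decide +kernel) (by decide +kernel)) ?_
  exact kids_nil 11

theorem node2591 : dfs 8 [] 1 1 [1] = true := by
  refine node_of_kids 5 6 (by decide) (by decide) ?_
  refine kids_cons 6 5 rfl rfl (kid_child node2180 (by decide +kernel) (by decide +kernel) (by decide +kernel)) ?_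
  refine kids_cons 7 4 rfl rfl (kid_child node2586 (by decide +kernel) (by decide +kernel) (by decide +kernel)) ?_
  refine kids_cons 8 3 rfl rfl (kid_child node2587 (by decide +kernel) (by decide +kernel) (by decide +kernel)) ?_
  refine kids_cons 9 2 rfl rfl (kid_child node2588 (by decide +kernel) (by decide +kernel) (by decide +kernel)) ?_
  refine kids_cons 10 1 rfl rfl (kid_child node2589 (by decide +kernel) (by decide +kernel) (by decide +kernel)) ?_
  refine kids_cons 11 0 rfl rfl (kid_child node2590 (by decide +kernel) (by decide +kernel) (by decide +kernel)) ?_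
  exact kids_nil 11

theorem check_eq_true : check = true := node2591

end CfsgLib.Spor.TenClasses
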