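import Cfsg.Agent.Lib.Spor.NineClasses.Prime
import Cfsg.Agent.Lib.Spor.TenClasses.DihedralBoth
import Cfsg.Agent.Lib.Small.Count

/-!
# Ten classes: no simple group of order 12960 with a self-centralising element of order five
-/

set_option autoImplicit false
set_option linter.style.haveILetI false
set_option linter.unusedSectionVars false

open Subgroup

namespace CfsgLib.Spor.TenClasses

open CfsgLib.Small CfsgLib.Spor.NineClasses

variable {G : Type*} [Group G] [Finite G] [IsSimpleGroup G]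

set_option maxRecDepth 100000 in
/-- The degrees allowed by a dihedral normalizer of order ten in a group of order 12960. -/
theorem candidates_12960 : ((Nat.divisors 2592) ×ˢ (Nat.divisors 2592)).filter
      (fun q : ℕ × ℕ => 1 < q.1 ∧ 1 < q.2 ∧
        ((q.1 % 5 = 1 ∧ q.2 = q.1 + 1) ∨ ((q.1 + 1) % 5 = 0 ∧ q.2 + 1 = q.1))) =
      {(4, 3), (9, 8)} := by
  decide +kernel

set_option maxRecDepth 100000 in
/-- No simple group of order 12960 has an element with centraliser of order five. -/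
theorem false_12960 (hG : ¬ IsMulCommutative G) (hcard : Nat.card G = 12960) {u : G}
    (hu1 : u ≠ 1) (hu5 : cord u = 5) : False := by
  classical
  haveI := Fact.mk (show Nat.Prime 5 by norm_num)
  haveI := Fintype.ofFinite G
  obtain ⟨hu, hsq, -⟩ := prime_cord (by norm_num) hu1 hu5
  have hC1 : centralizer ((zpowers u : Subgroup G) : Set G) = zpowers u := by
    rw [show centralizer ((zpowers u : Subgroup G) : Set G) = centralizer ({u} : Set G) by
      rw [zpowers_eq_closure, centralizer_closure]]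
    exact (eq_of_le_of_card_ge (zpowers_le.2 (mem_centralizer_of_commute (Commute.refl u)))
      (by rw [Nat.card_zpowers, hu]; exact le_of_eq hu5)).symm
  obtain ⟨P, hP⟩ := (IsPGroup.of_card (p := 5) (n := 1)
    (show Nat.card (zpowers u) = 5 ^ 1 by rw [Nat.card_zpowers, hu, pow_one])).exists_le_sylow
  have hPc : Nat.card (P : Subgroup G) = 5 :=
    (card_sylow_eq (p := 5) 1 2592 (by rw [hcard]; norm_num) (by norm_num) P).trans (pow_one 5)
  have hPz : zpowers u = (P : Subgroup G) :=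
    eq_of_le_of_card_ge hP (by rw [hPc, Nat.card_zpowers, hu])
  obtain ⟨e, he1, hed, hce⟩ := exists_normalizer_centralizer hG P hPc
  rw [← hPz, hC1, Nat.card_zpowers, hu] at hce
  have hmul := card_normalizer_mul P
  rw [← hPz, ← hce, hcard] at hmul
  have he : e = 2 := by
    have h := card_sylow_modEq_one 5 G
    have hle := Nat.le_of_dvd (by norm_num) hed
    unfold Nat.ModEq at h
    norm_num at hed hle
    interval_cases e <;> omega
  subst he
  obtain ⟨d, f, a, ε, ha, hε, hmod, heq, hd, hf, hdN, hfN, hpd, hpf, hinv⟩ :=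
    dihedral_data_both hG u hu hsq hC1 hce.symm (by norm_num)
  rw [hcard, show (12960 : ℕ) = 2592 * 5 from by norm_num] at hdN hfN
  have hcand := mem_dihedral_candidates (N := 2592) (by norm_num) ha hε hmod heq hd hf
    hdN hfN hpd hpf
  rw [candidates_12960] at hcand
  simp only [Finset.mem_insert, Finset.mem_singleton, Prod.mk.injEq] at hcand
  obtain ⟨z, hz, hzc⟩ := exists_central (G := G) Nat.prime_two (by rw [hcard]; norm_num)
  obtain ⟨k, hk⟩ := hzc 5 (by rw [hcard]; norm_num)
  obtain ⟨w, hw0, hw1, hw2, hc⟩ := hinv z hz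
  rw [← cord, hk, hcard] at hc
  rcases hcand with ⟨rfl, rfl⟩ | ⟨rfl, rfl⟩
  · have hk3 : k < 3 := by nlinarith [Nat.mul_le_mul hw2.le hw2.le]
    interval_cases k <;> interval_cases w <;> omega
  · have hk4 : k < 4 := by nlinarith [Nat.mul_le_mul hw2.le hw2.le]
    interval_cases k <;> interval_cases w <;> omega

/-- The vectors of order 12960. -/
def vecs129 : List (List ℕ) :=
  [[5, 5, 6, 6, 9, 12, 18, 96, 162], [5, 5, 6, 8, 8, 8, 18, 648, 864],
    [5, 5, 6, 8, 8, 8, 24, 96, 162], [5, 5, 6, 8, 8, 8, 32, 48, 162],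
    [5, 5, 6, 8, 8, 9, 16, 162, 288], [5, 5, 6, 8, 8, 9, 18, 96, 162],
    [5, 5, 6, 8, 8, 12, 12, 96, 162], [5, 5, 6, 9, 9, 9, 12, 96, 162]]

theorem vecs129_dvd : ∀ c ∈ vecs129, 5 ∈ c ∧ (∀ x ∈ c, x ∣ 12960) ∧
    c.foldr Nat.lcm 1 = 12960 := by
  decide +kernel

theorem foldr_lcm_dvd {K : ℕ} : ∀ {c : List ℕ}, (∀ x ∈ c, x ∣ K) → c.foldr Nat.lcm 1 ∣ K
  | [], _ => one_dvd K
  | x :: c, h => Nat.lcm_dvd (h x List.mem_cons_self)
      (foldr_lcm_dvd fun y hy => h y (List.mem_cons_of_mem _ hy))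

/-- The order is 12960. -/
theorem card_of_vec129 {n : ℕ} (V : Vec G n) (hV : V.cs ∈ vecs129) : Nat.card G = 12960 := by
  obtain ⟨-, hall, hmin⟩ := vecs129_dvd _ hV
  refine Nat.dvd_antisymm (V.dvd_of_forall_dvd hall) (hmin ▸ foldr_lcm_dvd fun x hx => ?_)
  obtain ⟨i, rfl⟩ := V.mem_cs.1 hx
  exact cord_dvd _

/-- None of them occurs. -/
theorem ne_vecs129 (hG : ¬ IsMulCommutative G) {n : ℕ} (V : Vec G n) : V.cs ∉ vecs129 := by
  intro hV
  obtain ⟨i, hi⟩ := V.mem_cs.1 (vecs129_dvd _ hV).1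
  exact false_12960 hG (card_of_vec129 V hV) (V.ne_one i) hi

end CfsgLib.Spor.TenClasses
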