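import Cfsg.Agent.Lib.Spor.NineClasses.Vec

/-!
# Ten classes: the vector of order 16800

A Sylow subgroup of order 25 is abelian and every non-trivial element of it lies in the one class with
centraliser order 200, in which the Sylow subgroup is normal; so the 84 elements of that class would
split into sets of 24 elements.
-/

set_option autoImplicit false

open Subgroup

namespace CfsgLib.Spor.TenClasses

open CfsgLib.Spor.NineClasses

variable {G : Type*} [Group G] [Finite G]

/-- A subgroup of order `n` with one Sylow `p`-subgroup contains only one of `G` of full order. -/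
theorem eq_of_le_common {p : ℕ} [Fact p.Prime] {C : Subgroup G} (P Q : Sylow p G)
    (hP : (P : Subgroup G) ≤ C) (hQ : (Q : Subgroup G) ≤ C)
    (h : ∀ m, m ∣ Nat.card C → m % p = 1 → (Nat.card (P : Subgroup G)).Coprime m → m = 1) :
    P = Q := by
  have h1 : Nat.card (Sylow p C) = 1 := by
    refine h _ ((P.subtype hP).card_dvd_index.trans (index_dvd_card _)) ?_ ?_
    · have := card_sylow_modEq_one p C
      rw [Nat.ModEq, Nat.mod_eq_of_lt (Fact.out : p.Prime).one_lt] at this
      exact this
    · obtain ⟨k, hk⟩ := IsPGroup.iff_card.1 P.2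
      rw [hk]
      refine Nat.Coprime.pow_left _ (((Fact.out : p.Prime).coprime_iff_not_dvd).2 fun hd => ?_)
      have h' := card_sylow_modEq_one p C
      rw [Nat.ModEq, Nat.mod_eq_zero_of_dvd hd, Nat.mod_eq_of_lt (Fact.out : p.Prime).one_lt] at h'
      exact absurd h' (by norm_num)
  haveI := (Nat.card_eq_one_iff_unique.1 h1).1
  refine Sylow.ext ?_
  have := congrArg (fun S : Sylow p C => (S : Subgroup C).map C.subtype)
    (Subsingleton.elim (P.subtype hP) (Q.subtype hQ))
  simpa [Subgroup.subgroupOf_map_subtype, inf_eq_left.2 hP, inf_eq_left.2 hQ] using this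

/-- The vector of centraliser orders with group order 16800. -/
theorem ne_16800 (V : Vec G 9) : V.cs ≠ [6, 6, 6, 6, 7, 10, 12, 200, 480] := by
  classical
  intro hcs
  have hL : Nat.card G ∣ 16800 := V.dvd_of_forall_dvd (by rw [hcs]; decide)
  have hd : ∀ x ∈ V.cs, x ∣ Nat.card G := fun x hx => by
    obtain ⟨i, rfl⟩ := V.mem_cs.1 hx
    exact cord_dvd _
  have hG : Nat.card G = 16800 := by
    refine Nat.dvd_antisymm hL ?_
    have h := Nat.lcm_dvd (Nat.lcm_dvd (hd 200 (by rw [hcs]; decide)) (hd 480 (by rw [hcs]; decide)))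
      (hd 7 (by rw [hcs]; decide))
    exact h
  haveI := Fact.mk (show Nat.Prime 5 by norm_num)
  have hP : ∀ P : Sylow 5 G, Nat.card (P : Subgroup G) = 5 ^ 2 := fun P => by
    have hf : (16800 : ℕ).factorization 5 = 2 := by
      rw [Nat.factorization_def _ (by norm_num)]
      refine le_antisymm ?_ ?_
      · by_contra hc
        have := (padicValNat_dvd_iff_le (p := 5) (n := 3) (show (16800 : ℕ) ≠ 0 by norm_num)).2 (by omega)
        norm_num at this
      · exact (padicValNat_dvd_iff_le (p := 5) (show (16800 : ℕ) ≠ 0 by norm_num)).1 (by norm_num)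
    rw [P.card_eq_multiplicity, hG, hf]
  -- a non-trivial element of a Sylow subgroup has centraliser order 200
  have hC : ∀ (P : Sylow 5 G) (y : G), y ∈ (P : Subgroup G) → y ≠ 1 →
      cord y = 200 ∧ (P : Subgroup G) ≤ centralizer ({y} : Set G) := by
    intro P y hy hy1
    have hle : (P : Subgroup G) ≤ centralizer ({y} : Set G) := fun z hz => by
      have hc : IsMulCommutative (P : Subgroup G) := ⟨⟨IsPGroup.commutative_of_card_eq_prime_sq (hP P)⟩⟩
      exact mem_centralizer_of_commute (congrArg Subtype.val (hc.is_comm.comm (⟨y, hy⟩ : (P : Subgroup G)) ⟨z, hz⟩))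
    refine ⟨?_, hle⟩
    have h25 : 25 ∣ cord y := by
      have := card_dvd_of_le hle
      rw [hP P] at this
      exact this
    have hm : cord y ∈ V.cs := by rw [← V.cord_idx y hy1]; exact V.mem_cs.2 ⟨_, rfl⟩
    rw [hcs] at hm
    simp only [List.mem_cons, List.not_mem_nil, or_false] at hm
    rcases hm with h | h | h | h | h | h | h | h | h <;> rw [h] at h25 ⊢ <;> omega
  -- one class has this order
  have hone : ∀ i j : Fin 9, cord (V.rep i) = 200 → cord (V.rep j) = 200 → i = j := by
    intro i j hi hj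
    have h : ∀ i : Fin 9, cord (V.rep i) = 200 → i = 7 := fun i hi => by
      rw [← V.getD_cs, hcs] at hi
      revert hi
      fin_cases i <;> decide
    rw [h i hi, h j hj]
  obtain ⟨P₀⟩ := (inferInstance : Nonempty (Sylow 5 G))
  obtain ⟨⟨y₀, hy₀⟩, ho₀⟩ := exists_prime_orderOf_dvd_card' (G := (P₀ : Subgroup G)) 5
    (by rw [hP]; norm_num)
  rw [Subgroup.orderOf_mk] at ho₀
  have hy₁ : y₀ ≠ 1 := fun h => by rw [h, orderOf_one] at ho₀; omega
  have hcount : Nat.card {g : G // g ≠ 1 ∧ cord g = 200} = 84 := by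
    rw [V.card_elems (fun g => g ≠ 1 ∧ cord g = 200) (fun a b hab ha => ⟨fun hb => ha.1 ?_, ?_⟩) (by simp)]
    · rw [Finset.sum_eq_single (7 : Fin 9) (fun i _ hi => if_neg fun h => hi ?_) (by simp)]
      · have h7 : cord (V.rep 7) = 200 := by rw [← V.getD_cs, hcs]; rfl
        rw [if_pos ⟨V.ne_one _, h7⟩, h7, hG]
      · exact hone i 7 h.2 (by rw [← V.getD_cs, hcs]; rfl)
    · subst hb; exact isConj_one_left.1 hab
    · rw [← cord_conj hab]; exact ha.2
  let f : (Σ Q : Sylow 5 G, {y : (Q : Subgroup G) // y ≠ 1}) → {g : G // g ≠ 1 ∧ cord g = 200} := fun z =>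
    ⟨(z.2.1 : G), fun h => z.2.2 (Subtype.ext h), (hC z.1 _ z.2.1.2 fun h => z.2.2 (Subtype.ext h)).1⟩
  have hf : Function.Bijective f := by
    constructor
    · rintro ⟨P, ⟨y, hy⟩, hy1⟩ ⟨Q, ⟨z, hz⟩, hz1⟩ e
      obtain rfl : y = z := congrArg Subtype.val e
      have hy1' : y ≠ 1 := fun h => hy1 (Subtype.ext h)
      obtain rfl : P = Q := eq_of_le_common P Q (hC P y hy hy1').2 (hC Q y hz hy1').2 fun m hm hmod hco => by
        change m ∣ cord y at hm
        rw [(hC P y hy hy1').1] at hm
        rw [hP P] at hco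
        have h8 : m ∣ 8 := (Nat.Coprime.symm hco).dvd_of_dvd_mul_left (by norm_num; exact hm)
        have := Nat.le_of_dvd (by norm_num) h8
        interval_cases m <;> omega
      rfl
    · rintro ⟨g, hg1, hg⟩
      have hconj : IsConj y₀ g := (V.idx_eq_iff hy₁ hg1).1
        (hone _ _ ((V.cord_idx y₀ hy₁).trans (hC P₀ y₀ hy₀ hy₁).1) ((V.cord_idx g hg1).trans hg))
      obtain ⟨Q, hQ⟩ := (IsPGroup.of_card (p := 5) (n := 1) (show Nat.card (zpowers g) = 5 ^ 1 by
        rw [Nat.card_zpowers, ← orderOf_conj hconj, ho₀, pow_one])).exists_le_sylow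
      exact ⟨⟨Q, ⟨g, hQ (mem_zpowers g)⟩, fun h => hg1 (congrArg Subtype.val h)⟩, rfl⟩
  haveI := Fintype.ofFinite (Sylow 5 G)
  rw [← Nat.card_eq_of_bijective f hf, Nat.card_sigma] at hcount
  have h24 : ∀ Q : Sylow 5 G, Nat.card {y : (Q : Subgroup G) // y ≠ 1} = 24 := fun Q => by
    haveI := Fintype.ofFinite (Q : Subgroup G)
    rw [Nat.card_eq_fintype_card, Fintype.card_subtype_compl, Fintype.card_subtype_eq,
      ← Nat.card_eq_fintype_card, hP]
    norm_num
  rw [Finset.sum_congr rfl fun Q _ => h24 Q, Finset.sum_const, smul_eq_mul] at hcount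
  omega

end CfsgLib.Spor.TenClasses
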