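import Cfsg.Agent.Lib.Spor.NineClasses.Prime

/-!
# Ten classes: the vectors of the orders 29160 and 174960
-/

set_option autoImplicit false

open Subgroup

namespace CfsgLib.Spor.TenClasses

open NineClasses

variable {G : Type*} [Group G] [Finite G] {n : ℕ}

/-- The classes with centraliser order divisible by `p²` account for all `p`-elements. -/
theorem sylow_count_le (V : Vec G n) {p k : ℕ} (hp : p.Prime) (h2 : p ^ 2 ∣ Nat.card G)
    (hk : p ^ k ∣ Nat.card G) :
    p ^ k ≤ (V.cs.map fun x => if x % (p * p) = 0 then Nat.card G / x else 0).sum + 1 := by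
  classical
  have : Fact p.Prime := ⟨hp⟩
  let Q : G → Prop := fun g => g ≠ 1 ∧ ∃ m, orderOf g = p ^ m
  have hQ : ∀ g : G, Q g → p ^ 2 ∣ cord g := by
    rintro g ⟨hg, m, hm⟩
    rcases Nat.lt_or_ge m 2 with h | h
    · rcases (show m = 0 ∨ m = 1 by omega) with rfl | rfl
      · exact absurd (orderOf_eq_one_iff.1 (by rw [hm, pow_zero])) hg
      · exact sq_dvd_centralizer hp (by rw [hm, pow_one]) h2
    · exact ((pow_dvd_pow p h).trans hm.symm.dvd).trans (orderOf_dvd_cord g)
  obtain ⟨S⟩ : Nonempty (Sylow p G) := inferInstance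
  have hS : p ^ k ≤ Nat.card (S : Subgroup G) :=
    Nat.le_of_dvd Nat.card_pos (S.pow_dvd_card_of_pow_dvd_card hk)
  have hinj : Nat.card (S : Subgroup G) ≤ Nat.card {g : G // Q g} + 1 := by
    let f : ↥(S : Subgroup G) → Option {g : G // Q g} := fun s =>
      if h : (s : G) = 1 then none else some ⟨(s : G), h, by
        obtain ⟨m, hm⟩ := IsPGroup.iff_orderOf.1 S.2 s
        exact ⟨m, by rw [Subgroup.orderOf_coe, hm]⟩⟩
    have hf : Function.Injective f := by
      intro a b hab
      simp only [f] at hab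
      split_ifs at hab with h1 h2
      · exact Subtype.ext (h1.trans h2.symm)
      · exact Subtype.ext (congrArg (fun o => o.map Subtype.val) hab |> Option.some.inj)
    exact (Nat.card_le_card_of_injective f hf).trans (by rw [Finite.card_option])
  have hcount := V.card_elems Q
    (fun a b hab ha => ⟨fun hb => ha.1 (by subst hb; exact isConj_one_left.1 hab),
      ha.2.imp fun m hm => (orderOf_conj hab).symm.trans hm⟩) (fun h => h.1 rfl)
  have hle : (∑ i : Fin n, if Q (V.rep i) then Nat.card G / cord (V.rep i) else 0) ≤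
      (V.cs.map fun x => if x % (p * p) = 0 then Nat.card G / x else 0).sum := by
    rw [Vec.cs, List.map_ofFn, List.sum_ofFn]
    refine Finset.sum_le_sum fun i _ => ?_
    by_cases h : Q (V.rep i)
    · rw [if_pos h, Function.comp_apply, if_pos]
      exact Nat.mod_eq_zero_of_dvd (by rw [← pow_two]; exact hQ _ h)
    · rw [if_neg h]; exact Nat.zero_le _
  omega

theorem card_eq_of_cs_eq (V : Vec G n) {l : List ℕ} {K : ℕ} (h : V.cs = l)
    (hK : ∀ x ∈ l, x ∣ K) (hl : K ∣ l.foldr Nat.lcm 1) : Nat.card G = K := by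
  refine Nat.dvd_antisymm (V.dvd_of_forall_dvd (h ▸ hK)) (hl.trans ?_)
  have hG : ∀ x ∈ l, x ∣ Nat.card G := by
    intro x hx
    rw [← h] at hx
    obtain ⟨i, rfl⟩ := V.mem_cs.1 hx
    exact cord_dvd _
  clear hl hK h
  induction l with
  | nil => simp
  | cons a l ih =>
    rw [List.foldr_cons]
    exact Nat.lcm_dvd (hG a List.mem_cons_self) (ih fun x hx => hG x (List.mem_cons_of_mem _ hx))

theorem not_29160 (V : Vec G 9) : V.cs ≠ [5, 5, 6, 6, 8, 8, 72, 486, 1458] := by
  intro h
  have hL : Nat.card G = 29160 :=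
    card_eq_of_cs_eq V h (by decide) (by decide +kernel)
  have := sylow_count_le V (p := 3) (k := 6) Nat.prime_three (by rw [hL]; norm_num)
    (by rw [hL]; norm_num)
  rw [h, hL] at this
  norm_num at this

theorem not_174960 (V : Vec G 9) : V.cs ≠ [5, 5, 6, 8, 8, 8, 18, 432, 2187] := by
  intro h
  have hL : Nat.card G = 174960 :=
    card_eq_of_cs_eq V h (by decide) (by decide +kernel)
  have hmem : ∀ g : G, g ≠ 1 → cord g ∈ ([5, 5, 6, 8, 8, 8, 18, 432, 2187] : List ℕ) :=
    fun g hg => h ▸ V.cord_idx g hg ▸ V.mem_cs.2 ⟨_, rfl⟩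
  obtain ⟨z, hz, hzc⟩ := exists_central (G := G) Nat.prime_two (by rw [hL]; norm_num)
  have hz1 : z ≠ 1 := by rintro rfl; simp at hz
  have h16 : 2 ^ 4 ∣ cord z := hzc 4 (by rw [hL]; norm_num)
  have hc : cord z = 432 := by
    have := hmem z hz1
    simp only [List.mem_cons, List.not_mem_nil, or_false] at this
    rcases this with e | e | e | e | e | e | e | e | e <;> rw [e] at h16 ⊢ <;> norm_num at h16
  obtain ⟨t, ht, htc⟩ := exists_central (G := centralizer ({z} : Set G)) Nat.prime_three
    (show 3 ∣ cord z by rw [hc]; norm_num)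
  have hto : orderOf (t : G) = 3 := by rw [Subgroup.orderOf_coe, ht]
  have ht1 : (t : G) ≠ 1 := by intro e; rw [e, orderOf_one] at hto; omega
  have h27 : 3 ^ 3 ∣ cord (t : G) := by
    refine (htc 3 (show 3 ^ 3 ∣ cord z by rw [hc]; norm_num)).trans ?_
    rw [cord, ← Subgroup.card_map_of_injective (centralizer ({z} : Set G)).subtype_injective]
    refine card_dvd_of_le ?_
    rintro _ ⟨y, hy, rfl⟩
    exact mem_centralizer_of_commute ((commute_of_mem_centralizer hy).map
      (centralizer ({z} : Set G)).subtype)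
  have hev : 2 ∣ cord (t : G) := by
    rw [← hz, cord, ← Nat.card_zpowers]
    exact card_dvd_of_le (zpowers_le.2
      (mem_centralizer_of_commute (commute_of_mem_centralizer t.2).symm))
  have hct : cord (t : G) = 432 := by
    have := hmem _ ht1
    simp only [List.mem_cons, List.not_mem_nil, or_false] at this
    rcases this with e | e | e | e | e | e | e | e | e <;> rw [e] at h27 hev ⊢ <;>
      first | rfl | omega
  have hcnt : V.cs.countP (fun x => x == 432) = 1 := by rw [h]; decide
  rw [V.countP_cs, Nat.card_eq_one_iff_unique] at hcnt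
  have := @Subsingleton.elim _ hcnt.1 ⟨V.idx z hz1, by rw [V.cord_idx, hc]; rfl⟩
    ⟨V.idx (t : G) ht1, by rw [V.cord_idx, hct]; rfl⟩
  have := congrArg (fun i => orderOf (V.rep i.1)) this
  simp only [V.orderOf_idx, hz, hto] at this
  omega

end CfsgLib.Spor.TenClasses
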