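import Cfsg.Agent.Lib.Spor.TenClasses.FrobKills
import Cfsg.Agent.Lib.Spor.NineClasses.Prime
import Cfsg.Agent.Lib.Small.Basic

/-!
# Ten classes: the remaining survivors without a second class at five

Frobenius' congruences, the number of Sylow 2-subgroups for the order 30720, and the normaliser
of a Sylow 3-subgroup of order three for the order 10752.
-/

set_option autoImplicit false
set_option linter.unusedSectionVars false
set_option linter.style.haveILetI false

open CfsgLib.Spor.NineClasses Subgroup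

namespace CfsgLib.Spor.TenClasses.Tagged

/-- Vectors killed by Frobenius' congruences, with the factorisation of the order. -/
def frobLists : List (List ℕ × List (ℕ × ℕ)) := [
  ([5, 6, 6, 6, 6, 8, 132, 1452, 15972], [(2, 3), (3, 1), (5, 1), (11, 3)]),
  ([5, 6, 6, 6, 6, 8, 183, 732, 732], [(2, 3), (3, 1), (5, 1), (61, 1)]),
  ([5, 6, 6, 6, 6, 8, 202, 404, 1212], [(2, 3), (3, 1), (5, 1), (101, 1)]),
  ([5, 6, 6, 6, 6, 8, 213, 426, 852], [(2, 3), (3, 1), (5, 1), (71, 1)]),
  ([5, 6, 6, 6, 6, 8, 262, 262, 1572], [(2, 3), (3, 1), (5, 1), (131, 1)]),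
  ([5, 6, 6, 6, 6, 8, 284, 284, 852], [(2, 3), (3, 1), (5, 1), (71, 1)]),
  ([5, 6, 6, 6, 6, 14, 24, 56, 448], [(2, 6), (3, 1), (5, 1), (7, 1)]),
  ([5, 6, 6, 6, 6, 22, 22, 24, 1408], [(2, 7), (3, 1), (5, 1), (11, 1)]),
  ([5, 6, 6, 6, 7, 7, 114, 228, 912], [(2, 4), (3, 1), (5, 1), (7, 1), (19, 1)]),
  ([5, 6, 6, 6, 7, 8, 78, 78, 156], [(2, 3), (3, 1), (5, 1), (7, 1), (13, 1)])]

theorem frobLists_kill : (frobLists.all fun q =>
    Frob.kill (q.1.foldr Nat.lcm 1) q.2 q.1) = true := by
  decide +kernel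

/-- The vectors of order 30720. -/
def lists30720 : List (List ℕ) :=
  [[5, 6, 6, 6, 6, 8, 192, 384, 2048], [5, 6, 6, 6, 6, 12, 24, 128, 2048],
    [5, 6, 6, 8, 8, 8, 12, 128, 2048]]

variable {G : Type*} [Group G] [Finite G]

/-- None of these vectors occurs. -/
theorem not_frobLists {n : ℕ} (V : Vec G n) : V.cs ∉ frobLists.map Prod.fst := by
  intro h
  obtain ⟨q, hq, e⟩ := List.mem_map.1 h
  exact Frob.ne_of_kill V (List.all_eq_true.1 frobLists_kill q hq) e.symm

variable [IsSimpleGroup G]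

/-- No simple group has order 30720. -/
theorem false_30720 (hG : ¬ IsMulCommutative G) (hL : Nat.card G = 30720) : False := by
  haveI : Fact (Nat.Prime 2) := ⟨Nat.prime_two⟩
  have h1 := CfsgLib.Small.card_sylow_dvd (p := 2) 11 15 (G := G) (by rw [hL]; norm_num) (by norm_num)
  have h2 := CfsgLib.Small.two_mul_card_dvd_factorial_sylow (p := 2) hG (by rw [hL]; norm_num)
  have hn : Nat.card (Sylow 2 G) ∈ Nat.divisors 15 := Nat.mem_divisors.2 ⟨h1, by norm_num⟩
  have key : ∀ n ∈ Nat.divisors 15, ¬ 61440 ∣ n.factorial := by decide +kernel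
  rw [hL] at h2
  exact key _ hn h2

/-- None of the vectors of order 30720 occurs. -/
theorem not_lists30720 (hG : ¬ IsMulCommutative G) {n : ℕ} (V : Vec G n) : V.cs ∉ lists30720 := by
  intro h
  refine false_30720 hG ?_
  rw [Frob.card_eq_lcm V]
  simp only [lists30720, List.mem_cons, List.not_mem_nil, or_false] at h
  rcases h with h | h | h <;> rw [h] <;> decide +kernel

/-- The vector of order 10752 does not occur. -/
theorem ne_10752 (hG : ¬ IsMulCommutative G) {n : ℕ} (V : Vec G n) :
    V.cs ≠ [6, 6, 6, 6, 7, 7, 24, 256, 512] := by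
  intro h
  haveI : Fact (Nat.Prime 3) := ⟨Nat.prime_three⟩
  have hL : Nat.card G = 10752 := by rw [Frob.card_eq_lcm V, h]; decide +kernel
  obtain ⟨P⟩ : Nonempty (Sylow 3 G) := inferInstance
  have hP : Nat.card (P : Subgroup G) = 3 :=
    (CfsgLib.Small.card_sylow_eq (p := 3) 1 3584 (by rw [hL]; norm_num) (by norm_num) P).trans
      (pow_one 3)
  obtain ⟨x, hx⟩ := exists_prime_orderOf_dvd_card' (G := (P : Subgroup G)) 3 (by rw [hP])
  have hxo : orderOf (x : G) = 3 := by rw [Subgroup.orderOf_coe, hx]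
  have hx1 : (x : G) ≠ 1 := fun e => by rw [e, orderOf_one] at hxo; omega
  have hz : zpowers (x : G) = (P : Subgroup G) :=
    eq_of_le_of_card_ge (zpowers_le.2 x.2) (by rw [hP, Nat.card_zpowers, hxo])
  obtain ⟨e, he1, hed, hce⟩ := CfsgLib.Small.exists_normalizer_centralizer hG P hP
  have hC : Nat.card (centralizer ((P : Subgroup G) : Set G)) = cord (x : G) := by
    have hCe : centralizer ((P : Subgroup G) : Set G) = centralizer ({(x : G)} : Set G) :=
      (congrArg (fun H : Subgroup G => centralizer (H : Set G)) hz.symm).trans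
        (by simp only [zpowers_eq_closure, centralizer_closure])
    rw [hCe]
    rfl
  have he : e = 2 := by have := Nat.le_of_dvd (by norm_num) hed; omega
  have hmem : cord (x : G) ∈ V.cs := V.mem_cs.2 ⟨V.idx _ hx1, V.cord_idx _ hx1⟩
  have h3 : 3 ∣ cord (x : G) := by
    have h' := orderOf_dvd_cord (x : G)
    rwa [hxo] at h'
  have hmul := CfsgLib.Small.card_normalizer_mul P
  rw [← hce, hC, he, hL] at hmul
  have hmod := card_sylow_modEq_one 3 G
  unfold Nat.ModEq at hmod
  simp only [h, List.mem_cons, List.not_mem_nil, or_false] at hmem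
  rcases hmem with h' | h' | h' | h' | h' | h' | h' | h' | h' <;> rw [h'] at h3 hmul <;> omega

end CfsgLib.Spor.TenClasses.Tagged
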