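import Cfsg.Agent.Lib.Spor.NineClasses.Vec

/-!
# No ten classes with group order 11760

The elements of a Sylow 7-subgroup of order 49 would all lie in the one class of size 20.
-/

set_option autoImplicit false

open Subgroup CfsgLib.Spor.NineClasses

namespace CfsgLib.Spor.TenClasses

variable {G : Type*} [Group G] [Finite G]

/-- The vector of centraliser orders with group order 11760 does not occur. -/
theorem ne_11760_a (V : NineClasses.Vec G 9) : V.cs ≠ [5, 5, 6, 6, 6, 16, 42, 84, 588] := by
  intro h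
  haveI : Fact (Nat.Prime 7) := ⟨by norm_num⟩
  have hd : ∀ x ∈ V.cs, x ∣ Nat.card G := fun x hx => by
    obtain ⟨i, rfl⟩ := V.mem_cs.1 hx
    exact cord_dvd _
  have hL : Nat.card G = 11760 := by
    refine Nat.dvd_antisymm (V.dvd_of_forall_dvd (by rw [h]; decide)) ?_
    rw [h] at hd
    have h5 := hd 5 (by decide)
    have h16 := hd 16 (by decide)
    have h588 := hd 588 (by decide)
    exact (Nat.lcm_dvd (Nat.lcm_dvd h5 h16) h588 : Nat.lcm (Nat.lcm 5 16) 588 ∣ Nat.card G)
  obtain ⟨P, hP⟩ := Sylow.exists_subgroup_card_pow_prime (G := G) 7 (n := 2)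
    (by rw [hL]; norm_num)
  have hcomm : ∀ a ∈ P, ∀ b ∈ P, Commute a b := fun a ha b hb =>
    congrArg Subtype.val
      ((IsPGroup.commutative_of_card_eq_prime_sq hP) ⟨a, ha⟩ ⟨b, hb⟩)
  have key : ∀ y ∈ P, y ≠ 1 → IsConj (V.rep 8) y := by
    intro y hy hy1
    have hdvd : 49 ∣ cord y := by
      have := card_dvd_of_le (H := P) (K := centralizer ({y} : Set G))
        fun b hb => mem_centralizer_of_commute (hcomm y hy b hb)
      rw [hP] at this
      exact this
    have hidx : ∀ i : Fin 9, 49 ∣ ([5, 5, 6, 6, 6, 16, 42, 84, 588] : List ℕ).getD i 0 → i = 8 := by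
      decide
    have hi : V.idx y hy1 = 8 := hidx _ (by rw [← h, V.getD_cs, V.cord_idx]; exact hdvd)
    exact hi ▸ V.isConj_idx y hy1
  have h20 : Nat.card {y : G // IsConj (V.rep 8) y} = 20 := by
    rw [card_isConj, hL, ← V.getD_cs, h]
    rfl
  have hle := Nat.card_le_card_of_injective
    (fun y : {y : P // y ≠ 1} => (⟨(y.1 : G), key _ y.1.2 fun e => y.2 (Subtype.ext e)⟩ :
      {y : G // IsConj (V.rep 8) y}))
    (fun a b e => Subtype.ext (Subtype.ext (congrArg (fun z => z.1) e)))
  haveI : Fintype P := Fintype.ofFinite P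
  classical
  rw [h20, Nat.card_eq_fintype_card, Fintype.card_subtype_compl, Fintype.card_subtype_eq,
    ← Nat.card_eq_fintype_card, hP] at hle
  norm_num at hle

end CfsgLib.Spor.TenClasses
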