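import Cfsg.Agent.Lib.Spor.TenClasses.DihedralValues
import Cfsg.Agent.Lib.Spor.NineClasses.Prime

/-!
# Vectors of ten classes in groups of order 20160
-/

set_option autoImplicit false
set_option linter.style.haveILetI false

open Subgroup

namespace CfsgLib.Spor.TenClasses

open CfsgLib.Spor.NineClasses

universe u

variable {G : Type u} [Group G] [Finite G] [IsSimpleGroup G]

/-- A Sylow five-subgroup of order five in a group of order 20160 has dihedral normalizer. -/
theorem exists_five (hG : ¬ IsMulCommutative G) (hL : Nat.card G = 20160) {u : G}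
    (hu : orderOf u = 5) (hc : cord u = 5) :
    centralizer ((zpowers u : Subgroup G) : Set G) = zpowers u ∧
      Nat.card (normalizer ((zpowers u : Subgroup G) : Set G)) = 5 * 2 := by
  haveI : Fact (Nat.Prime 5) := ⟨by norm_num⟩
  have hC : centralizer ((zpowers u : Subgroup G) : Set G) = zpowers u := by
    rw [zpowers_eq_closure, centralizer_closure]
    refine (Subgroup.eq_of_le_of_card_ge ?_ ?_).symm
    · rw [← zpowers_eq_closure]
      exact zpowers_le.2 (mem_centralizer_singleton_iff.2 rfl)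
    · rw [← zpowers_eq_closure, Nat.card_zpowers, hu]
      exact le_of_eq hc
  obtain ⟨P, hle⟩ := (IsPGroup.of_card (p := 5) (n := 1)
    (show Nat.card (zpowers u) = 5 ^ 1 by rw [Nat.card_zpowers, hu, pow_one])).exists_le_sylow
  have hP : Nat.card (P : Subgroup G) = 5 := by
    simpa using CfsgLib.Small.card_sylow_eq (p := 5) 1 4032 (by rw [hL]; rfl) (by norm_num) P
  have hz : zpowers u = (P : Subgroup G) :=
    Subgroup.eq_of_le_of_card_ge hle (by rw [hP, Nat.card_zpowers, hu])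
  obtain ⟨e, he1, hed, hce⟩ := CfsgLib.Small.exists_normalizer_centralizer hG P hP
  rw [← hz, hC, Nat.card_zpowers, hu] at hce
  refine ⟨hC, ?_⟩
  rw [← hce]
  have hn : Nat.card (Sylow 5 G) % 5 = 1 :=
    Eq.trans (card_sylow_modEq_one 5 G) (Nat.mod_eq_of_lt (by norm_num))
  have hm : Nat.card (Sylow 5 G) * (5 * e) = 20160 := by
    rw [hce, hz, Sylow.card_eq_index_normalizer P, ← hL]
    exact Subgroup.index_mul_card _
  have hle4 : e ≤ 4 := Nat.le_of_dvd (by norm_num) hed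
  interval_cases e <;> omega

set_option maxRecDepth 100000 in
/-- The arithmetic at an involution. -/
theorem cent_arith : ∀ c ∈ Nat.divisors 20160, 64 ∣ c →
    ∀ q ∈ ([(4, 3), (6, 7), (9, 8)] : List (ℕ × ℕ)), ∀ z < 19,
      c ^ 2 * 5 * q.1 * q.2 ≠ 20160 * z ^ 2 := by
  decide +kernel

set_option maxRecDepth 100000 in
/-- The candidates of the degree equation. -/
theorem five_candidates : ((Nat.divisors 4032) ×ˢ (Nat.divisors 4032)).filter
    (fun q : ℕ × ℕ => 1 < q.1 ∧ 1 < q.2 ∧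
      ((q.1 % 5 = 1 ∧ q.2 = q.1 + 1) ∨ ((q.1 + 1) % 5 = 0 ∧ q.2 + 1 = q.1))) =
    ({(4, 3), (6, 7), (9, 8), (64, 63)} : Finset (ℕ × ℕ)) := by
  decide +kernel

set_option maxRecDepth 100000 in
set_option synthInstance.maxSize 4096 in
/-- The orders allowed by the sum of squares. -/
theorem cord_cases : ∀ c < (74 : ℕ), 56 ≤ c → c ∣ 20160 → 2 ∣ c →
    1 + (64 - (c : ℤ)) ^ 2 + (1 + -1 * (64 - (c : ℤ))) ^ 2 ≤ (c : ℤ) → c = 60 ∨ c = 64 := by
  decide +kernel

set_option maxRecDepth 20000 in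
/-- Every involution has a centraliser of order 60 or 64. -/
theorem involution_cord (hG : ¬ IsMulCommutative G) (hL : Nat.card G = 20160) {u : G}
    (hu : orderOf u = 5) (hc : cord u = 5) {t : G} (ht : orderOf t = 2) :
    cord t = 60 ∨ cord t = 64 := by
  classical
  haveI : Fact (Nat.Prime 5) := ⟨by norm_num⟩
  haveI := Fintype.ofFinite G
  obtain ⟨hC, hN⟩ := exists_five hG hL hu hc
  obtain ⟨d, f, a, ε, ha, hε, hmod, heq, hd1, hf1, hdG, hfG, hd5, hf5, hall⟩ :=
    dihedral_values (p := 5) hG u hu (by rw [hL]; norm_num) hC hN le_rfl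
  have h20 : Nat.card G = 4032 * 5 := hL
  have hq := CfsgLib.Small.mem_dihedral_candidates (p := 5) (N := 4032) (by norm_num) ha hε hmod heq
    hd1 hf1 (h20 ▸ hdG) (h20 ▸ hfG) hd5 hf5
  rw [five_candidates] at hq
  obtain ⟨z, hz2, hz64⟩ := exists_central (p := 2) Nat.prime_two (by rw [hL]; norm_num : 2 ∣ Nat.card G)
  have h64 : 64 ∣ cord z := hz64 6 (by rw [hL]; norm_num)
  obtain ⟨x, hx, hxe, -⟩ := hall z hz2
  have hmain : d = 64 ∧ f = 63 := by
    simp only [Finset.mem_insert, Finset.mem_singleton, Prod.mk.injEq] at hq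
    rw [hL] at hxe
    have hdiv : cord z ∈ Nat.divisors 20160 := Nat.mem_divisors.2 ⟨hL ▸ cord_dvd z, by norm_num⟩
    have hzlt : ((d : ℤ) - x).natAbs ≤ 2 * d := by omega
    rcases hq with ⟨rfl, rfl⟩ | ⟨rfl, rfl⟩ | ⟨rfl, rfl⟩ | ⟨rfl, rfl⟩
    · exact absurd hxe (cent_arith _ hdiv h64 (4, 3) (by simp) _ (by omega))
    · exact absurd hxe (cent_arith _ hdiv h64 (6, 7) (by simp) _ (by omega))
    · exact absurd hxe (cent_arith _ hdiv h64 (9, 8) (by simp) _ (by omega))
    · exact ⟨rfl, rfl⟩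
  obtain ⟨rfl, rfl⟩ := hmain
  obtain rfl : a = -1 := by
    rcases ha with rfl | rfl
    · exfalso; rw [Int.modEq_iff_dvd] at hmod; norm_num at hmod
    · rfl
  obtain ⟨y, hy, hye, hsq⟩ := hall t ht
  rw [hL, show Nat.card (centralizer ({t} : Set G)) = cord t from rfl] at hye
  rw [show Nat.card (centralizer ({t} : Set G)) = cord t from rfl] at hsq
  have hce : cord t = ((64 : ℤ) - y).natAbs := by
    refine Nat.pow_left_injective two_ne_zero ?_
    refine Nat.eq_of_mul_eq_mul_left (show 0 < 20160 by norm_num) ?_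
    simp only [Nat.cast_ofNat] at hye ⊢
    rw [← hye]
    ring
  have hy' : (cord t : ℤ) = 64 - y := by omega
  obtain rfl : y = 64 - (cord t : ℤ) := by omega
  have hb : 56 ≤ cord t ∧ cord t < 74 := by
    constructor
    · by_contra h
      nlinarith
    · by_contra h
      nlinarith
  exact cord_cases _ hb.2 hb.1 (hL ▸ cord_dvd t) (ht ▸ orderOf_dvd_cord t) hsq

/-- Every even centraliser order divides 64, given the classes. -/
theorem even_cord_dvd (hG : ¬ IsMulCommutative G) (hL : Nat.card G = 20160) {u : G}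
    (hu : orderOf u = 5) (hc : cord u = 5) (h60 : ∀ g : G, cord g ≠ 60) {g : G} (hg : g ≠ 1)
    (h2 : 2 ∣ cord g) : cord g ∣ 64 := by
  haveI : Fact (Nat.Prime 2) := ⟨Nat.prime_two⟩
  have hinv : ∀ t : G, orderOf t = 2 → cord t = 64 := fun t ht =>
    (involution_cord hG hL hu hc ht).resolve_left (h60 t)
  obtain ⟨t, ht⟩ := exists_prime_orderOf_dvd_card' (G := centralizer ({g} : Set G)) 2 h2
  have ht2 : orderOf (t : G) = 2 := by rw [Subgroup.orderOf_coe]; exact ht
  have hgo : orderOf g ∣ 64 := by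
    have hmem : g ∈ centralizer ({(t : G)} : Set G) :=
      mem_centralizer_of_commute (commute_of_mem_centralizer t.2).symm
    have h := orderOf_dvd_natCard _ hmem
    rwa [show Nat.card (centralizer ({(t : G)} : Set G)) = cord (t : G) from rfl,
      hinv _ ht2] at h
  obtain ⟨k, hk, hgk⟩ := (Nat.dvd_prime_pow Nat.prime_two).1 (show orderOf g ∣ 2 ^ 6 from hgo)
  obtain ⟨j, rfl⟩ : ∃ j, k = j + 1 := ⟨k - 1, by
    rcases Nat.eq_zero_or_pos k with rfl | h
    · rw [pow_zero, orderOf_eq_one_iff] at hgk; exact absurd hgk hg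
    · omega⟩
  have ht' : orderOf (g ^ (2 ^ j)) = 2 := by
    rw [orderOf_pow' g (pow_ne_zero _ two_ne_zero), hgk,
      Nat.gcd_eq_right (pow_dvd_pow 2 (Nat.le_succ j)), pow_succ]
    exact Nat.mul_div_cancel_left 2 (pow_pos two_pos j)
  exact hinv _ ht' ▸ cord_dvd_cord_pow g _

/-- A vector of order 20160 with a five and an even entry not dividing 64 does not occur. -/
theorem cs_ne {n : ℕ} (hG : ¬ IsMulCommutative G) (V : Vec G n) (l : List ℕ)
    (hl : l.all (fun x => decide (x ∣ 20160) && decide (x ≠ 60)) = true) (h5 : 5 ∈ l)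
    (hlcm : ∀ m : ℕ, (∀ x ∈ l, x ∣ m) → 20160 ∣ m)
    (hbad : ∃ x ∈ l, 2 ∣ x ∧ ¬ x ∣ 64) : V.cs ≠ l := by
  intro h
  have hl' : ∀ x ∈ l, x ∣ 20160 ∧ x ≠ 60 := fun x hx => by
    simpa using List.all_eq_true.1 hl x hx
  have hmem : ∀ g : G, g ≠ 1 → cord g ∈ l := fun g hg => by
    rw [← h, ← V.cord_idx g hg]
    exact V.mem_cs.2 ⟨_, rfl⟩
  have hL : Nat.card G = 20160 := by
    refine Nat.dvd_antisymm (V.dvd_of_forall_dvd fun x hx => (hl' x (h ▸ hx)).1) (hlcm _ ?_)
    intro x hx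
    rw [← h] at hx
    obtain ⟨i, rfl⟩ := V.mem_cs.1 hx
    exact cord_dvd _
  obtain ⟨i, hi⟩ := V.mem_cs.1 (h.symm ▸ h5)
  have hu : orderOf (V.rep i) = 5 := (prime_cord (by norm_num) (V.ne_one i) hi).1
  have h60 : ∀ g : G, cord g ≠ 60 := fun g hg => by
    rcases eq_or_ne g 1 with rfl | hne
    · have : cord (1 : G) = Nat.card G := by simp [cord]
      omega
    · exact (hl' _ (hmem g hne)).2 hg
  obtain ⟨x, hx, hx2, hx64⟩ := hbad
  rw [← h] at hx
  obtain ⟨j, rfl⟩ := V.mem_cs.1 hx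
  exact hx64 (even_cord_dvd hG hL hu hi h60 (V.ne_one j) hx2)

/-- The vectors of order 20160 other than those with prime power entries. -/
def fake20160 : List (List ℕ) :=
  [[5, 5, 6, 7, 7, 12, 18, 144, 576], [5, 5, 6, 7, 7, 12, 18, 192, 288],
    [5, 5, 6, 7, 7, 16, 18, 36, 576], [5, 5, 6, 7, 7, 16, 18, 64, 72],
    [5, 5, 6, 7, 7, 18, 18, 32, 192], [5, 5, 6, 7, 7, 18, 18, 48, 64],
    [5, 5, 7, 7, 8, 8, 18, 144, 576], [5, 5, 7, 7, 8, 12, 12, 64, 144],
    [5, 5, 7, 7, 9, 9, 12, 144, 576], [5, 5, 7, 7, 9, 9, 12, 192, 288],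
    [5, 5, 7, 7, 9, 12, 12, 32, 192], [5, 5, 7, 7, 9, 12, 12, 48, 64]]

/-- These vectors do not occur. -/
theorem not_fake20160 (hG : ¬ IsMulCommutative G) (V : Vec G 9) : V.cs ∉ fake20160 := by
  intro h
  have key : ∀ l ∈ fake20160, l.all (fun x => decide (x ∣ 20160) && decide (x ≠ 60)) = true ∧
      5 ∈ l ∧ (∃ x ∈ l, 2 ∣ x ∧ ¬ x ∣ 64) ∧ l.foldr Nat.lcm 1 = 20160 := by decide +kernel
  obtain ⟨h1, h2, h3, h4⟩ := key _ h
  refine cs_ne hG V _ h1 h2 (fun m hm => h4 ▸ ?_) h3 rfl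
  have aux : ∀ l : List ℕ, (∀ x ∈ l, x ∣ m) → l.foldr Nat.lcm 1 ∣ m := by
    intro l
    induction l with
    | nil => exact fun _ => one_dvd m
    | cons a l ih =>
      exact fun hl => Nat.lcm_dvd (hl a List.mem_cons_self) (ih fun x hx => hl x (List.mem_cons_of_mem _ hx))
  exact aux _ hm

end CfsgLib.Spor.TenClasses
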