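import Cfsg.Agent.Lib.Spor.TenClasses.FiveTwo
import Cfsg.Agent.Lib.Spor.TenClasses.KillTagged
import Cfsg.Agent.Lib.Spor.TenClasses.E129
import Cfsg.Agent.Lib.Spor.TenClasses.E291
import Cfsg.Agent.Lib.Spor.TenClasses.E16800
import Cfsg.Agent.Lib.Spor.TenClasses.Order11760
import Cfsg.Agent.Lib.Spor.TenClasses.Order20160

/-!
# Ten classes: which lemma removes which survivor

Every vector of `tools/k10/survivors.txt` is removed by a landed lemma, apart from `openVecs`.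
-/

set_option autoImplicit false

open CfsgLib.Spor.NineClasses

namespace CfsgLib.Spor.TenClasses

/-- The survivors of the enumeration recorded in `tools/k10/survivors.txt`. -/
def survivorVecs : List (List ℕ) := [
  [5, 5, 6, 6, 6, 16, 42, 84, 588],
  [5, 5, 6, 6, 7, 9, 198, 198, 396],
  [5, 5, 6, 6, 7, 12, 26, 624, 2496],
  [5, 5, 6, 6, 7, 12, 34, 102, 816],
  [5, 5, 6, 6, 7, 12, 34, 136, 272],
  [5, 5, 6, 6, 7, 16, 34, 34, 408],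
  [5, 5, 6, 6, 7, 18, 22, 66, 132],
  [5, 5, 6, 6, 8, 8, 72, 486, 1458],
  [5, 5, 6, 6, 8, 8, 96, 192, 1024],
  [5, 5, 6, 6, 8, 9, 66, 66, 4356],
  [5, 5, 6, 6, 8, 9, 66, 66, 4224],
  [5, 5, 6, 6, 8, 12, 22, 88, 704],
  [5, 5, 6, 6, 8, 12, 24, 64, 1024],
  [5, 5, 6, 6, 8, 12, 26, 52, 1664],
  [5, 5, 6, 6, 8, 22, 22, 22, 192],
  [5, 5, 6, 6, 9, 12, 18, 96, 162],
  [5, 5, 6, 6, 11, 11, 14, 84, 672],
  [5, 5, 6, 6, 12, 12, 12, 64, 1024],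
  [5, 5, 6, 7, 7, 7, 432, 486, 2592],
  [5, 5, 6, 7, 7, 7, 486, 648, 864],
  [5, 5, 6, 7, 7, 8, 54, 256, 5184],
  [5, 5, 6, 7, 7, 12, 18, 144, 576],
  [5, 5, 6, 7, 7, 12, 18, 192, 288],
  [5, 5, 6, 7, 7, 16, 18, 36, 576],
  [5, 5, 6, 7, 7, 16, 18, 64, 72],
  [5, 5, 6, 7, 7, 18, 18, 32, 192],
  [5, 5, 6, 7, 7, 18, 18, 48, 64],
  [5, 5, 6, 8, 8, 8, 18, 384, 6144],
  [5, 5, 6, 8, 8, 8, 18, 384, 5832],
  [5, 5, 6, 8, 8, 8, 18, 432, 2304],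
  [5, 5, 6, 8, 8, 8, 18, 432, 2187],
  [5, 5, 6, 8, 8, 8, 18, 576, 972],
  [5, 5, 6, 8, 8, 8, 18, 648, 864],
  [5, 5, 6, 8, 8, 8, 24, 96, 162],
  [5, 5, 6, 8, 8, 8, 32, 48, 162],
  [5, 5, 6, 8, 8, 9, 16, 162, 288],
  [5, 5, 6, 8, 8, 9, 18, 64, 972],
  [5, 5, 6, 8, 8, 9, 18, 96, 162],
  [5, 5, 6, 8, 8, 12, 12, 96, 162],
  [5, 5, 6, 9, 9, 9, 12, 96, 162],
  [5, 5, 7, 7, 7, 8, 36, 72, 216],
  [5, 5, 7, 7, 7, 8, 36, 108, 108],
  [5, 5, 7, 7, 7, 8, 54, 54, 108],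
  [5, 5, 7, 7, 7, 9, 24, 72, 216],
  [5, 5, 7, 7, 7, 12, 18, 54, 72],
  [5, 5, 7, 7, 7, 12, 24, 24, 216],
  [5, 5, 7, 7, 7, 12, 24, 27, 108],
  [5, 5, 7, 7, 8, 8, 18, 144, 576],
  [5, 5, 7, 7, 8, 9, 32, 32, 64],
  [5, 5, 7, 7, 8, 12, 12, 64, 144],
  [5, 5, 7, 7, 9, 9, 12, 144, 576],
  [5, 5, 7, 7, 9, 9, 12, 192, 288],
  [5, 5, 7, 7, 9, 12, 12, 32, 192],
  [5, 5, 7, 7, 9, 12, 12, 48, 64],
  [5, 5, 7, 7, 9, 16, 16, 16, 64],
  [5, 6, 6, 6, 6, 8, 132, 1452, 15972],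
  [5, 6, 6, 6, 6, 8, 183, 732, 732],
  [5, 6, 6, 6, 6, 8, 192, 384, 2048],
  [5, 6, 6, 6, 6, 8, 202, 404, 1212],
  [5, 6, 6, 6, 6, 8, 213, 426, 852],
  [5, 6, 6, 6, 6, 8, 262, 262, 1572],
  [5, 6, 6, 6, 6, 8, 284, 284, 852],
  [5, 6, 6, 6, 6, 12, 24, 128, 2048],
  [5, 6, 6, 6, 6, 14, 24, 56, 448],
  [5, 6, 6, 6, 6, 22, 22, 24, 1408],
  [5, 6, 6, 6, 7, 7, 114, 228, 912],
  [5, 6, 6, 6, 7, 8, 78, 78, 156],
  [5, 6, 6, 8, 8, 8, 12, 128, 2048],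
  [5, 6, 6, 8, 8, 12, 17, 17, 64],
  [5, 6, 8, 8, 8, 11, 11, 18, 48],
  [5, 7, 7, 7, 8, 13, 13, 13, 64],
  [6, 6, 6, 6, 7, 7, 24, 256, 512],
  [6, 6, 6, 6, 7, 10, 12, 200, 480],
  [7, 7, 7, 8, 9, 9, 9, 9, 512]]

/-- The survivors without a kill lemma here. -/
def openVecs : List (List ℕ) := [
  [5, 5, 7, 7, 8, 9, 32, 32, 64],
  [5, 5, 7, 7, 9, 16, 16, 16, 64],
  [5, 6, 6, 8, 8, 12, 17, 17, 64],
  [5, 6, 8, 8, 8, 11, 11, 18, 48],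
  [5, 7, 7, 7, 8, 13, 13, 13, 64],
  [7, 7, 7, 8, 9, 9, 9, 9, 512]]

/-- The vectors removed by the lemmas. -/
def coveredVecs : List (List ℕ) :=
  fiveLists.map Prod.fst ++ Tagged.frobLists.map Prod.fst ++ Tagged.lists30720 ++ vecs129 ++
    Frob.vecs7560 ++ fake20160 ++
    [[6, 6, 6, 6, 7, 7, 24, 256, 512], [5, 5, 6, 6, 6, 16, 42, 84, 588],
      [5, 5, 6, 6, 8, 8, 72, 486, 1458], [5, 5, 6, 8, 8, 8, 18, 432, 2187],
      [6, 6, 6, 6, 7, 10, 12, 200, 480]]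

theorem survivor_split : ∀ c ∈ survivorVecs, c ∈ coveredVecs ∨ c ∈ openVecs := by
  decide +kernel

/-- A vector of a simple group with ten classes among the survivors is one of `openVecs`. -/
theorem mem_openVecs {G : Type*} [Group G] [Finite G] [IsSimpleGroup G]
    (hG : ¬ IsMulCommutative G) (V : Vec G 9) (h : V.cs ∈ survivorVecs) : V.cs ∈ openVecs := by
  rcases survivor_split _ h with hc | hc
  · exfalso
    simp only [coveredVecs, List.mem_append] at hc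
    rcases hc with (((((hc | hc) | hc) | hc) | hc) | hc) | hc
    · exact not_mem_fiveLists hG V hc
    · exact Tagged.not_frobLists V hc
    · exact Tagged.not_lists30720 hG V hc
    · exact ne_vecs129 hG V hc
    · exact Frob.not_7560 V hc rfl
    · exact not_fake20160 hG V hc
    · simp only [List.mem_cons, List.not_mem_nil, or_false] at hc
      rcases hc with hc | hc | hc | hc | hc
      · exact Tagged.ne_10752 hG V hc
      · exact ne_11760_a V hc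
      · exact not_29160 V hc
      · exact not_174960 V hc
      · exact ne_16800 V hc
  · exact hc

end CfsgLib.Spor.TenClasses
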