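import Cfsg.Agent.Lib.Spor.NineClasses.Defs

/-!
# Centraliser orders of a simple group with ten classes: the pruning tests and the search

The leaf tests are those of the nine-class search; the continuations are pruned by the classes with
centraliser order a prime and by the three classes attached to a pair of primes.
-/

set_option autoImplicit false

namespace CfsgLib.Spor.TenClasses

open NineClasses (force anyMem allMem allFrom divPairs pc sq six mixed scPrimes)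

/-- The prime divisors of a number, by trial division from `d`. -/
noncomputable def supAux (fuel : ℕ) : ℕ → ℕ → List ℕ :=
  Nat.rec (motive := fun _ => ℕ → ℕ → List ℕ) (fun _ n => [n])
    (fun _ ih d₀ n₀ => force d₀ fun d => force n₀ fun n =>
      cond (Nat.blt n (d * d)) (cond (Nat.blt 1 n) [n] [])
        (cond (Nat.beq (n % d) 0) (d :: ih (d + 1) (n / NineClasses.pPart d n n))
          (ih (d + 1) n))) fuel

/-- The prime divisors of a positive number. -/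
noncomputable def sup (x : ℕ) : List ℕ := supAux (x + 2) 2 x

/-- The divisors of `M * t` from those of `M`, by the bare recursors. -/
noncomputable def moreDivs (D : List ℕ) (t : ℕ) : List ℕ :=
  cond (Nat.beq t 1) D (List.rec (motive := fun _ => List ℕ) []
    (fun b _ ih => List.rec (motive := fun _ => List ℕ) ih
      (fun a _ ih' => force (a * b) fun v => v :: ih') D) (divPairs t (t + 1) 1))

/-- The product of the primes below 212. -/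
def smallProd : ℕ := 1645783550795210387735581011435590727981167322669649249414629852197255934130751870910

/-- The primes below 212. -/
def smallPrimes : List ℕ :=
  [2, 3, 5, 7, 11, 13, 17, 19, 23, 29, 31, 37, 41, 43, 47, 53, 59, 61, 67, 71, 73, 79, 83, 89, 97, 101, 103, 107, 109, 113, 127, 131, 137, 139, 149, 151, 157, 163, 167, 173, 179, 181, 191, 193, 197, 199, 211]

/-- A prime at least five. -/
noncomputable def primeGe5 (p : ℕ) : Bool :=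
  Nat.ble 5 p && cond (Nat.blt p 44521)
    (Nat.beq (Nat.gcd p smallProd) 1 || (Nat.blt p 212 && smallPrimes.elem p))
    (List.rec (motive := fun _ => Bool) false (fun a _ _ => Nat.beq a p) (sup p))

/-- The number of entries divisible by `v`. -/
noncomputable def countDvd (v : ℕ) (c : List ℕ) : ℕ :=
  List.rec (motive := fun _ => ℕ) 0 (fun a _ ih => cond (Nat.beq (a % v) 0) (ih + 1) ih) c

/-- The number of entries equal to `v`. -/
noncomputable def countEq (v : ℕ) (c : List ℕ) : ℕ :=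
  List.rec (motive := fun _ => ℕ) 0 (fun a _ ih => cond (Nat.beq a v) (ih + 1) ih) c

/-- Some prime of `v` has, with each other one, three classes, `R` of which may still come. -/
noncomputable def edgeOne (c : List ℕ) (R v : ℕ) : Bool :=
  force R fun R => anyMem (fun r => allMem (sup v) fun q =>
      Nat.beq q r || Nat.ble 3 (countDvd (r * q) c + R)) (sup v) || Nat.ble v 1

/-- The test of the pairs of primes. -/
noncomputable def edgeOK (c : List ℕ) (R : ℕ) : Bool :=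
  Nat.ble 3 R || allMem c (edgeOne c R)

/-- The divisors exceeding one. -/
noncomputable def bigList (e : ℕ) : List ℕ :=
  ((divPairs e (e + 1) 1).filter fun d => Nat.ble 2 d).eraseDups

/-- The number of divisors among `2, 3, 4, 5, e`. -/
noncomputable def lowDivs (e : ℕ) : ℕ :=
  cond (Nat.blt 2 e && Nat.beq (e % 2) 0) 1 0 + cond (Nat.blt 3 e && Nat.beq (e % 3) 0) 1 0 +
    cond (Nat.blt 4 e && Nat.beq (e % 4) 0) 1 0 + cond (Nat.blt 5 e && Nat.beq (e % 5) 0) 1 0 + 1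

/-- `p` may be a self-centralising prime when at most `J` further classes equal `p` and `R` come. -/
noncomputable def pcOK (c : List ℕ) (R J p : ℕ) : Bool :=
  force (countEq p c) fun k =>
    anyMem (fun j => force (k + j) fun s => Nat.beq ((p - 1) % s) 0 && force ((p - 1) / s) fun e =>
      Nat.ble 2 e && Nat.ble (lowDivs e + j) (countDvd e c + R) &&
        (Nat.ble (e + j) (countDvd e c + R + 1) ||
          Nat.ble ((bigList e).length + j) (countDvd e c + R))) (List.range (J + 1))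

/-- The test of the self-centralising primes; `x` is the latest entry. -/
noncomputable def pcPre (c : List ℕ) (R x : ℕ) : Bool :=
  allMem c fun p => !(primeGe5 p) ||
    cond (Nat.beq p x) (pcOK c R R p) (pcOK c R 0 p)

/-- The product of the entries. -/
noncomputable def prodOf (c : List ℕ) : ℕ :=
  List.rec (motive := fun _ => ℕ) 1 (fun a _ ih => a * ih) c

/-- The latest entry fails the test of the pairs of primes; one more is to come. -/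
noncomputable def edgeBad (pre : List ℕ) (x : ℕ) : Bool :=
  force (prodOf pre) fun m =>
    cond (!(Nat.blt x 4294967296) || Nat.beq (m ^ 32 % x) 0) (!(edgeOne (x :: pre) 1 x))
      (cond (Nat.beq (Nat.gcd x m) 1)
        (force (Nat.gcd x smallProd) fun h =>
          Nat.blt 1 h && !(smallPrimes.elem h && Nat.beq (h ^ 32 % x) 0))
        true)

/-- A continuation that some test excludes; nine entries in all. -/
noncomputable def prune (pre : List ℕ) (x : ℕ) : Bool :=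
  NineClasses.prune pre x ||
    force (8 - pre.length) fun R =>
      cond (Nat.beq R 1) (edgeBad pre x) false || !(pcPre (x :: pre) R x)

/-- The orders below 6000 that are examined. -/
def smallOrders : List ℕ := [60, 168, 360, 504, 660, 1092, 2448, 2520, 3420, 4080, 5616]

/-- The vectors that are left to the finer tests. -/
def survivors : List (List ℕ) :=
  [[5, 5, 12, 12, 12, 12, 12, 12, 12],
   [6, 6, 6, 6, 6, 12, 30, 60, 60],
   [6, 6, 6, 6, 10, 10, 12, 60, 60],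
   [6, 6, 6, 6, 10, 10, 15, 30, 60],
   [6, 6, 6, 6, 10, 10, 20, 20, 60],
   [6, 6, 6, 6, 10, 12, 12, 30, 60],
   [6, 6, 6, 6, 10, 12, 15, 30, 30],
   [6, 6, 6, 6, 10, 12, 20, 20, 30],
   [6, 6, 6, 6, 12, 12, 15, 15, 60],
   [6, 6, 6, 6, 12, 12, 20, 20, 20],
   [6, 6, 6, 6, 12, 15, 15, 15, 30],
   [6, 6, 6, 10, 10, 12, 12, 12, 30],
   [6, 6, 10, 10, 10, 10, 12, 12, 12],
   [6, 6, 6, 6, 6, 8, 42, 168, 168],
   [6, 6, 6, 6, 8, 8, 21, 42, 168],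
   [6, 6, 6, 6, 8, 8, 28, 28, 168],
   [6, 6, 6, 6, 8, 12, 14, 28, 84],
   [6, 6, 6, 6, 8, 12, 14, 42, 42],
   [6, 6, 6, 6, 8, 12, 21, 21, 42],
   [6, 6, 6, 6, 8, 14, 14, 24, 56],
   [6, 6, 6, 6, 12, 12, 14, 14, 56],
   [6, 6, 6, 6, 14, 14, 14, 14, 24],
   [6, 6, 7, 7, 8, 8, 24, 24, 24],
   [6, 6, 7, 7, 8, 12, 12, 24, 24],
   [6, 6, 7, 7, 12, 12, 12, 12, 24],
   [7, 7, 8, 8, 8, 8, 12, 12, 24],
   [7, 7, 8, 8, 8, 12, 12, 12, 12],
   [5, 5, 6, 6, 8, 18, 18, 72, 72],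
   [5, 5, 6, 6, 9, 18, 18, 36, 72],
   [5, 5, 6, 6, 12, 18, 18, 18, 72],
   [5, 5, 6, 6, 12, 18, 18, 24, 36],
   [5, 5, 6, 6, 18, 18, 18, 18, 24],
   [5, 5, 6, 8, 8, 12, 18, 36, 72],
   [5, 5, 6, 8, 8, 18, 18, 18, 72],
   [5, 5, 6, 8, 8, 18, 18, 24, 36],
   [5, 5, 6, 8, 8, 18, 24, 24, 24],
   [5, 5, 6, 8, 9, 9, 18, 72, 72],
   [5, 5, 6, 8, 9, 12, 18, 24, 72],
   [5, 5, 6, 8, 9, 12, 18, 36, 36],
   [5, 5, 6, 8, 9, 18, 18, 18, 36],
   [5, 5, 6, 8, 9, 18, 18, 24, 24],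
   [5, 5, 6, 8, 12, 12, 18, 18, 36],
   [5, 5, 6, 8, 12, 12, 18, 24, 24],
   [5, 5, 6, 8, 12, 18, 18, 18, 18],
   [5, 5, 6, 9, 9, 9, 18, 36, 72],
   [5, 5, 6, 9, 9, 12, 18, 18, 72],
   [5, 5, 6, 9, 9, 12, 18, 24, 36],
   [5, 5, 6, 9, 9, 18, 18, 18, 24],
   [5, 5, 6, 9, 12, 12, 12, 18, 72],
   [5, 5, 6, 9, 12, 12, 18, 18, 24],
   [5, 5, 6, 12, 12, 12, 12, 18, 24],
   [5, 5, 8, 8, 8, 8, 18, 36, 72],
   [5, 5, 8, 8, 8, 8, 24, 24, 72],
   [5, 5, 8, 8, 8, 9, 12, 72, 72],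
   [5, 5, 8, 8, 8, 9, 18, 24, 72],
   [5, 5, 8, 8, 8, 9, 18, 36, 36],
   [5, 5, 8, 8, 8, 12, 12, 24, 72],
   [5, 5, 8, 8, 8, 12, 12, 36, 36],
   [5, 5, 8, 8, 8, 12, 18, 18, 36],
   [5, 5, 8, 8, 8, 18, 18, 18, 18],
   [5, 5, 8, 8, 9, 9, 12, 36, 72],
   [5, 5, 8, 8, 9, 9, 18, 18, 72],
   [5, 5, 8, 8, 9, 9, 24, 24, 24],
   [5, 5, 8, 8, 9, 12, 12, 18, 72],
   [5, 5, 8, 8, 9, 12, 12, 24, 36],
   [5, 5, 8, 8, 12, 12, 12, 12, 72],
   [5, 5, 8, 9, 9, 9, 12, 24, 72],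
   [5, 5, 8, 9, 9, 9, 12, 36, 36],
   [5, 5, 8, 9, 9, 9, 18, 18, 36],
   [5, 5, 8, 9, 9, 12, 12, 18, 36],
   [5, 5, 8, 9, 9, 12, 12, 24, 24],
   [5, 5, 8, 9, 12, 12, 12, 12, 36],
   [5, 5, 9, 9, 9, 9, 12, 24, 36],
   [5, 5, 9, 9, 9, 12, 12, 12, 72],
   [5, 5, 9, 9, 12, 12, 12, 12, 24],
   [8, 8, 8, 9, 9, 10, 10, 10, 10],
   [6, 6, 7, 7, 7, 9, 18, 18, 72],
   [6, 6, 7, 7, 7, 12, 18, 18, 24],
   [6, 7, 7, 7, 8, 8, 12, 18, 72],
   [6, 7, 7, 7, 8, 8, 18, 18, 24],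
   [6, 7, 7, 7, 8, 9, 12, 18, 36],
   [6, 7, 7, 7, 8, 12, 12, 18, 18],
   [6, 7, 7, 7, 9, 9, 9, 18, 72],
   [6, 7, 7, 7, 9, 9, 12, 18, 24],
   [7, 7, 7, 8, 8, 8, 12, 12, 36],
   [7, 7, 7, 8, 8, 9, 12, 12, 24],
   [7, 7, 7, 8, 9, 12, 12, 12, 12],
   [5, 5, 6, 6, 12, 12, 22, 22, 132],
   [5, 5, 6, 6, 12, 22, 22, 22, 22],
   [5, 5, 11, 11, 12, 12, 12, 12, 12],
   [6, 6, 6, 6, 10, 11, 11, 30, 60],
   [6, 6, 6, 10, 10, 11, 11, 12, 30],
   [6, 6, 10, 10, 10, 10, 11, 11, 12],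
   [5, 6, 6, 7, 7, 18, 18, 24, 36],
   [5, 6, 7, 7, 8, 8, 18, 36, 72],
   [5, 6, 7, 7, 8, 9, 18, 24, 72],
   [5, 6, 7, 7, 8, 9, 18, 36, 36],
   [5, 6, 7, 7, 8, 12, 18, 18, 36],
   [5, 6, 7, 7, 8, 12, 18, 24, 24],
   [5, 6, 7, 7, 9, 9, 18, 24, 36],
   [5, 6, 7, 7, 9, 12, 12, 18, 72],
   [5, 6, 7, 7, 9, 12, 18, 18, 24],
   [5, 6, 7, 7, 12, 12, 12, 18, 24],
   [5, 7, 7, 8, 8, 8, 12, 24, 72],
   [5, 7, 7, 8, 8, 8, 12, 36, 36],
   [5, 7, 7, 8, 8, 8, 18, 18, 36],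
   [5, 7, 7, 8, 8, 9, 12, 18, 72],
   [5, 7, 7, 8, 8, 9, 12, 24, 36],
   [5, 7, 7, 8, 8, 12, 12, 12, 72],
   [5, 7, 7, 8, 9, 9, 12, 24, 24],
   [5, 7, 7, 8, 9, 12, 12, 12, 36],
   [5, 7, 7, 9, 9, 9, 12, 12, 72],
   [5, 7, 7, 9, 9, 12, 12, 12, 24],
   [6, 6, 6, 6, 8, 10, 10, 125, 6000],
   [6, 6, 6, 6, 8, 10, 10, 240, 250],
   [5, 6, 6, 6, 6, 8, 168, 672, 1344],
   [5, 6, 6, 6, 6, 14, 24, 56, 448],
   [5, 5, 6, 6, 6, 12, 66, 1452, 1452],
   [5, 5, 6, 6, 12, 12, 12, 121, 121],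
   [5, 6, 6, 6, 6, 8, 183, 732, 732],
   [6, 6, 6, 6, 6, 7, 66, 132, 1056],
   [5, 5, 6, 6, 8, 8, 126, 126, 1512],
   [5, 5, 6, 6, 8, 12, 21, 126, 378],
   [5, 5, 7, 7, 7, 8, 36, 72, 216],
   [5, 5, 7, 7, 7, 8, 36, 108, 108],
   [5, 5, 7, 7, 7, 8, 54, 54, 108],
   [5, 5, 7, 7, 7, 9, 24, 72, 216],
   [5, 5, 7, 7, 7, 12, 18, 54, 72],
   [5, 5, 7, 7, 7, 12, 24, 24, 216],
   [5, 5, 7, 7, 7, 12, 24, 27, 108],
   [5, 6, 8, 8, 8, 11, 11, 18, 48],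
   [5, 6, 8, 8, 11, 11, 12, 16, 18],
   [5, 5, 6, 6, 8, 8, 68, 816, 1632],
   [5, 6, 6, 6, 6, 8, 142, 1704, 1704],
   [5, 6, 6, 6, 6, 8, 213, 426, 852],
   [5, 6, 6, 6, 6, 8, 284, 284, 852],
   [5, 6, 6, 6, 6, 8, 152, 912, 1824],
   [5, 6, 6, 8, 8, 8, 12, 162, 486],
   [6, 6, 6, 6, 7, 7, 22, 726, 1452],
   [5, 6, 6, 6, 6, 8, 172, 516, 2064],
   [5, 6, 6, 6, 6, 8, 258, 258, 2064],
   [5, 5, 6, 6, 6, 12, 66, 1056, 2112],
   [5, 5, 6, 6, 8, 8, 66, 1056, 2112],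
   [5, 5, 6, 6, 8, 12, 22, 88, 704],
   [5, 5, 6, 6, 8, 22, 22, 22, 192],
   [6, 6, 6, 6, 7, 7, 24, 192, 1536],
   [6, 6, 6, 6, 7, 7, 24, 256, 512],
   [6, 6, 6, 6, 7, 7, 32, 64, 1536],
   [6, 6, 7, 7, 8, 8, 8, 192, 1536],
   [5, 6, 6, 6, 7, 8, 78, 78, 156],
   [5, 6, 6, 7, 8, 12, 26, 26, 26],
   [5, 5, 6, 6, 6, 16, 42, 84, 588],
   [5, 6, 6, 6, 6, 8, 202, 404, 1212],
   [5, 5, 6, 6, 9, 12, 18, 96, 162],
   [5, 5, 6, 8, 8, 8, 18, 648, 864],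
   [5, 5, 6, 8, 8, 8, 24, 96, 162],
   [5, 5, 6, 8, 8, 8, 32, 48, 162],
   [5, 5, 6, 8, 8, 9, 16, 162, 288],
   [5, 5, 6, 8, 8, 9, 18, 96, 162],
   [5, 5, 6, 8, 8, 12, 12, 96, 162],
   [5, 5, 6, 8, 8, 12, 16, 32, 162],
   [5, 5, 6, 9, 9, 9, 12, 96, 162],
   [6, 6, 7, 7, 7, 8, 10, 80, 1920],
   [5, 5, 6, 6, 7, 9, 198, 198, 396],
   [5, 5, 6, 6, 7, 12, 33, 198, 198],
   [5, 5, 6, 6, 7, 18, 22, 66, 132],
   [5, 6, 6, 6, 6, 8, 132, 2904, 2904],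
   [5, 6, 6, 6, 6, 12, 22, 242, 2904],
   [6, 6, 6, 6, 8, 8, 24, 25, 625],
   [6, 6, 6, 6, 8, 12, 12, 25, 625],
   [5, 5, 6, 6, 8, 8, 64, 1536, 3072],
   [5, 5, 6, 6, 8, 8, 96, 192, 1024],
   [5, 5, 6, 6, 8, 12, 24, 64, 1024],
   [5, 5, 6, 6, 12, 12, 12, 64, 1024],
   [5, 6, 6, 6, 6, 8, 262, 262, 1572],
   [5, 6, 6, 6, 6, 8, 136, 1632, 3264],
   [5, 6, 6, 8, 8, 12, 17, 17, 64],
   [6, 6, 6, 6, 7, 10, 12, 150, 2400],
   [6, 6, 6, 6, 7, 10, 12, 200, 480],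
   [6, 6, 6, 6, 7, 10, 20, 25, 2400],
   [6, 6, 6, 7, 8, 8, 10, 150, 2400],
   [5, 6, 6, 6, 6, 8, 146, 876, 3504],
   [5, 6, 6, 6, 6, 8, 166, 498, 3984],
   [5, 5, 6, 7, 7, 12, 18, 144, 576],
   [5, 5, 6, 7, 7, 12, 18, 192, 288],
   [5, 5, 6, 7, 7, 16, 18, 36, 576],
   [5, 5, 6, 7, 7, 16, 18, 64, 72],
   [5, 5, 6, 7, 7, 18, 18, 32, 192],
   [5, 5, 6, 7, 7, 18, 18, 48, 64],
   [5, 5, 7, 7, 8, 8, 18, 144, 576],
   [5, 5, 7, 7, 8, 9, 32, 32, 64],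
   [5, 5, 7, 7, 8, 12, 12, 64, 144],
   [5, 5, 7, 7, 9, 9, 12, 144, 576],
   [5, 5, 7, 7, 9, 9, 12, 192, 288],
   [5, 5, 7, 7, 9, 12, 12, 32, 192],
   [5, 5, 7, 7, 9, 12, 12, 48, 64],
   [5, 5, 7, 7, 9, 16, 16, 16, 64],
   [5, 6, 6, 6, 6, 8, 132, 2112, 4224],
   [5, 6, 6, 6, 6, 22, 22, 24, 1408],
   [6, 6, 6, 6, 7, 8, 16, 384, 3072],
   [5, 5, 6, 6, 8, 12, 26, 52, 1664],
   [5, 5, 6, 6, 7, 12, 34, 102, 816],
   [5, 5, 6, 6, 7, 12, 34, 136, 272],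
   [5, 5, 6, 6, 7, 16, 34, 34, 408],
   [5, 7, 7, 7, 8, 13, 13, 13, 64],
   [5, 5, 6, 6, 8, 8, 72, 486, 1458],
   [5, 5, 6, 6, 8, 9, 36, 486, 1458],
   [5, 5, 6, 6, 8, 12, 18, 486, 1458],
   [5, 5, 6, 6, 9, 9, 24, 486, 1458],
   [5, 5, 6, 8, 9, 9, 12, 486, 1458],
   [5, 5, 8, 8, 8, 9, 9, 729, 729],
   [6, 6, 6, 6, 7, 7, 22, 528, 4224],
   [5, 5, 6, 6, 8, 8, 62, 2976, 5952],
   [5, 6, 6, 6, 6, 8, 128, 3072, 6144],
   [5, 6, 6, 6, 6, 8, 192, 384, 2048],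
   [5, 6, 6, 6, 6, 12, 24, 128, 2048],
   [5, 6, 6, 8, 8, 8, 12, 128, 2048],
   [5, 6, 6, 6, 7, 7, 114, 228, 912],
   [7, 7, 7, 8, 9, 9, 9, 9, 512],
   [5, 5, 6, 8, 8, 8, 18, 432, 2304],
   [5, 5, 6, 6, 11, 11, 14, 84, 672],
   [5, 5, 6, 6, 8, 8, 66, 726, 8712],
   [5, 5, 6, 6, 8, 9, 66, 66, 4356],
   [5, 8, 8, 8, 8, 8, 9, 16, 729],
   [5, 6, 6, 6, 6, 8, 124, 5952, 11904],
   [5, 5, 6, 6, 8, 9, 66, 66, 4224],
   [5, 5, 6, 8, 8, 8, 18, 576, 972],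
   [5, 5, 6, 8, 8, 9, 18, 64, 972],
   [5, 5, 6, 6, 6, 12, 66, 726, 7986],
   [6, 6, 6, 6, 7, 7, 22, 484, 11616],
   [5, 5, 6, 6, 7, 12, 26, 624, 2496],
   [5, 5, 6, 8, 8, 8, 18, 384, 6144],
   [5, 6, 6, 6, 6, 8, 122, 11712, 23424],
   [5, 6, 6, 6, 6, 8, 132, 1452, 15972],
   [5, 5, 6, 8, 8, 8, 18, 432, 2187],
   [5, 5, 8, 8, 8, 8, 16, 27, 2187],
   [5, 5, 6, 7, 7, 7, 432, 486, 2592],
   [5, 5, 6, 7, 7, 7, 486, 648, 864],
   [5, 5, 6, 8, 8, 8, 18, 384, 5832],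
   [5, 5, 6, 7, 7, 8, 54, 256, 5184],
   [5, 5, 6, 6, 8, 8, 96, 162, 13122],
   [5, 6, 6, 6, 6, 12, 24, 121, 14641],
   [5, 6, 6, 8, 8, 8, 12, 121, 14641],
   [6, 6, 6, 6, 7, 7, 24, 169, 28561],
   [5, 5, 8, 8, 8, 9, 9, 361, 130321]]

/-- A vector is excluded, small, or listed. -/
noncomputable def good (c : List ℕ) (L : ℕ) : Bool :=
  (Nat.blt L 6000 && !(smallOrders.elem L)) || !(pc c L) || !(sq c L) || !(six c L) ||
    survivors.elem c || !(mixed c L)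

/-- The test of a last entry `x` with `gcd x M = g`. -/
noncomputable def leaf (pre : List ℕ) (M x g : ℕ) : Bool :=
  !(Nat.beq (Nat.gcd x M) g) || NineClasses.prune pre x ||
    force (M / g * x) fun L => (Nat.blt L 6000 && !(smallOrders.elem L)) ||
      edgeBad pre x || !(edgeOK (x :: pre) 0) || good (pre.reverse ++ [x]) L

/-- The step forced by the pairs of primes on the last two entries. -/
noncomputable def stepOf (c : List ℕ) : ℕ :=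
  List.rec (motive := fun _ => ℕ) 1
    (fun v _ ih => force ih fun D =>
      cond (Nat.beq (sup v).length 2)
        (List.rec (motive := fun _ => ℕ) D
          (fun r l _ => List.rec (motive := fun _ => ℕ) D
            (fun q _ _ => cond (Nat.beq (countDvd (r * q) c) 1) (Nat.lcm D (r * q)) D) l) (sup v))
        D) c

/-- The multiples of `D` from `lo` on, `k` of them. -/
noncomputable def allStep (p : ℕ → Bool) (D : ℕ) (k : ℕ) : ℕ → Bool :=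
  Nat.rec (motive := fun _ => ℕ → Bool) (fun _ => true)
    (fun _ ih lo => force lo fun a => p a && ih (a + D)) k

/-- `pre` is the reversed prefix, `N / M` what remains of the class equation. -/
noncomputable def dfs : ℕ → List ℕ → ℕ → ℕ → List ℕ → Bool
  | 0, pre, N, M, D =>
      force (max (pre.headD 5) (M / N + 1)) fun lo =>
      force (2 * M / N + 1 - lo) fun w =>
      if Nat.ble w 64 then allFrom (fun x => leaf pre M x (N * x - M)) w lo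
      else allMem D fun g =>
        !(Nat.beq ((M + g) % N) 0) || force ((M + g) / N) fun x =>
          !(Nat.ble lo x) || leaf pre M x g
  | r + 1, pre, N, M, D =>
      force (max (pre.headD 5) (M / N + 1)) fun lo =>
      force ((r + 3) * M / N + 1 - lo) fun w =>
      force (cond (Nat.beq r 0) (stepOf pre) 1) fun st =>
      force ((lo + st - 1) / st * st) fun lo' =>
      allStep (fun x =>
        prune pre x ||
          force (x / Nat.gcd x M) fun t =>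
          force (M * t) fun M' =>
          force (N * t - M' / x) fun N' =>
          dfs r (x :: pre) N' M' (moreDivs D t)) st ((lo + w - lo' + st - 1) / st) lo'

/-- The complete search. -/
noncomputable def check : Bool := dfs 8 [] 1 1 [1]

end CfsgLib.Spor.TenClasses
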