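import Cfsg.Agent.Lib.Spor.TenClasses.Defs
import Cfsg.Agent.Lib.Spor.NineClasses.Dfs
import Mathlib

/-!
# Steps of the search over nine centraliser orders
-/

set_option autoImplicit false

namespace CfsgLib.Spor.TenClasses

open NineClasses (force force_eq allFrom allMem)

theorem allStep_iff (p : ℕ → Bool) (D : ℕ) : ∀ k lo,
    allStep p D k lo = true ↔ ∀ i < k, p (lo + i * D) = true := by
  intro k
  induction k with
  | zero => simp [allStep]
  | succ k ih =>
    intro lo
    rw [show allStep p D (k + 1) lo = force lo fun a => p a && allStep p D k (a + D) from rfl,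
      force_eq, Bool.and_eq_true, ih]
    constructor
    · rintro ⟨h0, h⟩ (_ | i) hi
      · simpa using h0
      · rw [show lo + (i + 1) * D = lo + D + i * D by ring]
        exact h i (by omega)
    · intro h
      refine ⟨by simpa using h 0 (by omega), fun i hi => ?_⟩
      rw [show lo + D + i * D = lo + (i + 1) * D by ring]
      exact h (i + 1) (by omega)

/-- One step of the search above the last but one level. -/
theorem dfs_succ {r : ℕ} {pre : List ℕ} {N M : ℕ} {D : List ℕ} (lo w : ℕ)
    (hlo : max (pre.headD 5) (M / N + 1) = lo) (hw : (r + 1 + 3) * M / N + 1 - lo = w)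
    (h : ∀ x ∈ List.range' lo w, (prune pre x || dfs (r + 1) (x :: pre)
      (N * (x / Nat.gcd x M) - M * (x / Nat.gcd x M) / x) (M * (x / Nat.gcd x M))
      (moreDivs D (x / Nat.gcd x M))) = true) :
    dfs (r + 1 + 1) pre N M D = true := by
  unfold dfs
  simp only [force_eq, hlo, hw, show Nat.beq (r + 1) 0 = false from rfl, cond_false,
    Nat.add_sub_cancel, Nat.div_one, Nat.mul_one]
  rw [show lo + w - lo = w by omega]
  refine (allStep_iff _ _ _ _).2 fun i hi => ?_
  exact h _ (by rw [List.mem_range'_1]; omega)

/-- A child already searched. -/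
theorem of_child {r : ℕ} {pre : List ℕ} {x N M N' M' : ℕ} {D D' : List ℕ}
    (h : dfs r (x :: pre) N' M' D' = true) (hN : N' = N * (x / Nat.gcd x M) -
      M * (x / Nat.gcd x M) / x) (hM : M' = M * (x / Nat.gcd x M))
    (hD : D' = moreDivs D (x / Nat.gcd x M)) :
    (prune pre x || dfs r (x :: pre) (N * (x / Nat.gcd x M) - M * (x / Nat.gcd x M) / x)
      (M * (x / Nat.gcd x M)) (moreDivs D (x / Nat.gcd x M))) = true := by
  rw [← hN, ← hM, ← hD, h, Bool.or_true]

theorem of_prune {pre : List ℕ} {x : ℕ} {b : Bool} (h : prune pre x = true) :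
    (prune pre x || b) = true := by rw [h, Bool.true_or]

end CfsgLib.Spor.TenClasses
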