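import Cfsg.Agent.Lib.Small.SelfCentralPrime
import Cfsg.Agent.Lib.M12Order.Tools

/-!
# A dihedral normalizer: the values at an involution

The statement of `Small.dihedral_data` with the value of the non-principal character exposed.
-/

set_option autoImplicit false
set_option linter.unusedSectionVars false
set_option linter.style.haveILetI false

namespace CfsgLib.Spor.TenClasses

open Cfsg CfsgLib.Chars CfsgLib.Blocks CfsgLib.CharApps CfsgLib.Small
open scoped ComplexConjugate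

universe u

variable {G : Type u} [Group G] [Fintype G] {p : ℕ} [hp : Fact p.Prime]

/-- The arithmetic of a dihedral normalizer. -/
theorem dihedral_values [IsSimpleGroup G] (hG : ¬ IsMulCommutative G) (u : G) (hu : orderOf u = p)
    (hsq : ¬ p ^ 2 ∣ Nat.card G)
    (hC : Subgroup.centralizer ((Subgroup.zpowers u : Subgroup G) : Set G) = Subgroup.zpowers u)
    (hN : Nat.card (Subgroup.normalizer ((Subgroup.zpowers u : Subgroup G) : Set G)) = p * 2)
    (hp5 : 5 ≤ p) :
    ∃ (d f : ℕ) (a ε : ℤ), (a = 1 ∨ a = -1) ∧ (ε = 1 ∨ ε = -1) ∧ (d : ℤ) ≡ a [ZMOD p] ∧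
      ε * f = 1 + a * d ∧ 1 < d ∧ 1 < f ∧ d ∣ Nat.card G ∧ f ∣ Nat.card G ∧ ¬ p ∣ d ∧ ¬ p ∣ f ∧
      ∀ t : G, orderOf t = 2 → ∃ x : ℤ, x.natAbs ≤ d ∧
        Nat.card (Subgroup.centralizer ({t} : Set G)) ^ 2 * p * d * f =
          Nat.card G * ((d : ℤ) - x).natAbs ^ 2 ∧
        1 + x ^ 2 + (1 + a * x) ^ 2 ≤ (Nat.card (Subgroup.centralizer ({t} : Set G)) : ℤ) := by
  classical
  haveI := irrFintype G
  obtain ⟨B, Y, ε, a, hε, hdis, hB2, ⟨θ₀, hθ₀⟩, hprin, ha1, hBp, hdeg, hzero, hYv⟩ :=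
    selfCentral_data u hu hsq hC hN le_rfl (by omega)
  obtain ⟨χ, hχ⟩ : ∃ χ, B.erase (principal G) = {χ} := Finset.card_eq_one.1
    (by rw [Finset.card_erase_of_mem hprin, hB2])
  have hχB : χ ∈ B := Finset.mem_of_mem_erase (hχ ▸ Finset.mem_singleton_self χ)
  have hχne : χ ≠ principal G := Finset.ne_of_mem_erase (hχ ▸ Finset.mem_singleton_self χ)
  have hBsum : ∀ F : IrrCharacter G → ℂ, ∑ ψ ∈ B, F ψ = F (principal G) + F χ := fun F => by
    rw [← Finset.add_sum_erase _ _ hprin, hχ, Finset.sum_singleton]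
  obtain ⟨haχ, hχu, hχmod⟩ := hBp χ hχB
  set d := charDegree (χ : G → ℂ) with hd
  set f := charDegree (θ₀ : G → ℂ) with hf
  have hYg : ∀ θ ∈ Y, ∀ g : G, ¬ p ∣ orderOf g →
      (ε : ℂ) * (θ : G → ℂ) g = 1 + (a χ : ℂ) * (χ : G → ℂ) g := fun θ hθ g hg => by
    rw [(hYv θ hθ).2 g hg, hBsum, ha1, principal_apply, Int.cast_one, one_mul]
  have h1reg : ¬ p ∣ orderOf (1 : G) := by rw [orderOf_one]; exact hp.out.not_dvd_one
  have hεC : (ε : ℂ) * (ε : ℂ) = 1 := by rcases hε with rfl | rfl <;> simp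
  have hYsame : ∀ θ ∈ Y, ∀ g : G, ¬ p ∣ orderOf g →
      (θ : G → ℂ) g = (θ₀ : G → ℂ) g := fun θ hθ g hg => by
    have h := (hYg θ hθ g hg).trans (hYg θ₀ hθ₀ g hg).symm
    have := congrArg ((ε : ℂ) * ·) h
    simp only [← mul_assoc, hεC, one_mul] at this
    exact this
  have heq : ε * (f : ℤ) = 1 + a χ * (d : ℤ) := by
    have h := hYg θ₀ hθ₀ 1 h1reg
    rw [deg_eq θ₀, deg_eq χ, ← hf, ← hd] at h
    exact_mod_cast h
  have hθne : θ₀ ≠ principal G := fun h => (hYv θ₀ hθ₀).1 h.symm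
  have hdd : ∀ ψ : IrrCharacter G, charDegree (ψ : G → ℂ) ∣ Nat.card G := fun ψ => by
    obtain ⟨n, -, hn, hdvd⟩ := irr_degree_dvd_card ψ.2
    rw [deg_eq ψ, Nat.cast_inj] at hn
    exact hn ▸ hdvd
  refine ⟨d, f, a χ, ε, haχ, hε, hχmod, heq, one_lt_charDegree hG hχne,
    one_lt_charDegree hG hθne, hdd χ, hdd θ₀,
    hdeg χ (Finset.mem_union_left _ hχB), hdeg θ₀ (Finset.mem_union_right _ hθ₀), ?_⟩
  intro t ht
  have ht2 : t * t = 1 := by rw [← pow_two, ← ht]; exact pow_orderOf_eq_one t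
  have htreg : ¬ p ∣ orderOf t := by
    rw [ht]; exact fun h => absurd (Nat.le_of_dvd two_pos h) (by omega)
  have hd0 : (d : ℂ) ≠ 0 := Nat.cast_ne_zero.2 (deg_pos χ).ne'
  have hf0 : (f : ℂ) ≠ 0 := Nat.cast_ne_zero.2 (deg_pos θ₀).ne'
  obtain ⟨x, hx⟩ := exists_int_apply_involution ht2 χ
  -- the column of `u` against the degrees
  have hSY : ∑ θ ∈ Y, conj ((θ : G → ℂ) u) = -(ε : ℂ) := by
    have h := sum_degree_mul (G := G) u
    have hu1 : u ≠ 1 := fun h => by
      rw [h, orderOf_one] at hu; exact hp.out.one_lt.ne hu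
    rw [if_neg hu1, ← Finset.sum_subset (Finset.subset_univ (B ∪ Y)) (fun ψ _ hψ => by
      rw [hzero ψ hψ, mul_zero]), Finset.sum_union hdis, hBsum, principal_apply, principal_apply,
      one_mul, hχu, deg_eq χ, ← hd, Finset.sum_congr rfl (fun θ hθ => by
        rw [hYsame θ hθ 1 h1reg, deg_eq θ₀, ← hf]), ← Finset.mul_sum] at h
    have heq' : (ε : ℂ) * f = 1 + (a χ : ℂ) * d := by exact_mod_cast heq
    have h2 : (f : ℂ) * ∑ θ ∈ Y, (θ : G → ℂ) u = (f : ℂ) * (-(ε : ℂ)) := by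
      linear_combination h + heq'
    rw [← map_sum, mul_left_cancel₀ hf0 h2, map_neg, map_intCast]
  -- the class algebra
  set K := Nat.card {g : G // IsConj t g} with hK
  set cnt := (Finset.univ.filter fun y : G => IsConj t y ∧ IsConj t (y⁻¹ * u)).card with hcnt
  have hconv : conv (classInd t) (classInd t) u = (cnt : ℂ) := by
    rw [hcnt, conv, Finset.card_filter, Nat.cast_sum]
    refine Finset.sum_congr rfl fun y _ => ?_
    rw [classInd_apply, classInd_apply]
    by_cases h1 : IsConj t y <;> by_cases h2 : IsConj t (y⁻¹ * u) <;>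
      simp only [h1, h2, if_true, if_false, and_true, and_false, mul_one, mul_zero, zero_mul,
        Nat.cast_one, Nat.cast_zero]
  have hω : ∀ ψ : IrrCharacter G, omega (ψ : G → ℂ) (classInd t) =
      (K : ℂ) * (ψ : G → ℂ) t / (ψ : G → ℂ) 1 := fun ψ => by
    rw [omega_classInd, centralChar, index_centralizer_eq]
  have hformula : (cnt : ℂ) * Nat.card G = (K : ℂ) ^ 2 * ∑ ψ : IrrCharacter G,
      (ψ : G → ℂ) t ^ 2 / (ψ : G → ℂ) 1 * conj ((ψ : G → ℂ) u) := by
    rw [← hconv, classFun_eq_sum_omega (isClassFunction_conv (isClassFunction_classInd t)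
      (isClassFunction_classInd t)), Finset.sum_mul, Finset.mul_sum]
    refine Finset.sum_congr rfl fun ψ _ => ?_
    rw [omega_conv ψ (isClassFunction_classInd t), hω, idemCoeff]
    have := irr_degree_ne_zero ψ.2
    have := card_ne_zero G
    field_simp
  have heqC : (ε : ℂ) * f = 1 + (a χ : ℂ) * d := by exact_mod_cast heq
  have hyt := hYg θ₀ hθ₀ t htreg
  rw [← hx] at hyt
  have hkey : (cnt : ℂ) * Nat.card G * (d * f) =
      (K : ℂ) ^ 2 * ((ε : ℂ) * (a χ : ℂ) * ((d : ℂ) - x) ^ 2) := by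
    rw [hformula, ← Finset.sum_subset (Finset.subset_univ (B ∪ Y)) (fun ψ _ hψ => by
      rw [hzero ψ hψ, map_zero, mul_zero]), Finset.sum_union hdis, hBsum, principal_apply,
      principal_apply, principal_apply, map_one, hχu, ← hx, deg_eq χ, ← hd, map_intCast,
      Finset.sum_congr rfl (fun θ hθ => by
        rw [hYsame θ hθ 1 h1reg, hYsame θ hθ t htreg, deg_eq θ₀, ← hf]),
      ← Finset.mul_sum, hSY]
    have haC : (a χ : ℂ) * (a χ : ℂ) = 1 := by rcases haχ with h | h <;> simp [h]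
    set y := (θ₀ : G → ℂ) t with hy
    set A := (a χ : ℂ) with hA
    set E := (ε : ℂ) with hE
    have hf' : (f : ℂ) = E * (1 + A * d) := by linear_combination E * heqC - (f : ℂ) * hεC
    have hy' : y = E * (1 + A * x) := by linear_combination E * hyt - y * hεC
    field_simp
    rw [hf', hy']
    linear_combination (-((K : ℂ) ^ 2) * E * d * (1 + A * (x : ℂ)) ^ 2) * hεC
  have hxd : (x : ℤ) ≠ d := fun h => by
    refine apply_ne_degree (t := t) (fun L hL htL => ?_) χ hχne ?_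
    · rcases hL.eq_bot_or_eq_top with h' | h'
      · exfalso
        rw [h', Subgroup.mem_bot] at htL
        rw [htL, orderOf_one] at ht
        exact absurd ht (by norm_num)
      · exact h'
    · rw [← hx, deg_eq χ, ← hd, h, Int.cast_natCast]
  have hcnt0 : cnt ≠ 0 := by
    intro h0
    rw [h0, Nat.cast_zero, zero_mul, zero_mul] at hkey
    have hK0 : (K : ℂ) ≠ 0 := by
      haveI : Nonempty {g : G // IsConj t g} := ⟨⟨t, IsConj.refl t⟩⟩
      exact Nat.cast_ne_zero.2 Nat.card_pos.ne'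
    rcases mul_eq_zero.1 hkey.symm with h | h
    · exact pow_ne_zero 2 hK0 h
    · have hA0 : (ε : ℂ) * (a χ : ℂ) ≠ 0 := by
        rcases haχ with h' | h' <;> rcases hε with h'' | h'' <;> simp [h', h'']
      have := pow_eq_zero_iff two_ne_zero |>.1 ((mul_eq_zero.1 h).resolve_left hA0)
      rw [sub_eq_zero] at this
      exact hxd (by exact_mod_cast this.symm)
  have hcntp : cnt = p := by
    set N := Subgroup.normalizer ((Subgroup.zpowers u : Subgroup G) : Set G) with hNdef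
    have hinvol : ∀ y : G, IsConj t y → y * y = 1 := fun y hy => by
      obtain ⟨c, rfl⟩ := isConj_iff.1 hy
      rw [show c * t * c⁻¹ * (c * t * c⁻¹) = c * (t * t) * c⁻¹ by group, ht2, mul_one,
        mul_inv_cancel]
    have hinv : ∀ y : G, IsConj t y → IsConj t (y⁻¹ * u) → y * u * y⁻¹ = u⁻¹ := by
      intro y h1 h2
      have e1 := hinvol y h1
      have e2 := hinvol _ h2
      rw [inv_eq_of_mul_eq_one_right e1] at e2 ⊢
      exact eq_inv_of_mul_eq_one_left (by simpa [mul_assoc] using e2)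
    obtain ⟨y₀, hy₀⟩ := Finset.card_ne_zero.1 hcnt0
    obtain ⟨hy₀t, hy₀u⟩ := (Finset.mem_filter.1 hy₀).2
    have hy₀i := hinv y₀ hy₀t hy₀u
    have hy₀2 := hinvol y₀ hy₀t
    have hpow : ∀ i : ℕ, y₀ * u ^ i * y₀⁻¹ = (u ^ i)⁻¹ := fun i => by
      rw [← conj_pow, hy₀i, inv_pow]
    have hconj : ∀ i : ℕ, IsConj t (y₀ * u ^ i) := by
      intro i
      obtain ⟨j, hj⟩ : ∃ j : ℕ, (u ^ j) ^ 2 = u ^ i := by
        refine ⟨i * ((p + 1) / 2), ?_⟩
        rw [← pow_mul, mul_assoc]
        have hodd : p % 2 = 1 := hp.out.eq_two_or_odd.resolve_left (by omega)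
        rw [show (p + 1) / 2 * 2 = p + 1 by omega, mul_add, mul_one, pow_add, mul_comm,
          pow_mul, ← hu, pow_orderOf_eq_one, one_pow, one_mul]
      refine hy₀t.trans (isConj_iff.2 ⟨(u ^ j)⁻¹, ?_⟩)
      rw [inv_inv, ← hj, pow_two]
      have := hpow j
      rw [mul_inv_eq_iff_eq_mul] at this
      calc (u ^ j)⁻¹ * y₀ * u ^ j = y₀ * u ^ j * u ^ j := by rw [← this]
        _ = y₀ * (u ^ j * u ^ j) := mul_assoc _ _ _
    rw [hcnt]
    refine (Finset.card_eq_of_bijective (fun i _ => y₀ * u ^ i) ?_ ?_ ?_)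
    · intro y hy
      obtain ⟨h1, h2⟩ := (Finset.mem_filter.1 hy).2
      have hyi := hinv y h1 h2
      have hc : y₀⁻¹ * y ∈ Subgroup.zpowers u := by
        rw [← hC, Subgroup.zpowers_eq_closure, Subgroup.centralizer_closure,
          Subgroup.mem_centralizer_singleton_iff]
        rw [mul_inv_eq_iff_eq_mul] at hyi
        have h3 : y₀⁻¹ * u⁻¹ = u * y₀⁻¹ := by
          rw [← hy₀i]; group
        calc y₀⁻¹ * y * u = y₀⁻¹ * (u⁻¹ * y) := by rw [mul_assoc, hyi]
          _ = u * (y₀⁻¹ * y) := by rw [← mul_assoc, h3, mul_assoc]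
      obtain ⟨i, hi⟩ := mem_powers_iff_mem_zpowers.2 hc
      refine ⟨i % p, Nat.mod_lt _ hp.out.pos, ?_⟩
      rw [← hu, pow_mod_orderOf]
      exact eq_inv_mul_iff_mul_eq.1 hi
    · intro i _
      refine Finset.mem_filter.2 ⟨Finset.mem_univ _, hconj i, ?_⟩
      rw [mul_inv_rev, inv_eq_of_mul_eq_one_right hy₀2]
      have h3 : (u ^ i)⁻¹ * y₀ = y₀ * u ^ i := by
        have := hpow i
        rw [mul_inv_eq_iff_eq_mul] at this
        exact this.symm
      rw [h3, mul_assoc, ← pow_succ]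
      exact hconj (i + 1)
    · intro i j hi hj hij
      exact (pow_injOn_Iio_orderOf (x := u)) (by simpa [hu] using hi) (by simpa [hu] using hj)
        (mul_left_cancel hij)
  refine ⟨x, ?_, ?_, ?_⟩
  · have h := char_norm_le (isCharacter_of_irr χ.2) t
    rw [← hx, deg_eq χ, ← hd, Complex.norm_intCast, Complex.natCast_re] at h
    have h' : x.natAbs ≤ d := by
      rw [← Int.cast_abs, Int.abs_eq_natAbs] at h
      exact_mod_cast h
    exact h'
  · have hcl : K * Nat.card (Subgroup.centralizer ({t} : Set G)) = Nat.card G :=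
      card_isConj_mul_card_centralizer t
    set c := Nat.card (Subgroup.centralizer ({t} : Set G)) with hc
    have hKne : (K : ℂ) ≠ 0 := by
      intro h
      rw [Nat.cast_eq_zero] at h
      rw [h, zero_mul] at hcl
      exact Nat.card_pos.ne' hcl.symm
    rw [hcntp, ← hcl, Nat.cast_mul] at hkey
    have hkey2 : ((p : ℂ) * c) * (d * f) = (K : ℂ) * ((ε : ℂ) * (a χ : ℂ) * ((d : ℂ) - x) ^ 2) := by
      apply mul_left_cancel₀ hKne
      linear_combination hkey
    have hz : ((p * c * (d * f) : ℕ) : ℤ) = (K : ℤ) * (ε * a χ * ((d : ℤ) - x) ^ 2) := by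
      exact_mod_cast hkey2
    have hz' := congrArg Int.natAbs hz
    rw [Int.natAbs_natCast, Int.natAbs_mul, Int.natAbs_natCast, Int.natAbs_mul, Int.natAbs_pow,
      show (ε * a χ).natAbs = 1 by rcases haχ with h | h <;> rcases hε with h' | h' <;>
        simp [h, h'], one_mul] at hz'
    rw [← hcl]
    calc c ^ 2 * p * d * f = c * (p * c * (d * f)) := by ring
      _ = _ := by rw [hz']; ring
  · have hyi : ((ε * (1 + a χ * x) : ℤ) : ℂ) = (θ₀ : G → ℂ) t := by
      push_cast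
      linear_combination -(ε : ℂ) * hyt + (θ₀ : G → ℂ) t * hεC
    have hθχ : θ₀ ≠ χ := fun h => Finset.disjoint_left.1 hdis hχB (h ▸ hθ₀)
    let v : IrrCharacter G → ℤ := fun ψ => (exists_int_apply_involution ht2 ψ).choose
    have hv : ∀ ψ, (v ψ : ℂ) = (ψ : G → ℂ) t := fun ψ =>
      (exists_int_apply_involution ht2 ψ).choose_spec
    have e1 : v (principal G) = 1 := by
      exact_mod_cast (hv (principal G)).trans (principal_apply t)
    have e2 : v χ = x := by exact_mod_cast (hv χ).trans hx.symm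
    have e3 : v θ₀ = ε * (1 + a χ * x) := by exact_mod_cast (hv θ₀).trans hyi.symm
    have h := CfsgLib.M12Order.sum_sq_le_card_cen ({principal G, χ, θ₀} : Finset (IrrCharacter G)) v
      fun ψ _ => hv ψ
    rw [Finset.sum_insert (by simp [Ne.symm hχne, Ne.symm hθne]),
      Finset.sum_pair (Ne.symm hθχ), e1, e2, e3] at h
    have hε2 : ε * ε = 1 := by rcases hε with rfl | rfl <;> norm_num
    linear_combination h - (1 + a χ * x) ^ 2 * hε2

end CfsgLib.Spor.TenClasses
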