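import Cfsg.Agent.Lib.Spor.TenClasses.Defs
import Cfsg.Agent.Lib.Spor.NineClasses.Prime
import Cfsg.Agent.Lib.Spor.NineClasses.Mixed
import Cfsg.Agent.Lib.Spor.NineClasses.Dfs

/-!
# Three classes attached to a pair of primes
-/

set_option autoImplicit false

open Subgroup

namespace CfsgLib.Spor.TenClasses

open CfsgLib.Spor.NineClasses

theorem anyMem_iff' (p : ℕ → Bool) (l : List ℕ) : anyMem p l = true ↔ ∃ a ∈ l, p a = true := by
  induction l with
  | nil => simp [anyMem]
  | cons a l ih =>
    rw [show anyMem p (a :: l) = (p a || anyMem p l) from rfl, Bool.or_eq_true, ih]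
    simp

theorem countDvd_eq (v : ℕ) (c : List ℕ) : countDvd v c = c.countP (fun a => a % v == 0) := by
  induction c with
  | nil => rfl
  | cons a c ih =>
    rw [show countDvd v (a :: c) = cond (Nat.beq (a % v) 0) (countDvd v c + 1) (countDvd v c) from rfl,
      ih, List.countP_cons]
    cases h : Nat.beq (a % v) 0 with
    | false => simp [Nat.ne_of_beq_eq_false h]
    | true => simp [Nat.eq_of_beq_eq_true h]

theorem countEq_eq (v : ℕ) (c : List ℕ) : countEq v c = c.count v := by
  induction c with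
  | nil => rfl
  | cons a c ih =>
    rw [show countEq v (a :: c) = cond (Nat.beq a v) (countEq v c + 1) (countEq v c) from rfl,
      ih, List.count_cons]
    cases h : Nat.beq a v with
    | false => simp [Nat.ne_of_beq_eq_false h]
    | true => simp [Nat.eq_of_beq_eq_true h]

/-- The full power removed by `pPart` leaves nothing to divide. -/
theorem pPart_full {d : ℕ} (hd : 2 ≤ d) : ∀ fuel m, 0 < m → m < d ^ fuel →
    pPart d m fuel ∣ m ∧ ¬ d ∣ m / pPart d m fuel := by
  intro fuel
  induction fuel with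
  | zero => intro m h1 h2; simp at h2; omega
  | succ f ih =>
    intro m h1 h2
    rw [pPart]
    by_cases h : m % d = 0
    · have hdd : d ∣ m := Nat.dvd_of_mod_eq_zero h
      have hm0 : 0 < m / d := Nat.div_pos (Nat.le_of_dvd h1 hdd) (by omega)
      have hlt : m / d < d ^ f := by
        rw [Nat.div_lt_iff_lt_mul (by omega), ← pow_succ]; exact h2
      obtain ⟨hq, hn⟩ := ih (m / d) hm0 hlt
      simp only [h, beq_self_eq_true, if_true]
      refine ⟨?_, by rwa [← Nat.div_div_eq_div_mul]⟩
      have := Nat.mul_dvd_mul_left d hq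
      rwa [Nat.mul_div_cancel' hdd] at this
    · simp only [beq_eq_false_iff_ne.2 h, Bool.false_eq_true, if_false]
      exact ⟨one_dvd _, by rw [Nat.div_one]; exact fun hh => h (Nat.mod_eq_zero_of_dvd hh)⟩

theorem mem_supAux : ∀ fuel d n B, 2 ≤ d → 0 < n → n ≤ B → d ≤ B + 2 → B + 3 ≤ d + fuel →
    (∀ p, p.Prime → p ∣ n → d ≤ p) → ∀ p, p ∈ supAux fuel d n ↔ p.Prime ∧ p ∣ n := by
  intro fuel
  induction fuel with
  | zero => intro d n B _ _ _ h4 h5; omega
  | succ f ih =>
    intro d n B h1 h2 h3 h4 h5 h6 p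
    rw [show supAux (f + 1) d n = force d fun d => force n fun n =>
      cond (Nat.blt n (d * d)) (cond (Nat.blt 1 n) [n] [])
        (cond (Nat.beq (n % d) 0) (d :: supAux f (d + 1) (n / pPart d n n))
          (supAux f (d + 1) n)) from rfl]
    simp only [force_eq]
    by_cases hlt : n < d * d
    · rw [show Nat.blt n (d * d) = true from Nat.ble_eq_true_of_le hlt, cond_true]
      by_cases h1n : 1 < n
      · rw [show Nat.blt 1 n = true from Nat.ble_eq_true_of_le h1n, cond_true, List.mem_singleton]
        have hnp : n.Prime := by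
          rw [Nat.prime_def_minFac]
          refine ⟨h1n, ?_⟩
          obtain ⟨b, hb⟩ := Nat.minFac_dvd n
          have hq := h6 _ (Nat.minFac_prime h1n.ne') (Nat.minFac_dvd n)
          rcases Nat.lt_or_ge 1 b with hb1 | hb1
          · have hr := h6 _ (Nat.minFac_prime hb1.ne') ((Nat.minFac_dvd b).trans (by rw [hb]; exact dvd_mul_left b _))
            have := (Nat.minFac_le (by omega : 0 < b))
            have := Nat.mul_le_mul hq (hr.trans this)
            omega
          · rcases Nat.eq_zero_or_pos b with h0 | h0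
            · rw [h0, Nat.mul_zero] at hb; omega
            · rw [show b = 1 by omega, Nat.mul_one] at hb; exact hb.symm
        constructor
        · rintro rfl; exact ⟨hnp, dvd_rfl⟩
        · exact fun ⟨hp, hd⟩ => (Nat.prime_dvd_prime_iff_eq hp hnp).1 hd
      · have hn1 : n = 1 := by omega
        subst hn1
        simp [Nat.blt, Nat.ble, Nat.dvd_one]
        exact fun hp => hp.one_lt.ne'
    · have hdn : d ≤ n := by
        have := Nat.le_mul_self d; omega
      rw [show Nat.blt n (d * d) = false from Bool.eq_false_iff.2 fun h => hlt (Nat.le_of_ble_eq_true h),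
        cond_false]
      by_cases hmod : n % d = 0
      · rw [show Nat.beq (n % d) 0 = true by rw [hmod]; rfl, cond_true, List.mem_cons]
        have hdd : d ∣ n := Nat.dvd_of_mod_eq_zero hmod
        have hdp : d.Prime := by
          have h := h6 _ (Nat.minFac_prime (show d ≠ 1 by omega)) ((Nat.minFac_dvd d).trans hdd)
          have h' := Nat.minFac_le (show 0 < d by omega)
          rw [show d = d.minFac by omega]
          exact Nat.minFac_prime (by omega)
        obtain ⟨hq, hn'⟩ := pPart_full h1 n n h2 (Nat.lt_pow_self (by omega))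
        obtain ⟨k, hk, -⟩ := pPart_spec (p := d) n n h2.ne'
        set m := n / pPart d n n with hm
        have hmn : m ∣ n := Nat.div_dvd_of_dvd hq
        have hm0 : 0 < m := Nat.pos_of_dvd_of_pos hmn h2
        have hrec := ih (d + 1) m B (by omega) hm0 ((Nat.le_of_dvd h2 hmn).trans h3) (by omega)
          (by omega) (fun q hq' hqm => by
            rcases Nat.eq_or_lt_of_le (h6 q hq' (hqm.trans hmn)) with e | e
            · exact absurd (e ▸ hqm) hn'
            · exact e) p
        rw [hrec]
        constructor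
        · rintro (rfl | ⟨hp, hpm⟩)
          · exact ⟨hdp, hdd⟩
          · exact ⟨hp, hpm.trans hmn⟩
        · rintro ⟨hp, hpn⟩
          by_cases hpd : p = d
          · exact Or.inl hpd
          · refine Or.inr ⟨hp, ?_⟩
            have hprod : n = d ^ k * m := by rw [← hk, hm, Nat.mul_div_cancel' hq]
            rw [hprod] at hpn
            rcases hp.dvd_mul.1 hpn with h | h
            · exact absurd ((Nat.prime_dvd_prime_iff_eq hp hdp).1 (hp.dvd_of_dvd_pow h)) hpd
            · exact h
      · rw [show Nat.beq (n % d) 0 = false from Bool.eq_false_iff.2 fun h =>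
            hmod (Nat.eq_of_beq_eq_true h), cond_false]
        exact ih (d + 1) n B (by omega) h2 h3 (by omega) (by omega) (fun q hq hqn => by
          rcases Nat.eq_or_lt_of_le (h6 q hq hqn) with e | e
          · exact absurd (Nat.mod_eq_zero_of_dvd (e ▸ hqn)) hmod
          · exact e) p

/-- The prime divisors. -/
theorem mem_sup {x p : ℕ} (hx : 0 < x) : p ∈ sup x ↔ p.Prime ∧ p ∣ x :=
  mem_supAux (x + 2) 2 x x le_rfl hx le_rfl (by omega) (by omega) (fun _ hq _ => hq.two_le) p

theorem smallPrimes_prime : ∀ a ∈ smallPrimes, a.Prime := by decide +kernel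

theorem dvd_smallProd : ∀ a ∈ smallPrimes, smallProd % a = 0 ∧ smallProd % (a * a) ≠ 0 := by
  decide +kernel

theorem mem_smallPrimes_of_lt : ∀ q < 212, q.Prime → q ∈ smallPrimes := by decide +kernel

theorem smallProd_eq : smallProd = smallPrimes.prod := by decide +kernel

theorem mem_smallPrimes_of_dvd {q : ℕ} (hq : q.Prime) (h : q ∣ smallProd) : q ∈ smallPrimes := by
  rw [smallProd_eq] at h
  obtain ⟨a, ha, hqa⟩ := (Prime.dvd_prod_iff hq.prime).1 h
  rwa [(Nat.prime_dvd_prime_iff_eq hq (smallPrimes_prime a ha)).1 hqa]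

theorem primeGe5_sound {p : ℕ} (h : primeGe5 p = true) : p.Prime ∧ 5 ≤ p := by
  rw [primeGe5, Bool.and_eq_true, Nat.ble_eq] at h
  obtain ⟨h5, hc⟩ := h
  refine ⟨?_, h5⟩
  cases hlt : Nat.blt p 44521 with
  | true =>
    rw [hlt, cond_true, Bool.or_eq_true, Bool.and_eq_true] at hc
    rcases hc with hc | ⟨-, hc⟩
    · have hg : Nat.gcd p smallProd = 1 := Nat.eq_of_beq_eq_true hc
      by_contra hnp
      have hq : p.minFac.Prime := Nat.minFac_prime (by omega)
      have hsq := Nat.minFac_sq_le_self (by omega) hnp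
      have hb : p < 44521 := Nat.le_of_ble_eq_true hlt
      have hq' : p.minFac < 212 := by nlinarith
      have hd := Nat.dvd_gcd (Nat.minFac_dvd p)
        (Nat.dvd_of_mod_eq_zero (dvd_smallProd _ (mem_smallPrimes_of_lt _ hq' hq)).1)
      rw [hg, Nat.dvd_one] at hd
      exact hq.one_lt.ne' hd
    · exact smallPrimes_prime p (List.mem_of_elem_eq_true hc)
  | false =>
    rw [hlt, cond_false] at hc
    have hp : ∀ l : List ℕ, List.rec (motive := fun _ => Bool) false (fun a _ _ => Nat.beq a p) l = true →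
        p ∈ l := by
      intro l hl
      cases l with
      | nil => exact Bool.noConfusion hl
      | cons a l => exact List.mem_cons.2 (Or.inl (Nat.eq_of_beq_eq_true hl).symm)
    exact ((mem_sup (by omega)).1 (hp _ hc)).1

theorem dvd_prodOf {a : ℕ} {c : List ℕ} (h : a ∈ c) : a ∣ prodOf c := by
  induction c with
  | nil => simp at h
  | cons b c ih =>
    change a ∣ b * prodOf c
    rcases List.mem_cons.1 h with rfl | h
    · exact dvd_mul_right _ _
    · exact dvd_mul_of_dvd_right (ih h) _

/-- The quick test rejects nothing that the test of the pairs of primes lets pass. -/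
theorem edgeBad_false {pre : List ℕ} {x : ℕ} (hx : 0 < x) (h : edgeOne (x :: pre) 1 x = true) :
    edgeBad pre x = false := by
  rw [edgeBad, force_eq]
  set m := prodOf pre with hm
  by_cases hc : (!(Nat.blt x 4294967296) || Nat.beq (m ^ 32 % x) 0) = true
  · rw [hc, cond_true, h]; rfl
  rw [Bool.eq_false_iff.2 hc, cond_false]
  simp only [Bool.or_eq_true, Bool.not_eq_true', not_or, Bool.not_eq_false] at hc
  obtain ⟨hlt, hnd⟩ := hc
  replace hlt : x < 4294967296 := Nat.le_of_ble_eq_true hlt
  replace hnd : ¬ m ^ 32 % x = 0 := fun e => hnd (by rw [e]; rfl)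
  have hexp : ∀ q : ℕ, q.Prime → x.factorization q < 32 := by
    intro q hq
    have h1 : q ^ x.factorization q ≤ x := Nat.le_of_dvd hx (Nat.ordProj_dvd x q)
    by_contra h2
    have h3 : 2 ^ 32 ≤ q ^ x.factorization q :=
      (Nat.pow_le_pow_left hq.two_le 32).trans (Nat.pow_le_pow_right hq.pos (not_lt.1 h2))
    norm_num at h3
    omega
  obtain ⟨q, hq, hqx, hqm⟩ : ∃ q, q.Prime ∧ q ∣ x ∧ ¬ q ∣ m := by
    by_contra hne
    refine hnd (Nat.mod_eq_zero_of_dvd ((Nat.dvd_iff_prime_pow_dvd_dvd _ _).2 fun p k hp hpk => ?_))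
    rcases Nat.eq_zero_or_pos k with rfl | hk
    · simp
    · have hpx : p ∣ x := (dvd_pow_self p hk.ne').trans hpk
      have hpm : p ∣ m := by_contra fun e => hne ⟨p, hp, hpx, e⟩
      have hk32 : k ≤ 32 := ((hp.pow_dvd_iff_le_factorization hx.ne').1 hpk).trans (hexp p hp).le
      exact (pow_dvd_pow p hk32).trans (pow_dvd_pow_of_dvd hpm 32)
  have hcnt : ∀ r, countDvd (r * q) (x :: pre) ≤ 1 := by
    intro r
    rw [countDvd_eq, List.countP_cons]
    have h0 : pre.countP (fun a => a % (r * q) == 0) = 0 := by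
      rw [List.countP_eq_zero]
      intro a ha e
      exact hqm ((dvd_mul_left q r).trans ((Nat.dvd_of_mod_eq_zero (beq_iff_eq.1 e)).trans
        (dvd_prodOf ha)))
    rw [h0]; split <;> omega
  have huniq : ∀ p, p.Prime → p ∣ x → p = q := by
    simp only [edgeOne, force_eq, Bool.or_eq_true, anyMem_iff', allMem_iff, Nat.ble_eq] at h
    rcases h with ⟨r, hr, hall⟩ | h
    · have hrq : r = q := by
        rcases hall q ((mem_sup hx).2 ⟨hq, hqx⟩) with e | e
        · exact (Nat.eq_of_beq_eq_true e).symm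
        · have := hcnt r; omega
      intro p hp hpx
      rcases hall p ((mem_sup hx).2 ⟨hp, hpx⟩) with e | e
      · rw [← hrq]; exact Nat.eq_of_beq_eq_true e
      · have := hcnt p; rw [hrq, mul_comm] at e; omega
    · have := Nat.le_of_dvd hx hqx; have := hq.two_le; omega
  have hg : Nat.gcd x m = 1 := by
    by_contra hg
    obtain ⟨p, hp, hpd⟩ := Nat.exists_prime_and_dvd hg
    obtain ⟨h1, h2⟩ := Nat.dvd_gcd_iff.1 hpd
    exact hqm (huniq p hp h1 ▸ h2)
  rw [show Nat.beq (Nat.gcd x m) 1 = true by rw [hg]; rfl, cond_true, force_eq]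
  set g := Nat.gcd x smallProd with hgd
  by_cases hg1 : Nat.blt 1 g = true
  swap
  · rw [Bool.eq_false_iff.2 hg1]; rfl
  have hg2 : 1 < g := Nat.le_of_ble_eq_true hg1
  obtain ⟨p, hp, hpg⟩ := Nat.exists_prime_and_dvd hg2.ne'
  have hpq := huniq p hp (hpg.trans (Nat.gcd_dvd_left _ _))
  subst hpq
  have hps : p ∈ smallPrimes := mem_smallPrimes_of_dvd hp (hpg.trans (Nat.gcd_dvd_right _ _))
  obtain ⟨b, hb⟩ := hpg
  have hb1 : b = 1 := by
    by_contra hb1
    obtain ⟨r, hr, hrb⟩ := Nat.exists_prime_and_dvd hb1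
    have hrg : r ∣ g := hb ▸ dvd_mul_of_dvd_right hrb p
    have hrp := huniq r hr (hrg.trans (Nat.gcd_dvd_left _ _))
    subst hrp
    exact (dvd_smallProd r hps).2 (Nat.mod_eq_zero_of_dvd
      ((show r * r ∣ g from hb ▸ mul_dvd_mul_left r hrb).trans (Nat.gcd_dvd_right _ _)))
  rw [hb1, Nat.mul_one] at hb
  have hpow : g ^ 32 % x = 0 := by
    refine Nat.mod_eq_zero_of_dvd ((Nat.dvd_iff_prime_pow_dvd_dvd _ _).2 fun r k hr hrk => ?_)
    rcases Nat.eq_zero_or_pos k with rfl | hk
    · simp
    · have e := huniq r hr ((dvd_pow_self r hk.ne').trans hrk)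
      subst e
      rw [hb]
      exact pow_dvd_pow r (((hr.pow_dvd_iff_le_factorization hx.ne').1 hrk).trans (hexp r hr).le)
  rw [hg1, hb, List.elem_eq_true_of_mem hps, ← hb, hpow]
  rfl

variable {G : Type*} [Group G] [Finite G] {n : ℕ}

/-- Three classes with centraliser orders divisible by the product of the two primes. -/
theorem edgeOne_sound (V : Vec G n) (i : Fin n) : edgeOne V.cs 0 (cord (V.rep i)) = true := by
  classical
  set g := V.rep i with hg
  have ho1 : orderOf g ≠ 1 := fun h => V.ne_one i (orderOf_eq_one_iff.1 h)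
  set r := (orderOf g).minFac with hr
  have hrp : r.Prime := Nat.minFac_prime ho1
  set x := g ^ (orderOf g / r) with hx
  have hxo : orderOf x = r := orderOf_pow_orderOf_div (orderOf_pos g).ne' (Nat.minFac_dvd _)
  rw [edgeOne, force_eq, Bool.or_eq_true]
  refine Or.inl ((anyMem_iff' _ _).2 ⟨r, (mem_sup (cord_pos g)).2
    ⟨hrp, (Nat.minFac_dvd _).trans (orderOf_dvd_cord g)⟩, (allMem_iff _ _).2 fun q hq => ?_⟩)
  obtain ⟨hqp, hqd⟩ := (mem_sup (cord_pos g)).1 hq
  rw [Bool.or_eq_true]
  by_cases hqr : q = r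
  · exact Or.inl (by rw [hqr]; exact Nat.beq_refl r)
  refine Or.inr ?_
  haveI : Fact q.Prime := ⟨hqp⟩
  obtain ⟨y, hy⟩ := exists_prime_orderOf_dvd_card' (G := centralizer ({g} : Set G)) q hqd
  have hyo : orderOf (y : G) = q := by rw [Subgroup.orderOf_coe, hy]
  have hxy : Commute x (y : G) := (commute_of_mem_centralizer y.2).pow_left _
  have hzo : orderOf (x * (y : G)) = r * q := by
    rw [hxy.orderOf_mul_eq_mul_orderOf_of_coprime (by
      rw [hxo, hyo]; exact (Nat.coprime_primes hrp hqp).2 (Ne.symm hqr)), hxo, hyo]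
  have hx1 : x ≠ 1 := fun h => by rw [h, orderOf_one] at hxo; exact hrp.one_lt.ne hxo
  have hy1 : (y : G) ≠ 1 := fun h => by rw [h, orderOf_one] at hyo; exact hqp.one_lt.ne hyo
  have hrq : 1 < r * q := by
    have := hrp.two_le; have := hqp.two_le; nlinarith
  have hz1 : x * (y : G) ≠ 1 := fun h => by rw [h, orderOf_one] at hzo; omega
  have hd : ∀ w : G, Commute w (x * (y : G)) → (cord w % (r * q) == 0) = true := by
    intro w hw
    rw [beq_iff_eq]
    refine Nat.mod_eq_zero_of_dvd (hzo ▸ ?_)
    rw [← Nat.card_zpowers]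
    exact card_dvd_of_le (zpowers_le.2 (mem_centralizer_of_commute hw))
  let f : Fin 3 → {i : Fin n // (cord (V.rep i) % (r * q) == 0) = true} :=
    ![⟨V.idx x hx1, by rw [V.cord_idx]; exact hd _ ((Commute.refl x).mul_right hxy)⟩,
      ⟨V.idx _ hy1, by rw [V.cord_idx]; exact hd _ (hxy.symm.mul_right (Commute.refl _))⟩,
      ⟨V.idx _ hz1, by rw [V.cord_idx]; exact hd _ (Commute.refl _)⟩]
  have hf : Function.Injective f := by
    intro a b hab
    have h := congrArg (fun z : {i : Fin n // _} => orderOf (V.rep z.1)) hab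
    have hr2 := hrp.two_le
    have hq2 := hqp.two_le
    have e1 : r < r * q := lt_mul_of_one_lt_right (by omega) (by omega)
    have e2 : q < r * q := lt_mul_of_one_lt_left (by omega) (by omega)
    fin_cases a <;> fin_cases b <;> simp [f, V.orderOf_idx, hxo, hyo, hzo] at h ⊢ <;> omega
  rw [Nat.ble_eq, countDvd_eq, V.countP_cs, Nat.add_zero]
  have h := Nat.card_le_card_of_injective f hf
  rwa [Nat.card_eq_fintype_card, Fintype.card_fin] at h

/-- The test of the pairs of primes holds. -/
theorem edge_sound (V : Vec G n) : edgeOK V.cs 0 = true := by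
  rw [edgeOK, Bool.or_eq_true]
  refine Or.inr ((allMem_iff _ _).2 fun v hv => ?_)
  obtain ⟨i, rfl⟩ := V.mem_cs.1 hv
  exact edgeOne_sound V i

/-- The test is inherited by a part of the vector. -/
theorem edge_mono {c pre rest : List ℕ} (hp : c.Perm (pre ++ rest)) (h : edgeOK c 0 = true) :
    edgeOK pre rest.length = true := by
  rw [edgeOK, Bool.or_eq_true] at h ⊢
  rcases h with h | h
  · exact absurd (Nat.le_of_ble_eq_true h) (by omega)
  by_cases h3 : 3 ≤ rest.length
  · exact Or.inl (Nat.ble_eq_true_of_le h3)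
  refine Or.inr ((allMem_iff _ _).2 fun v hv => ?_)
  have hv' := (allMem_iff _ _).1 h v (hp.mem_iff.2 (List.mem_append_left _ hv))
  simp only [edgeOne, force_eq, Bool.or_eq_true, anyMem_iff', allMem_iff, Nat.ble_eq] at hv' ⊢
  rcases hv' with ⟨r, hr, hall⟩ | hv1
  · refine Or.inl ⟨r, hr, fun q hq => ?_⟩
    rcases hall q hq with e | e
    · exact Or.inl e
    · refine Or.inr ?_
      rw [countDvd_eq] at e ⊢
      rw [hp.countP_eq, List.countP_append] at e
      have := List.countP_le_length (p := fun a => a % (r * q) == 0) (l := rest)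
      omega
  · exact Or.inr hv1

end CfsgLib.Spor.TenClasses
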