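import Cfsg.Agent.Lib.Spor.NineClasses.Small
import Cfsg.Agent.S0984

/-!
# Ten classes: representatives ordered by (centraliser order, element order); order 2520
-/

set_option autoImplicit false

open Equiv

namespace CfsgLib.Spor.TenClasses

open NineClasses

variable {G : Type*} [Group G] [Finite G]

theorem exists_vec_ordered {n : ℕ} (h : Nat.card (ConjClasses G) = n + 1) :
    ∃ V : Vec G n, ∀ i j, i ≤ j → cord (V.rep i) = cord (V.rep j) →
      orderOf (V.rep i) ≤ orderOf (V.rep j) := by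
  obtain ⟨V⟩ := exists_vec h
  let key : Fin n → ℕ := fun i => cord (V.rep i) * (Nat.card G + 1) + orderOf (V.rep i)
  let σ := Tuple.sort key
  have hmono : ∀ i j, i ≤ j → key (σ i) ≤ key (σ j) := fun i j hij => Tuple.monotone_sort key hij
  have hord : ∀ i : Fin n, orderOf (V.rep i) ≤ Nat.card G := fun i =>
    Nat.le_of_dvd Nat.card_pos (orderOf_dvd_natCard _)
  refine ⟨⟨fun i => V.rep (σ i), fun i => V.ne_one _, fun i j hij => σ.injective (V.inj _ _ hij),
    fun g hg => ⟨σ.symm (V.idx g hg), ?_⟩, fun i j hij => ?_⟩, fun i j hij he => ?_⟩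
  · simpa using V.isConj_idx g hg
  · by_contra hlt
    push Not at hlt
    have h1 := hmono i j hij
    have h2 := Nat.mul_le_mul_right (Nat.card G + 1) (Nat.succ_le_of_lt hlt)
    have h3 := hord (σ j)
    simp only [key] at h1
    rw [Nat.succ_mul] at h2
    omega
  · have h1 := hmono i j hij
    dsimp only at he ⊢
    simp only [key, he] at h1
    omega

/-- Representatives of the classes of `A₇`. -/
def repsSeven : List (Perm (Fin 7)) :=
  [1, swap 0 1 * swap 2 3, swap 0 1 * swap 1 2, swap 0 1 * swap 1 2 * (swap 3 4 * swap 4 5),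
    swap 0 1 * swap 1 2 * swap 2 3 * swap 4 5, swap 0 1 * swap 1 2 * swap 2 3 * swap 3 4,
    swap 0 1 * swap 1 2 * (swap 3 4 * swap 5 6),
    swap 0 1 * swap 1 2 * swap 2 3 * swap 3 4 * swap 4 5 * swap 5 6,
    swap 5 6 * swap 4 5 * swap 3 4 * swap 2 3 * swap 1 2 * swap 0 1]

theorem repsSeven_odd : ∀ r ∈ repsSeven,
    ∃ o : Perm (Fin 7), Perm.sign o = -1 ∧ o * r * o⁻¹ ∈ repsSeven := by
  intro r hr
  simp only [repsSeven, List.mem_cons, List.not_mem_nil, or_false] at hr
  rcases hr with rfl | rfl | rfl | rfl | rfl | rfl | rfl | rfl | rfl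
  · refine ⟨swap 0 1, by decide +kernel, ?_⟩
    exact List.mem_of_getElem? (i := 0) (congrArg some (Equiv.ext (by decide +kernel)))
  · refine ⟨swap 4 5, by decide +kernel, ?_⟩
    exact List.mem_of_getElem? (i := 1) (congrArg some (Equiv.ext (by decide +kernel)))
  · refine ⟨swap 4 5, by decide +kernel, ?_⟩
    exact List.mem_of_getElem? (i := 2) (congrArg some (Equiv.ext (by decide +kernel)))
  · refine ⟨swap 0 3 * swap 1 4 * swap 2 5, by decide +kernel, ?_⟩
    exact List.mem_of_getElem? (i := 3) (congrArg some (Equiv.ext (by decide +kernel)))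
  · refine ⟨swap 4 5, by decide +kernel, ?_⟩
    exact List.mem_of_getElem? (i := 4) (congrArg some (Equiv.ext (by decide +kernel)))
  · refine ⟨swap 5 6, by decide +kernel, ?_⟩
    exact List.mem_of_getElem? (i := 5) (congrArg some (Equiv.ext (by decide +kernel)))
  · refine ⟨swap 3 4, by decide +kernel, ?_⟩
    exact List.mem_of_getElem? (i := 6) (congrArg some (Equiv.ext (by decide +kernel)))
  · refine ⟨swap 0 6 * swap 1 5 * swap 2 4, by decide +kernel, ?_⟩
    exact List.mem_of_getElem? (i := 8) (congrArg some (Equiv.ext (by decide +kernel)))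
  · refine ⟨swap 0 6 * swap 1 5 * swap 2 4, by decide +kernel, ?_⟩
    exact List.mem_of_getElem? (i := 7) (congrArg some (Equiv.ext (by decide +kernel)))

theorem repsSeven_types :
    ∀ t ∈ ([[], [2, 2], [3], [3, 3], [2, 4], [5], [2, 2, 3], [7]] : List (List ℕ)),
      ∃ r ∈ repsSeven, r.cycleType = (t : Multiset ℕ) := by
  intro t ht
  simp only [List.mem_cons, List.not_mem_nil, or_false] at ht
  rcases ht with rfl | rfl | rfl | rfl | rfl | rfl | rfl | rfl
  · exact ⟨repsSeven[0], List.getElem_mem _, by decide +kernel⟩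
  · exact ⟨repsSeven[1], List.getElem_mem _, by decide +kernel⟩
  · exact ⟨repsSeven[2], List.getElem_mem _, by decide +kernel⟩
  · exact ⟨repsSeven[3], List.getElem_mem _, by decide +kernel⟩
  · exact ⟨repsSeven[4], List.getElem_mem _, by decide +kernel⟩
  · exact ⟨repsSeven[5], List.getElem_mem _, by decide +kernel⟩
  · exact ⟨repsSeven[6], List.getElem_mem _, by decide +kernel⟩
  · exact ⟨repsSeven[7], List.getElem_mem _, by decide +kernel⟩

/-- The possible cycle types of an even permutation of seven points. -/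
theorem cycleType_even {g : Perm (Fin 7)} (hg : Perm.sign g = 1) :
    ∃ t ∈ ([[], [2, 2], [3], [3, 3], [2, 4], [5], [2, 2, 3], [7]] : List (List ℕ)),
      g.cycleType = (t : Multiset ℕ) := by
  have hsum : g.cycleType.sum ≤ 7 := by simpa using g.sum_cycleType_le
  have h2 : ∀ x ∈ g.cycleType, 2 ≤ x := fun x hx => Perm.two_le_of_mem_cycleType hx
  have hev : Even (g.cycleType.sum + Multiset.card g.cycleType) := by
    rw [Perm.sign_of_cycleType] at hg
    by_contra hodd
    rw [Odd.neg_one_pow (Nat.not_even_iff_odd.1 hodd)] at hg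
    exact absurd hg (by decide)
  rw [Nat.even_iff] at hev
  obtain ⟨l, hl⟩ : ∃ l : List ℕ, g.cycleType = (l : Multiset ℕ) :=
    ⟨g.cycleType.sort (· ≤ ·), (g.cycleType.sort_eq (· ≤ ·)).symm⟩
  rw [hl] at hsum h2 hev ⊢
  simp only [Multiset.sum_coe, Multiset.coe_card, Multiset.mem_coe] at hsum h2 hev
  have key1 : ∀ a < 8, 2 ≤ a → (a + 1) % 2 = 0 →
      ∃ t ∈ ([[], [2, 2], [3], [3, 3], [2, 4], [5], [2, 2, 3], [7]] : List (List ℕ)),
        (([a] : List ℕ) : Multiset ℕ) = (t : Multiset ℕ) := by decide +kernel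
  have key2 : ∀ a b : Fin 8, 2 ≤ a.1 → 2 ≤ b.1 → a.1 + b.1 ≤ 7 → (a.1 + b.1 + 2) % 2 = 0 →
      ∃ t ∈ ([[], [2, 2], [3], [3, 3], [2, 4], [5], [2, 2, 3], [7]] : List (List ℕ)),
        List.Perm [a.1, b.1] t := by decide +kernel
  have key3 : ∀ a b c : Fin 8, 2 ≤ a.1 → 2 ≤ b.1 → 2 ≤ c.1 → a.1 + b.1 + c.1 ≤ 7 →
      (a.1 + b.1 + c.1 + 3) % 2 = 0 →
      ∃ t ∈ ([[], [2, 2], [3], [3, 3], [2, 4], [5], [2, 2, 3], [7]] : List (List ℕ)),
        List.Perm [a.1, b.1, c.1] t := by decide +kernel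
  match l with
  | [] => exact ⟨[], by simp, rfl⟩
  | [a] =>
    simp only [List.sum_cons, List.sum_nil, List.length_cons, List.length_nil, List.mem_cons,
      List.not_mem_nil, or_false, forall_eq] at hsum h2 hev
    exact key1 a (by omega) h2 (by omega)
  | [a, b] =>
    simp only [List.sum_cons, List.sum_nil, List.length_cons, List.length_nil, List.mem_cons,
      List.not_mem_nil, or_false, forall_eq_or_imp, forall_eq] at hsum h2 hev
    obtain ⟨t, ht, hp⟩ := key2 ⟨a, by omega⟩ ⟨b, by omega⟩ h2.1 h2.2 (by simp; omega) (by simp; omega)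
    exact ⟨t, ht, Multiset.coe_eq_coe.2 hp⟩
  | [a, b, c] =>
    simp only [List.sum_cons, List.sum_nil, List.length_cons, List.length_nil, List.mem_cons,
      List.not_mem_nil, or_false, forall_eq_or_imp, forall_eq] at hsum h2 hev
    obtain ⟨t, ht, hp⟩ :=
      key3 ⟨a, by omega⟩ ⟨b, by omega⟩ ⟨c, by omega⟩ h2.1 h2.2.1 h2.2.2 (by simp; omega) (by simp; omega)
    exact ⟨t, ht, Multiset.coe_eq_coe.2 hp⟩
  | a :: b :: c :: d :: l' =>
    simp only [List.sum_cons, List.mem_cons, forall_eq_or_imp] at hsum h2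
    omega

theorem repsSeven_spec (g : Perm (Fin 7)) (hg : Perm.sign g = 1) :
    ∃ r ∈ repsSeven, ∃ c : Perm (Fin 7), Perm.sign c = 1 ∧ c * r = g * c := by
  obtain ⟨t, ht, hgt⟩ := cycleType_even hg
  obtain ⟨r, hr, hrt⟩ := repsSeven_types t ht
  obtain ⟨c, hc⟩ := isConj_iff.1 (Perm.isConj_iff_cycleType_eq.2 (hrt.trans hgt.symm))
  rcases Int.units_eq_one_or (Perm.sign c) with h | h
  · exact ⟨r, hr, c, h, by rw [← hc]; group⟩
  · obtain ⟨o, ho, hor⟩ := repsSeven_odd r hr
    refine ⟨_, hor, c * o⁻¹, by rw [map_mul, map_inv, h, ho]; rfl, ?_⟩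
    rw [← hc]; group

theorem card_classes_ne_ten_of_2520 [IsSimpleGroup G] (h : Nat.card G = 2520) :
    Nat.card (ConjClasses G) ≠ 10 := by
  obtain ⟨e⟩ := Cfsg.Agent.S0984.result h
  have := (card_classes_le_of_alternating e repsSeven repsSeven_spec).trans
    (show repsSeven.length ≤ 9 by decide)
  omega

end CfsgLib.Spor.TenClasses
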