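import Cfsg.Agent.Lib.Spor.NineClasses.Vec
import Cfsg.Agent.Lib.Spor.NineClasses.Small
import Cfsg.Agent.Lib.Spor.TenClasses.Ordered
import Cfsg.Agent.Lib.Small.Order7920Mathieu
import Cfsg.Agent.Lib.Recog.TwoR.Consumers.Models
import Cfsg.Agent.S2497
import Cfsg.Agent.S3280

/-!
# Simple groups with ten classes: the two groups, and small centralizers
-/

set_option autoImplicit false

open Subgroup

namespace CfsgLib.Spor.TenClasses

open NineClasses

variable {G : Type*} [Group G] [Finite G] [IsSimpleGroup G]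

/-- The vectors with prime power entries only. -/
def eppoVecs : List (List ℕ) := [[5, 5, 7, 7, 9, 16, 16, 16, 64], [5, 5, 7, 7, 8, 9, 32, 32, 64]]

omit [IsSimpleGroup G] in
theorem card_of_eppo {n : ℕ} (V : Vec G n) (h : V.cs ∈ eppoVecs) : Nat.card G = 20160 := by
  refine Nat.dvd_antisymm (V.dvd_of_forall_dvd ?_) ?_
  · revert h; generalize V.cs = l; revert l; decide
  · have hmem : ∀ l ∈ eppoVecs, 5 ∈ l ∧ 7 ∈ l ∧ 9 ∈ l ∧ 64 ∈ l := by decide
    obtain ⟨h5, h7, h9, h64⟩ := hmem _ h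
    have hd : ∀ x ∈ V.cs, x ∣ Nat.card G := by
      intro x hx
      obtain ⟨i, rfl⟩ := V.mem_cs.1 hx
      exact cord_dvd _
    have h35 : Nat.lcm (Nat.lcm 5 7) (Nat.lcm 9 64) ∣ Nat.card G :=
      Nat.lcm_dvd (Nat.lcm_dvd (hd _ h5) (hd _ h7)) (Nat.lcm_dvd (hd _ h9) (hd _ h64))
    exact h35

theorem isPrimePow_of_eppo {n : ℕ} (V : Vec G n) (h : V.cs ∈ eppoVecs) (g : G) (hg : g ≠ 1) :
    IsPrimePow (orderOf g) := by
  have hmem : cord g ∈ V.cs := by
    rw [← V.cord_idx g hg]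
    exact V.mem_cs.2 ⟨_, rfl⟩
  have hall : ∀ l ∈ eppoVecs, ∀ x ∈ l,
      x ∈ ([5, 7, 8, 9, 16, 32, 64] : List ℕ) := by decide
  have hx := hall _ h _ hmem
  simp only [List.mem_cons, List.not_mem_nil, or_false] at hx
  have hpp : IsPrimePow (cord g) := by
    rw [isPrimePow_nat_iff]
    rcases hx with e | e | e | e | e | e | e <;> rw [e]
    exacts [⟨5, 1, by norm_num⟩, ⟨7, 1, by norm_num⟩, ⟨2, 3, by norm_num⟩, ⟨3, 2, by norm_num⟩,
      ⟨2, 4, by norm_num⟩, ⟨2, 5, by norm_num⟩, ⟨2, 6, by norm_num⟩]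
  exact hpp.dvd (orderOf_dvd_cord g) fun e => hg (orderOf_eq_one_iff.1 e)

/-- A vector with prime power entries gives the projective group in dimension three over four
elements. -/
theorem psl_of_eppo (hG : ¬ IsMulCommutative G) {n : ℕ} (V : Vec G n) (h : V.cs ∈ eppoVecs) :
    ∃ (F : Type) (_ : Field F) (_ : Fintype F), Fintype.card F = 4 ∧
      Nonempty (G ≃* Matrix.ProjectiveSpecialLinearGroup (Fin 3) F) := by
  have hL := card_of_eppo V h
  rcases Cfsg.Agent.S2497.result hG (isPrimePow_of_eppo V h) with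
    ⟨⟨e⟩⟩ | ⟨F, hF₁, hF₂, hF, ⟨e⟩⟩ | hpsl | ⟨F, hF₁, hF₂, ⟨hF, ⟨e⟩⟩ | ⟨hF, ⟨e⟩⟩⟩
  · have := hL.symm.trans (Nat.card_congr e.toEquiv)
    rw [nat_card_alternatingGroup, Nat.card_fin] at this
    norm_num [Nat.factorial] at this
  · have := hL.symm.trans (Nat.card_congr e.toEquiv)
    rw [CfsgLib.Classical.card_PSL_two, Nat.card_eq_fintype_card] at this
    simp only [Finset.mem_insert, Finset.mem_singleton] at hF
    rcases hF with hF | hF | hF | hF <;> rw [hF] at this <;> norm_num at this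
  · exact hpsl
  · have H : CfsgLib.KnownA.Suzuki.TitsField F 4 :=
      CfsgLib.KnownA.Suzuki.titsField_of_card (m := 1) (by rw [hF]; norm_num)
    have := hL.symm.trans (Nat.card_congr e.toEquiv)
    rw [CfsgLib.KnownA.Suzuki.natCard_Sz H, hF] at this
    norm_num at this
  · have H : CfsgLib.KnownA.Suzuki.TitsField F 8 :=
      CfsgLib.KnownA.Suzuki.titsField_of_card (m := 2) (by rw [hF]; norm_num)
    have := hL.symm.trans (Nat.card_congr e.toEquiv)
    rw [CfsgLib.KnownA.Suzuki.natCard_Sz H, hF] at this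
    norm_num at this

/-- With ten classes every centralizer has order at least five. -/
theorem five_le_cord (hG : ¬ IsMulCommutative G) (h : Nat.card (ConjClasses G) = 10) (g : G) :
    5 ≤ cord g := by
  by_contra hw
  have hsmall : (Nat.card G = 60 ∨ Nat.card G = 168 ∨ Nat.card G = 360) → False := fun hc => by
    have := card_classes_le_seven (G := G) hc
    omega
  rcases Cfsg.Agent.S3280.result (CfsgLib.Small.not_isCyclic_of_not_comm hG) g
      (by unfold cord at hw; omega) with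
    ⟨⟨e⟩⟩ | ⟨⟨e⟩⟩ | ⟨⟨e⟩⟩ | ⟨F, hF₁, hF₂, hF, ⟨e⟩⟩
  · refine hsmall (Or.inl ?_)
    rw [Nat.card_congr e.toEquiv, nat_card_alternatingGroup, Nat.card_fin]
    norm_num [Nat.factorial]
  · refine hsmall (Or.inr (Or.inr ?_))
    rw [Nat.card_congr e.toEquiv, nat_card_alternatingGroup, Nat.card_fin]
    norm_num [Nat.factorial]
  · have := (card_classes_le_of_alternating e repsSeven repsSeven_spec).trans
      (show repsSeven.length ≤ 9 by decide)
    omega
  · refine hsmall (Or.inr (Or.inl ?_))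
    rw [Nat.card_congr e.toEquiv, CfsgLib.Recog.TwoR.Cons.card_psl_seven hF]

end CfsgLib.Spor.TenClasses
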