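import Cfsg.Agent.Lib.Spor.NineClasses.Vec
import Cfsg.Agent.Lib.Small.Orders3640
import Cfsg.Agent.Lib.Recog.TwoR.Consumers.Models
import Cfsg.Agent.S0997
import Cfsg.Agent.S2497

/-!
# Ten classes: the orders `p q^b g` with `g < p - 1`, and a vector of prime powers
-/

set_option autoImplicit false

open Subgroup

namespace CfsgLib.Spor.TenClasses

open NineClasses

variable {G : Type*} [Group G] [Finite G] [IsSimpleGroup G]

theorem card_ne_of_cofactor (hG : ¬ IsMulCommutative G) :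
    Nat.card G ≠ 16320 ∧ Nat.card G ≠ 21504 ∧ Nat.card G ≠ 30720 := by
  have key : ∀ p b g₀ N : ℕ, p.Prime → p ≠ 2 → N = p * 2 ^ b * g₀ → g₀ < p - 1 →
      N ≠ (p + 1) * p * (p - 1) / 2 → (∀ m, p = 2 ^ m + 1 → N ≠ 2 ^ m * (2 ^ (2 * m) - 1)) →
      Nat.card G ≠ N := by
    intro p b g₀ N hp hp2 hN hg h1 h2 hc
    rcases Cfsg.Agent.S0997.result (CfsgLib.Small.not_isCyclic_of_not_comm hG) p 2 b g₀ hp
        Nat.prime_two hp2 (hc.trans hN) hg with
      ⟨m, F, hF₁, hF₂, hF, -, ⟨e⟩⟩ | ⟨m, F, hF₁, hF₂, hF, hpm, hp3, ⟨e⟩⟩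
    · have := hc.symm.trans (Nat.card_congr e.toEquiv)
      rw [CfsgLib.Classical.card_PSL_two, Nat.card_eq_fintype_card, hF] at this
      apply h1
      rw [this]
      obtain ⟨j, rfl⟩ := hp.odd_of_ne_two hp2
      rw [show Nat.gcd 2 (2 * j + 1 - 1) = 2 by simp [Nat.add_sub_cancel]]
      congr 1
      rw [Nat.add_sub_cancel, show (2 * j + 1) ^ 2 - 1 = (2 * j + 1 + 1) * (2 * j) by
        rw [Nat.sub_eq_iff_eq_add (Nat.one_le_pow _ _ (by omega))]; ring]
      ring
    · have := hc.symm.trans (Nat.card_congr e.toEquiv)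
      rw [CfsgLib.Classical.card_PSL_two, Nat.card_eq_fintype_card, hF] at this
      apply h2 m hpm
      rw [this]
      have hm : 1 ≤ m := by
        rcases Nat.eq_zero_or_pos m with rfl | h
        · simp at hpm; omega
        · exact h
      have heven : ¬ 2 ∣ 2 ^ m - 1 := by
        have : 2 ∣ 2 ^ m := dvd_pow_self 2 (by omega)
        have := Nat.one_le_two_pow (n := m)
        omega
      rw [show Nat.gcd 2 (2 ^ m - 1) = 1 from
        (Nat.prime_two.coprime_iff_not_dvd.2 heven), Nat.div_one, ← pow_mul, mul_comm m 2]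
  have bound : ∀ p m : ℕ, p = 2 ^ m + 1 → p < 32 → m < 5 := by
    intro p m h hp
    by_contra hm
    have := Nat.pow_le_pow_right (show 0 < 2 by norm_num) (Nat.le_of_not_lt hm)
    omega
  refine ⟨key 17 6 15 _ (by norm_num) (by norm_num) (by norm_num) (by norm_num) (by norm_num) ?_,
    key 7 10 3 _ (by norm_num) (by norm_num) (by norm_num) (by norm_num) (by norm_num) ?_,
    key 5 11 3 _ (by norm_num) (by norm_num) (by norm_num) (by norm_num) (by norm_num) ?_⟩
  all_goals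
    intro m hm
    have := bound _ m hm (by norm_num)
    interval_cases m <;> revert hm <;> norm_num

omit [IsSimpleGroup G] in
theorem card_of_vec58320 {n : ℕ} (V : Vec G n) (h : V.cs = [5, 8, 8, 8, 8, 8, 9, 16, 729]) :
    Nat.card G = 58320 := by
  refine Nat.dvd_antisymm (V.dvd_of_forall_dvd ?_) ?_
  · rw [h]; decide
  · have hd : ∀ x ∈ V.cs, x ∣ Nat.card G := by
      intro x hx
      obtain ⟨i, rfl⟩ := V.mem_cs.1 hx
      exact cord_dvd _
    rw [h] at hd
    have : Nat.lcm 5 (Nat.lcm 16 729) ∣ Nat.card G :=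
      Nat.lcm_dvd (hd _ (by decide)) (Nat.lcm_dvd (hd _ (by decide)) (hd _ (by decide)))
    exact this

theorem ne_58320 (hG : ¬ IsMulCommutative G) {n : ℕ} (V : Vec G n) :
    V.cs ≠ [5, 8, 8, 8, 8, 8, 9, 16, 729] := by
  intro h
  have hL := card_of_vec58320 V h
  have hpp : ∀ g : G, g ≠ 1 → IsPrimePow (orderOf g) := by
    intro g hg
    have hmem : cord g ∈ ([5, 8, 8, 8, 8, 8, 9, 16, 729] : List ℕ) := by
      rw [← h, ← V.cord_idx g hg]
      exact V.mem_cs.2 ⟨_, rfl⟩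
    simp only [List.mem_cons, List.not_mem_nil, or_false] at hmem
    have hpp : IsPrimePow (cord g) := by
      rw [isPrimePow_nat_iff]
      rcases hmem with e | e | e | e | e | e | e | e | e <;> rw [e]
      exacts [⟨5, 1, by norm_num⟩, ⟨2, 3, by norm_num⟩, ⟨2, 3, by norm_num⟩, ⟨2, 3, by norm_num⟩,
        ⟨2, 3, by norm_num⟩, ⟨2, 3, by norm_num⟩, ⟨3, 2, by norm_num⟩, ⟨2, 4, by norm_num⟩,
        ⟨3, 6, by norm_num⟩]
    exact hpp.dvd (orderOf_dvd_cord g) fun e => hg (orderOf_eq_one_iff.1 e)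
  rcases Cfsg.Agent.S2497.result hG hpp with
    ⟨⟨e⟩⟩ | ⟨F, hF₁, hF₂, hF, ⟨e⟩⟩ | ⟨F, hF₁, hF₂, hF, ⟨e⟩⟩ |
      ⟨F, hF₁, hF₂, ⟨hF, ⟨e⟩⟩ | ⟨hF, ⟨e⟩⟩⟩
  · have := hL.symm.trans (Nat.card_congr e.toEquiv)
    rw [nat_card_alternatingGroup, Nat.card_fin] at this
    norm_num [Nat.factorial] at this
  · have := hL.symm.trans (Nat.card_congr e.toEquiv)
    rw [CfsgLib.Classical.card_PSL_two, Nat.card_eq_fintype_card] at this
    simp only [Finset.mem_insert, Finset.mem_singleton] at hF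
    rcases hF with hF | hF | hF | hF <;> rw [hF] at this <;> norm_num at this
  · have := hL.symm.trans (Nat.card_congr e.toEquiv)
    rw [CfsgLib.Recog.TwoR.Cons.card_psl_three_four hF] at this
    norm_num at this
  · have H : CfsgLib.KnownA.Suzuki.TitsField F 4 :=
      CfsgLib.KnownA.Suzuki.titsField_of_card (m := 1) (by rw [hF]; norm_num)
    have := hL.symm.trans (Nat.card_congr e.toEquiv)
    rw [CfsgLib.KnownA.Suzuki.natCard_Sz H, hF] at this
    norm_num at this
  · have H : CfsgLib.KnownA.Suzuki.TitsField F 8 :=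
      CfsgLib.KnownA.Suzuki.titsField_of_card (m := 2) (by rw [hF]; norm_num)
    have := hL.symm.trans (Nat.card_congr e.toEquiv)
    rw [CfsgLib.KnownA.Suzuki.natCard_Sz H, hF] at this
    norm_num at this

end CfsgLib.Spor.TenClasses
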