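import Cfsg.Agent.Lib.Spor.NineClasses.Defs

/-!
# Excluding a vector of centraliser orders by the orders of the class representatives

A table is the list of pairs (centraliser order, element order) over the non-trivial classes.
-/

set_option autoImplicit false

namespace CfsgLib.Spor.TenClasses

open CfsgLib.Spor.NineClasses (pfs isP pPart divPairs allMem)

/-- The primes of `c` with their full powers in `L`. -/
def ppList (c : List ℕ) (L : ℕ) : List (ℕ × ℕ) :=
  ((c.flatMap pfs).eraseDups).map fun p => (p, pPart p L 64)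

/-- The check on the list of prime powers. -/
def ppOK (Q : List (ℕ × ℕ)) (L : ℕ) : Bool :=
  Q.all fun q => isP q.1 && L % q.1 == 0 && L % q.2 == 0 && !(L % (q.2 * q.1) == 0) &&
    q.1 ^ 64 % q.2 == 0

/-- The number of non-trivial elements whose order passes `P`. -/
def sumIf (L : ℕ) (A : List (ℕ × ℕ)) (P : ℕ → Bool) : ℕ :=
  ((A.filter fun z => P z.2).map fun z => L / z.1).sum

/-- A central element of a Sylow subgroup. -/
def rCen (Q A : List (ℕ × ℕ)) : Bool :=
  Q.all fun q => A.any fun z => z.2 == q.1 && z.1 % q.2 == 0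

/-- The class of the `p`-th power. -/
def rPow (Q A : List (ℕ × ℕ)) : Bool :=
  A.all fun z => Q.all fun q => !(z.2 % q.1 == 0) || z.2 == q.1 ||
    A.any fun w => w.2 == z.2 / q.1 && w.1 % z.1 == 0

/-- The class of the product with a commuting element of prime order. -/
def rExt (Q A : List (ℕ × ℕ)) : Bool :=
  A.all fun z => Q.all fun q => !(z.1 % q.1 == 0) || z.2 % q.1 == 0 ||
    A.any fun w => w.2 == z.2 * q.1 && z.1 % w.1 == 0

/-- More than one Sylow subgroup. -/
def rCnt (L : ℕ) (Q A : List (ℕ × ℕ)) : Bool :=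
  Q.all fun q => Nat.ble q.2 (sumIf L A fun w => q.2 % w == 0)

/-- The square of `p` divides the centraliser order of an element of order `p`. -/
def rSq (Q A : List (ℕ × ℕ)) : Bool :=
  Q.all fun q => q.2 == q.1 || A.all fun z => !(z.2 == q.1) || z.1 % (q.1 * q.1) == 0

/-- The normalizer of a Sylow subgroup of prime order exceeds its centraliser. -/
def rNorm (L : ℕ) (Q A : List (ℕ × ℕ)) : Bool :=
  Q.all fun q => q.1 == 2 || !(q.2 == q.1) ||
    ((sumIf L A fun w => w == q.1) / (q.1 - 1) % q.1 == 1 &&
      A.all fun z => !(z.2 == q.1) ||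
        Nat.blt ((sumIf L A fun w => w == q.1) / (q.1 - 1)) (L / z.1))

/-- Frobenius' theorem. -/
def rFrob (L : ℕ) (D : List ℕ) (A : List (ℕ × ℕ)) : Bool :=
  D.all fun n => !(L % n == 0) || (1 + sumIf L A fun w => n % w == 0) % n == 0

/-- The degrees for a self-centralising subgroup of order `p` with dihedral normalizer. -/
def dihOne (L p : ℕ) (A : List (ℕ × ℕ)) (d f : ℕ) : Bool :=
  L % f == 0 && A.all fun z => !(z.2 == 2) ||
    (z.1 * z.1 * p * d * f % L == 0 && Nat.ble (z.1 * z.1 * p * d * f / L) (4 * d * d))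

/-- The test for a self-centralising subgroup with dihedral normalizer. -/
def rDih (L : ℕ) (c : List ℕ) (Q : List (ℕ × ℕ)) (D : List ℕ) (A : List (ℕ × ℕ)) : Bool :=
  Q.all fun q => !(Nat.ble 5 q.1) || !(2 * c.count q.1 == q.1 - 1) ||
    D.any fun d => Nat.ble 2 d &&
      ((d % q.1 == 1 && dihOne L q.1 A d (d + 1)) ||
        (d % q.1 == q.1 - 1 && dihOne L q.1 A d (d - 1)))

/-- All tests on a table. -/
def okTable (L : ℕ) (c : List ℕ) (Q : List (ℕ × ℕ)) (D : List ℕ) (A : List (ℕ × ℕ)) : Bool :=
  rCen Q A && rCnt L Q A && rSq Q A && rPow Q A && rExt Q A && rNorm L Q A && rDih L c Q D A &&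
    rFrob L D A

/-- The `p`-th power of a new entry has no class. -/
def powBad (Q A : List (ℕ × ℕ)) (x v : ℕ) : Bool :=
  Q.any fun q => v % q.1 == 0 && !(v == q.1) &&
    !(A.any fun w => w.2 == v / q.1 && w.1 % x == 0)

/-- The orders among equal centraliser orders ascend. -/
def symBad (A : List (ℕ × ℕ)) (x v : ℕ) : Bool :=
  match A with
  | [] => false
  | w :: _ => w.1 == x && Nat.blt w.2 v

/-- All assignments of orders to the entries fail; `r` is the reversed list of what is left. -/
noncomputable def srch (L : ℕ) (c : List ℕ) (Q : List (ℕ × ℕ)) (D : List ℕ) :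
    List ℕ → List (ℕ × ℕ) → Bool :=
  List.rec (motive := fun _ => List (ℕ × ℕ) → Bool) (fun A => !(okTable L c Q D A))
    (fun x r ih A => allMem (divPairs x (x + 1) 1) fun v =>
      !(Nat.ble 2 v) || symBad A x v || (!(r.headD 0 == x) && powBad Q A x v) || ih ((x, v) :: A))

/-- The vector `c` is impossible. -/
noncomputable def killed (c : List ℕ) (L : ℕ) : Bool :=
  ppOK (ppList c L) L && srch L c (ppList c L) (divPairs L (L + 1) 1) c.reverse []

end CfsgLib.Spor.TenClasses
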