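import Cfsg.Agent.Lib.Spor.TenClasses.Defs
import Cfsg.Agent.Lib.Spor.TenClasses.Kill

/-!
# The survivors that the test on element orders leaves
-/

set_option autoImplicit false

namespace CfsgLib.Spor.TenClasses

/-- The vectors not excluded by `killed`. -/
def exceptions : List (List ℕ) :=
  [[5, 7, 7, 8, 8, 9, 12, 24, 36], [5, 7, 7, 8, 9, 12, 12, 12, 36],
    [5, 6, 8, 8, 8, 11, 11, 18, 48], [5, 6, 8, 8, 11, 11, 12, 16, 18],
    [5, 6, 6, 8, 8, 12, 17, 17, 64],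
    [5, 5, 7, 7, 8, 9, 32, 32, 64], [5, 5, 7, 7, 9, 16, 16, 16, 64],
    [6, 6, 6, 6, 7, 8, 16, 384, 3072],
    [5, 7, 7, 7, 8, 13, 13, 13, 64],
    [5, 6, 6, 6, 6, 8, 128, 3072, 6144], [5, 6, 6, 6, 6, 8, 192, 384, 2048],
    [5, 6, 6, 6, 6, 12, 24, 128, 2048], [5, 6, 6, 8, 8, 8, 12, 128, 2048],
    [5, 8, 8, 8, 8, 8, 9, 16, 729]]

/-- A vector is killed or an exception. -/
noncomputable def settled (c : List ℕ) : Bool :=
  exceptions.elem c || [60, 168, 360].elem (c.foldr Nat.lcm 1) || killed c (c.foldr Nat.lcm 1)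

end CfsgLib.Spor.TenClasses
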