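import Cfsg.Agent.Lib.Spor.NineClasses.Prime
import Cfsg.Agent.Lib.Small.SelfCentralPrime

/-!
# Two classes of self-centralising elements of order five

Then the normaliser of a Sylow 5-subgroup is dihedral of order ten and `Small.dihedral_data`
restricts the order of the centraliser of a central involution.
-/

set_option autoImplicit false
set_option linter.style.haveILetI false

open CfsgLib.Spor.NineClasses Subgroup

namespace CfsgLib.Spor.TenClasses

universe u

variable {G : Type u} [Group G] [Finite G] [IsSimpleGroup G]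

/-- The normaliser of a cyclic subgroup of order five with two classes of generators. -/
theorem normalizer_five (hG : ¬ IsMulCommutative G) {n : ℕ} (V : Vec G n)
    (hc : V.cs.count 5 = 2) {x : G} (hx : x ≠ 1) (hx5 : cord x = 5) :
    orderOf x = 5 ∧ ¬ 5 ^ 2 ∣ Nat.card G ∧ centralizer ((zpowers x : Subgroup G) : Set G) = zpowers x ∧
      Nat.card (normalizer ((zpowers x : Subgroup G) : Set G)) = 5 * 2 := by
  classical
  have hp : Nat.Prime 5 := by norm_num
  haveI : Fact (Nat.Prime 5) := ⟨hp⟩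
  obtain ⟨ho, hsq, hall⟩ := prime_cord hp hx hx5
  have hP : ∀ P : Sylow 5 G, Nat.card (P : Subgroup G) = 5 := by
    intro P
    obtain ⟨k, hk⟩ := IsPGroup.iff_card.1 P.2
    have hd : 5 ^ 1 ∣ Nat.card G := by rw [pow_one, ← hx5]; exact cord_dvd _
    have h1 := P.pow_dvd_card_of_pow_dvd_card hd
    rw [hk, Nat.pow_dvd_pow_iff_le_right hp.one_lt] at h1
    rw [hk]
    rcases Nat.lt_or_ge k 2 with h | h
    · rw [show k = 1 by omega, pow_one]
    · exact absurd (dvd_trans (dvd_trans (pow_dvd_pow 5 h) hk.symm.dvd)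
        (card_subgroup_dvd_card _)) hsq
  obtain ⟨P, hxP⟩ := (IsPGroup.of_card (p := 5) (n := 1)
    (show Nat.card (zpowers x) = 5 ^ 1 by rw [Nat.card_zpowers, ho, pow_one])).exists_le_sylow
  have hPx : zpowers x = (P : Subgroup G) :=
    Subgroup.eq_of_le_of_card_ge hxP (by rw [Nat.card_zpowers, ho, hP P])
  have hC : centralizer ((zpowers x : Subgroup G) : Set G) = zpowers x := by
    rw [zpowers_eq_closure, centralizer_closure, ← zpowers_eq_closure]
    refine (Subgroup.eq_of_le_of_card_ge (zpowers_le.2 (mem_centralizer_of_commute (Commute.refl _))) ?_).symm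
    rw [Nat.card_zpowers, ho]
    exact hx5.le
  refine ⟨ho, hsq, hC, ?_⟩
  obtain ⟨e, he1, hed, heN⟩ := CfsgLib.Small.exists_normalizer_centralizer hG P (hP P)
  rw [← hPx, hC, Nat.card_zpowers, ho] at heN
  have hNn := CfsgLib.Small.card_normalizer_mul P
  rw [← hPx, ← heN] at hNn
  have hn0 : 0 < Nat.card (Sylow 5 G) := Nat.card_pos
  set N := Nat.card (Sylow 5 G) with hN
  have hcount : 2 * (Nat.card G / 5) = N * (5 - 1) := by
    rw [hN, ← CfsgLib.Small.card_orderOf_eq_prime hP,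
      V.card_elems (fun g => orderOf g = 5) (fun a b hab h => orderOf_conj hab ▸ h)
        (by rw [orderOf_one]; norm_num), ← hc, List.count, V.countP_cs, Nat.card_eq_fintype_card,
      Fintype.card_subtype, ← Finset.sum_filter]
    have hset : (Finset.univ.filter fun i => orderOf (V.rep i) = 5) =
        Finset.univ.filter fun i => cord (V.rep i) = 5 := by
      refine Finset.filter_congr fun i _ => ⟨fun h => ?_, fun h => ?_⟩
      · exact (hall _ (V.ne_one i) (h ▸ orderOf_dvd_cord _)).1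
      · exact (hall _ (V.ne_one i) h.symm.dvd).2
    rw [hset, Finset.sum_congr rfl (fun i hi => by rw [(Finset.mem_filter.1 hi).2]),
      Finset.sum_const, smul_eq_mul]
    simp
  rw [← hNn, show 5 * e * N = 5 * (e * N) by ring, Nat.mul_div_cancel_left _ hp.pos] at hcount
  have : N * (2 * e) = N * (5 - 1) := by rw [← hcount]; ring
  have := Nat.eq_of_mul_eq_mul_left hn0 this
  rw [← heN]
  omega

/-- Whether a list of centraliser orders passes the test at five. -/
def fitsFive (L t : ℕ) (cs : List ℕ) : Bool :=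
  (List.range 1002).any fun d => [d + 1, d - 1].any fun f =>
    (decide (1 < d ∧ 1 < f ∧ ((d % 5 = 1 ∧ f = d + 1) ∨ (d % 5 = 4 ∧ f + 1 = d))) &&
      decide (L / 5 % d = 0 ∧ L / 5 % f = 0)) && cs.any fun c =>
        c % t == 0 && (List.range (2 * d + 1)).any fun z => c ^ 2 * 5 * d * f == L * z ^ 2

/-- The test for two classes of self-centralising elements of order five. -/
def killFive (cs : List ℕ) (L : ℕ) : Bool :=
  cs.count 5 == 2 && L % 2 == 0 && Nat.ble (L / 5) 1000000 && !fitsFive L (Nat.gcd L (2 ^ 24)) cs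

/-- The test at five. -/
theorem fitsFive_of_vec (hG : ¬ IsMulCommutative G) {n : ℕ} (V : Vec G n) {L t k : ℕ}
    (hcard : Nat.card G = L) (ht : 2 ^ k = t) (hk : 1 ≤ k) (htL : t ∣ L) (hL : L / 5 ≤ 1000000)
    (hc : V.cs.count 5 = 2) : fitsFive L t V.cs = true := by
  classical
  haveI : Fact (Nat.Prime 5) := ⟨by norm_num⟩
  letI := Fintype.ofFinite G
  obtain ⟨i, hi⟩ := V.mem_cs.1 (List.count_pos_iff.1 (by omega : 0 < V.cs.count 5))
  obtain ⟨ho, hsq, hC, hN⟩ := normalizer_five hG V hc (V.ne_one i) hi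
  obtain ⟨d, f, a, ε, ha, hε, hmod, heq, hd, hf, hdG, hfG, hpd, hpf, hinv⟩ :=
    CfsgLib.Small.dihedral_data hG _ ho hsq hC hN le_rfl
  obtain ⟨z, hz, hzc⟩ := exists_central Nat.prime_two (G := G)
    (hcard ▸ (dvd_pow_self 2 (by omega)).trans (ht.symm ▸ htL))
  obtain ⟨w, -, hwd, hw⟩ := hinv z hz
  have hz1 : z ≠ 1 := by rintro rfl; simp at hz
  have hmem : cord z ∈ V.cs := V.mem_cs.2 ⟨V.idx z hz1, V.cord_idx z hz1⟩
  have htz : t ∣ cord z := ht ▸ hzc k (by rw [hcard, ht]; exact htL)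
  have h5L : 5 ∣ L := by rw [← hcard, ← hi]; exact cord_dvd _
  have hNp : Nat.card G = L / 5 * 5 := by rw [hcard, Nat.div_mul_cancel h5L]
  have hN0 : L / 5 ≠ 0 := by
    intro h0
    rw [h0, Nat.zero_mul] at hNp
    exact Nat.card_pos.ne' hNp
  have hm := CfsgLib.Small.mem_dihedral_candidates (p := 5) hN0 ha hε hmod heq hd hf
    (hNp ▸ hdG) (hNp ▸ hfG) hpd hpf
  simp only [Finset.mem_filter, Finset.mem_product, Nat.mem_divisors] at hm
  obtain ⟨⟨⟨hdL, -⟩, ⟨hfL, -⟩⟩, -, -, hdf⟩ := hm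
  have hcop : Nat.Coprime d f := by
    rcases hdf with ⟨-, e⟩ | ⟨-, e⟩
    · rw [e]; exact Nat.coprime_self_add_right.2 (Nat.coprime_one_right d)
    · rw [← e]; exact Nat.coprime_self_add_left.2 (Nat.coprime_one_left f)
  have hle := Nat.le_of_dvd (Nat.pos_of_ne_zero hN0) (hcop.mul_dvd_of_dvd_of_dvd hdL hfL)
  have hsmall : d < 1002 := by
    rcases hdf with ⟨h1, e⟩ | ⟨h1, e⟩
    · subst e
      by_contra h
      nlinarith
    · subst e
      by_contra h
      nlinarith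
  have hw' : cord z ^ 2 * 5 * d * f = L * w ^ 2 := by rw [← hcard]; exact hw
  simp only [fitsFive, List.any_eq_true, List.mem_range, Bool.and_eq_true, decide_eq_true_eq, beq_iff_eq]
  refine ⟨d, hsmall, f, ?_, ⟨⟨hd, hf, ?_⟩, Nat.mod_eq_zero_of_dvd hdL,
    Nat.mod_eq_zero_of_dvd hfL⟩, cord z, hmem, Nat.mod_eq_zero_of_dvd htz, w, by omega, hw'⟩
  · simp only [List.mem_cons, List.not_mem_nil, or_false]
    omega
  · omega

omit [IsSimpleGroup G] in
/-- The order of the group from the centraliser orders. -/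
theorem card_eq_of_lcm {n : ℕ} (V : Vec G n) {L : ℕ} (h1 : ∀ x ∈ V.cs, x ∣ L)
    (h2 : V.cs.foldl Nat.lcm 1 = L) : Nat.card G = L := by
  refine Nat.dvd_antisymm (V.dvd_of_forall_dvd h1) (h2 ▸ ?_)
  have : ∀ (l : List ℕ) (a : ℕ), a ∣ Nat.card G → (∀ x ∈ l, x ∈ V.cs) →
      l.foldl Nat.lcm a ∣ Nat.card G := by
    intro l
    induction l with
    | nil => exact fun a ha _ => ha
    | cons b l ih =>
      intro a ha hl
      obtain ⟨i, hi⟩ := V.mem_cs.1 (hl b List.mem_cons_self)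
      exact ih _ (Nat.lcm_dvd ha (hi ▸ cord_dvd _)) fun x hx => hl x (List.mem_cons_of_mem _ hx)
  exact this _ 1 (one_dvd _) fun x hx => hx

/-- Soundness of the test. -/
theorem killFive_sound (hG : ¬ IsMulCommutative G) {n : ℕ} (V : Vec G n) :
    killFive V.cs (Nat.card G) = false := by
  by_contra h
  simp only [Bool.not_eq_false, killFive, Bool.and_eq_true, beq_iff_eq, Nat.ble_eq,
    Bool.not_eq_true'] at h
  obtain ⟨⟨⟨hc, h2⟩, hL⟩, hf⟩ := h
  obtain ⟨k, -, hk⟩ := (Nat.dvd_prime_pow Nat.prime_two).1 (Nat.gcd_dvd_right (Nat.card G) (2 ^ 24))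
  have hd : 2 ∣ Nat.gcd (Nat.card G) (2 ^ 24) :=
    Nat.dvd_gcd (Nat.dvd_of_mod_eq_zero h2) (dvd_pow_self 2 (by norm_num))
  have hk1 : 1 ≤ k := by
    rcases Nat.eq_zero_or_pos k with rfl | h'
    · rw [hk] at hd; norm_num at hd
    · exact h'
  rw [fitsFive_of_vec hG V rfl hk.symm hk1 (Nat.gcd_dvd_left _ _) hL hc] at hf
  exact Bool.noConfusion hf

/-- A list that fails the test at five does not occur. -/
theorem ne_of_five (hG : ¬ IsMulCommutative G) {n : ℕ} (V : Vec G n) (l : List ℕ) (L : ℕ)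
    (h1 : (l.all fun x => L % x == 0) = true) (h2 : l.foldl Nat.lcm 1 = L)
    (h : killFive l L = true) : V.cs ≠ l := by
  intro e
  subst e
  have hd : ∀ x ∈ V.cs, x ∣ L := fun x hx =>
    Nat.dvd_of_mod_eq_zero (beq_iff_eq.1 (List.all_eq_true.1 h1 x hx))
  rw [← card_eq_of_lcm V hd h2, killFive_sound hG V] at h
  exact Bool.noConfusion h

/-- The survivors of the tree with two classes of centraliser order five that fail the test. -/
def fiveLists : List (List ℕ × ℕ) := [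
    ([5, 5, 6, 6, 7, 9, 198, 198, 396], 13860),
    ([5, 5, 6, 6, 7, 12, 26, 624, 2496], 87360),
    ([5, 5, 6, 6, 7, 12, 34, 102, 816], 28560),
    ([5, 5, 6, 6, 7, 12, 34, 136, 272], 28560),
    ([5, 5, 6, 6, 7, 16, 34, 34, 408], 28560),
    ([5, 5, 6, 6, 7, 18, 22, 66, 132], 13860),
    ([5, 5, 6, 6, 8, 8, 96, 192, 1024], 15360),
    ([5, 5, 6, 6, 8, 9, 66, 66, 4356], 43560),
    ([5, 5, 6, 6, 8, 9, 66, 66, 4224], 63360),
    ([5, 5, 6, 6, 8, 12, 22, 88, 704], 10560),
    ([5, 5, 6, 6, 8, 12, 24, 64, 1024], 15360),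
    ([5, 5, 6, 6, 8, 12, 26, 52, 1664], 24960),
    ([5, 5, 6, 6, 8, 22, 22, 22, 192], 10560),
    ([5, 5, 6, 6, 11, 11, 14, 84, 672], 36960),
    ([5, 5, 6, 6, 12, 12, 12, 64, 1024], 15360),
    ([5, 5, 6, 7, 7, 7, 432, 486, 2592], 272160),
    ([5, 5, 6, 7, 7, 7, 486, 648, 864], 272160),
    ([5, 5, 6, 7, 7, 8, 54, 256, 5184], 725760),
    ([5, 5, 6, 7, 7, 12, 18, 144, 576], 20160),
    ([5, 5, 6, 7, 7, 12, 18, 192, 288], 20160),
    ([5, 5, 6, 7, 7, 16, 18, 36, 576], 20160),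
    ([5, 5, 6, 7, 7, 18, 18, 32, 192], 20160),
    ([5, 5, 6, 8, 8, 8, 18, 384, 6144], 92160),
    ([5, 5, 6, 8, 8, 8, 18, 384, 5832], 466560),
    ([5, 5, 6, 8, 8, 8, 18, 432, 2304], 34560),
    ([5, 5, 6, 8, 8, 8, 18, 576, 972], 77760),
    ([5, 5, 6, 8, 8, 8, 18, 648, 864], 12960),
    ([5, 5, 6, 8, 8, 8, 32, 48, 162], 12960),
    ([5, 5, 6, 8, 8, 9, 16, 162, 288], 12960),
    ([5, 5, 6, 8, 8, 9, 18, 64, 972], 77760),
    ([5, 5, 7, 7, 7, 8, 36, 108, 108], 7560),
    ([5, 5, 7, 7, 7, 8, 54, 54, 108], 7560),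
    ([5, 5, 7, 7, 8, 8, 18, 144, 576], 20160),
    ([5, 5, 7, 7, 9, 9, 12, 144, 576], 20160),
    ([5, 5, 7, 7, 9, 9, 12, 192, 288], 20160),
    ([5, 5, 7, 7, 9, 12, 12, 32, 192], 20160)]

theorem fiveLists_kill : (fiveLists.all fun q =>
    (q.1.all fun x => q.2 % x == 0) && q.1.foldl Nat.lcm 1 == q.2 && killFive q.1 q.2) = true := by
  decide +kernel

/-- None of the listed vectors occurs. -/
theorem not_mem_fiveLists (hG : ¬ IsMulCommutative G) {n : ℕ} (V : Vec G n) :
    V.cs ∉ fiveLists.map Prod.fst := by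
  intro h
  obtain ⟨q, hq, e⟩ := List.mem_map.1 h
  have hk := List.all_eq_true.1 fiveLists_kill q hq
  simp only [Bool.and_eq_true, beq_iff_eq] at hk
  exact ne_of_five hG V q.1 q.2 hk.1.1 hk.1.2 hk.2 e.symm

end CfsgLib.Spor.TenClasses
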