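import Cfsg.Agent.Lib.Spor.NineClasses.Prime
import Cfsg.Agent.Lib.Base.FrobeniusSolutions

/-!
# Frobenius' congruences on a vector of centraliser orders

Every class receives the set of primes of the order of its elements; for every set `π` of primes
the number of solutions of `x ^ M = 1` (`M` the `π`-part of the group order) is divisible by `M`.
-/

set_option autoImplicit false
set_option linter.style.haveILetI false
set_option linter.unusedSectionVars false

open Subgroup

namespace CfsgLib.Spor.TenClasses.Frob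

open CfsgLib.Spor.NineClasses

/-- A valid factorisation of `L`. -/
def facOK (L : ℕ) (fac : List (ℕ × ℕ)) : Bool :=
  ((fac.map fun q => q.1 ^ q.2).prod == L) &&
    fac.all fun q => isP q.1 && Nat.ble 1 q.2 && !(L % q.1 ^ (q.2 + 1) == 0)

/-- The possible sets of primes of the element orders in a class with centraliser order `x`. -/
def opts (fac : List (ℕ × ℕ)) (x : ℕ) : List (List ℕ) :=
  ((fac.map Prod.fst).sublists).filter fun S =>
    !S.isEmpty && S.all (fun p => x % p == 0) &&
      fac.all fun q => !(S == (fac.map Prod.fst).filter (fun r => r == q.1)) ||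
        x % q.1 ^ min 2 q.2 == 0

/-- The count of the solutions for one set of primes. -/
def congrAt (L : ℕ) (a : List (ℕ × List ℕ)) (π : List (ℕ × ℕ)) : Bool :=
  (1 + (a.map fun q => if q.2.all (fun p => (π.map Prod.fst).contains p) then L / q.1 else 0).sum) %
    (π.map fun q => q.1 ^ q.2).prod == 0

/-- A central element for every prime. -/
def central (fac : List (ℕ × ℕ)) (a : List (ℕ × List ℕ)) : Bool :=
  fac.all fun q => a.any fun r =>
    r.2 == (fac.map Prod.fst).filter (fun s => s == q.1) && r.1 % q.1 ^ q.2 == 0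

/-- Products of commuting elements of coprime orders. -/
def closed (fac : List (ℕ × ℕ)) (a : List (ℕ × List ℕ)) : Bool :=
  (fac.map Prod.fst).all fun p => a.all fun r =>
    r.2.contains p || !(r.1 % p == 0) || a.any fun s =>
      s.2 == (fac.map Prod.fst).filter (fun t => r.2.contains t || t == p) && r.1 % s.1 == 0

/-- The conditions on an assignment. -/
def admissible (L : ℕ) (fac : List (ℕ × ℕ)) (a : List (ℕ × List ℕ)) : Bool :=
  central fac a && closed fac a && fac.sublists.all (congrAt L a)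

/-- No assignment extending `acc` is admissible. -/
def killFrom (L : ℕ) (fac : List (ℕ × ℕ)) : List ℕ → List (ℕ × List ℕ) → Bool
  | [], acc => !admissible L fac acc
  | x :: xs, acc => (opts fac x).all fun S => killFrom L fac xs (acc ++ [(x, S)])

/-- The filter. -/
def kill (L : ℕ) (fac : List (ℕ × ℕ)) (c : List ℕ) : Bool :=
  facOK L fac && killFrom L fac c []

theorem killFrom_sound {L : ℕ} {fac : List (ℕ × ℕ)} : ∀ (l acc : List (ℕ × List ℕ)),
    killFrom L fac (l.map Prod.fst) acc = true → (∀ q ∈ l, q.2 ∈ opts fac q.1) →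
      admissible L fac (acc ++ l) = false
  | [], acc, h, _ => by simpa [killFrom] using h
  | (x, S) :: l, acc, h, hl => by
    rw [List.map_cons, killFrom, List.all_eq_true] at h
    have := killFrom_sound l (acc ++ [(x, S)]) (h S (hl (x, S) List.mem_cons_self))
      fun q hq => hl q (List.mem_cons_of_mem _ hq)
    simpa using this

variable {G : Type*} [Group G] [Finite G]

/-- The primes of `ps` dividing the order of an element. -/
noncomputable def primesOf (ps : List ℕ) (g : G) : List ℕ :=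
  ps.filter fun p => orderOf g % p == 0

theorem mem_primesOf {ps : List ℕ} {g : G} {p : ℕ} :
    p ∈ primesOf ps g ↔ p ∈ ps ∧ p ∣ orderOf g := by
  simp [primesOf, Nat.dvd_iff_mod_eq_zero]

theorem primesOf_eq {ps : List ℕ} {g : G} {f : ℕ → Bool}
    (h : ∀ p ∈ ps, p ∣ orderOf g ↔ f p = true) : primesOf ps g = ps.filter f := by
  refine List.filter_congr fun p hp => ?_
  rw [Bool.eq_iff_iff, beq_iff_eq, ← Nat.dvd_iff_mod_eq_zero]
  exact h p hp

section Fac

variable {L : ℕ} {fac : List (ℕ × ℕ)} (hf : facOK L fac = true)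

include hf

theorem fac_prod : (fac.map fun q => q.1 ^ q.2).prod = L := by
  simp only [facOK, Bool.and_eq_true, beq_iff_eq] at hf
  exact hf.1

theorem fac_spec {q : ℕ × ℕ} (hq : q ∈ fac) :
    q.1.Prime ∧ 1 ≤ q.2 ∧ ¬ q.1 ^ (q.2 + 1) ∣ L := by
  simp only [facOK, Bool.and_eq_true, List.all_eq_true] at hf
  obtain ⟨⟨h1, h2⟩, h3⟩ := hf.2 q hq
  refine ⟨isP_sound h1, Nat.le_of_ble_eq_true h2, fun hd => ?_⟩
  rw [Nat.dvd_iff_mod_eq_zero] at hd
  simp [hd] at h3

theorem fac_dvd {q : ℕ × ℕ} (hq : q ∈ fac) : q.1 ^ q.2 ∣ L := by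
  rw [← fac_prod hf]
  exact List.dvd_prod (List.mem_map_of_mem hq)

omit hf in
theorem mem_of_dvd_prod {π : List (ℕ × ℕ)} (hπ : ∀ q ∈ π, q.1.Prime) {p : ℕ} (hp : p.Prime)
    (h : p ∣ (π.map fun q => q.1 ^ q.2).prod) : p ∈ π.map Prod.fst := by
  obtain ⟨a, ha, hpa⟩ := (Prime.dvd_prod_iff hp.prime).1 h
  obtain ⟨q, hq, rfl⟩ := List.mem_map.1 ha
  exact List.mem_map.2 ⟨q, hq, ((Nat.prime_dvd_prime_iff_eq hp (hπ q hq)).1
    (hp.dvd_of_dvd_pow hpa)).symm⟩

theorem mem_fst {p : ℕ} (hp : p.Prime) (h : p ∣ L) : p ∈ fac.map Prod.fst :=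
  mem_of_dvd_prod (fun _ hq => (fac_spec hf hq).1) hp ((fac_prod hf).symm ▸ h)

theorem dvd_part_iff (hL : Nat.card G = L) {π : List (ℕ × ℕ)} (hπ : π.Sublist fac) (g : G) :
    orderOf g ∣ (π.map fun q => q.1 ^ q.2).prod ↔
      (primesOf (fac.map Prod.fst) g).all (fun p => (π.map Prod.fst).contains p) = true := by
  simp only [List.all_eq_true, List.contains_iff_mem]
  constructor
  · intro h p hp
    rw [mem_primesOf] at hp
    obtain ⟨q, hq, rfl⟩ := List.mem_map.1 hp.1
    exact mem_of_dvd_prod (fun r hr => (fac_spec hf (hπ.subset hr)).1) (fac_spec hf hq).1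
      (hp.2.trans h)
  · intro h
    rw [Nat.dvd_iff_prime_pow_dvd_dvd]
    intro p k hp hd
    rcases Nat.eq_zero_or_pos k with rfl | hk
    · simp
    have hdo : p ∣ orderOf g := (dvd_pow_self p hk.ne').trans hd
    have hdL : p ^ k ∣ L := hL ▸ hd.trans (orderOf_dvd_natCard g)
    have hp' := h p (mem_primesOf.2
      ⟨mem_fst hf hp ((dvd_pow_self p hk.ne').trans hdL), hdo⟩)
    obtain ⟨q, hq, rfl⟩ := List.mem_map.1 hp'
    refine (pow_dvd_pow _ ?_).trans (List.dvd_prod (List.mem_map_of_mem hq))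
    by_contra hlt
    exact (fac_spec hf (hπ.subset hq)).2.2 ((pow_dvd_pow _ (by omega)).trans hdL)

end Fac

variable {n : ℕ} (V : Vec G n)

/-- The assignment given by the group. -/
noncomputable def assign (ps : List ℕ) : List (ℕ × List ℕ) :=
  List.ofFn fun i => (cord (V.rep i), primesOf ps (V.rep i))

theorem map_fst_assign (ps : List ℕ) : (assign V ps).map Prod.fst = V.cs := by
  simp [assign, Vec.cs, List.map_ofFn, Function.comp_def]

theorem mem_assign (ps : List ℕ) (g : G) (hg : g ≠ 1) :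
    (cord g, primesOf ps g) ∈ assign V ps := by
  rw [assign, List.mem_ofFn]
  exact ⟨V.idx g hg, by rw [V.cord_idx, primesOf, V.orderOf_idx]; rfl⟩

theorem mem_opts {L : ℕ} {fac : List (ℕ × ℕ)} (hf : facOK L fac = true) (hL : Nat.card G = L)
    {g : G} (hg : g ≠ 1) : primesOf (fac.map Prod.fst) g ∈ opts fac (cord g) := by
  simp only [opts, List.mem_filter, List.mem_sublists, Bool.and_eq_true, List.all_eq_true,
    Bool.or_eq_true, Bool.not_eq_true', beq_eq_false_iff_ne, beq_iff_eq]
  obtain ⟨p, hp, hpg⟩ := Nat.exists_prime_and_dvd (mt orderOf_eq_one_iff.1 hg)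
  refine ⟨List.filter_sublist, ⟨?_, fun r hr => ?_⟩, fun q hq => ?_⟩
  · rw [List.isEmpty_eq_false_iff]
    exact List.ne_nil_of_mem (mem_primesOf.2
      ⟨mem_fst hf hp (hL ▸ hpg.trans (orderOf_dvd_natCard g)), hpg⟩)
  · exact Nat.dvd_iff_mod_eq_zero.1 ((mem_primesOf.1 hr).2.trans (orderOf_dvd_cord g))
  · by_contra hne
    rw [not_or, not_not] at hne
    obtain ⟨he, hnd⟩ := hne
    obtain ⟨hqp, hq1, -⟩ := fac_spec hf hq
    rw [← Nat.dvd_iff_mod_eq_zero] at hnd
    obtain ⟨k, hk⟩ : ∃ k, orderOf g = q.1 ^ k := by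
      refine ⟨_, Nat.eq_prime_pow_of_unique_prime_dvd (orderOf_pos g).ne' fun {d} hd hdg => ?_⟩
      have : d ∈ primesOf (fac.map Prod.fst) g :=
        mem_primesOf.2 ⟨mem_fst hf hd (hL ▸ hdg.trans (orderOf_dvd_natCard g)), hdg⟩
      rw [he, List.mem_filter, beq_iff_eq] at this
      exact this.2
    apply hnd
    rcases k with _ | _ | k
    · exact absurd (orderOf_eq_one_iff.1 (by simpa using hk)) hg
    · rcases le_or_gt 2 q.2 with h2 | h2
      · rw [min_eq_left h2]
        exact sq_dvd_centralizer hqp (by simpa using hk)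
          (hL ▸ (pow_dvd_pow _ h2).trans (fac_dvd hf hq))
      · rw [show min 2 q.2 = 1 by omega, ← hk]
        exact orderOf_dvd_cord g
    · exact (pow_dvd_pow _ (by omega)).trans (hk ▸ orderOf_dvd_cord g)

theorem congrAt_assign {L : ℕ} {fac π : List (ℕ × ℕ)} (hf : facOK L fac = true)
    (hL : Nat.card G = L) (hπ : π.Sublist fac) :
    congrAt L (assign V (fac.map Prod.fst)) π = true := by
  classical
  set M := (π.map fun q => q.1 ^ q.2).prod with hM
  have hML : M ∣ Nat.card G := by
    rw [hL, ← fac_prod hf]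
    exact (hπ.map _).prod_dvd_prod
  have hfrob := CfsgLib.Base.Solutions.dvd_card_pow_eq_one hML
  have hcount : Nat.card {g : G // g ^ M = 1} =
      1 + ∑ i : Fin n, if V.rep i ^ M = 1 then Nat.card G / cord (V.rep i) else 0 := by
    have : Fintype G := Fintype.ofFinite G
    have h := V.card_elems (fun g => g ≠ 1 ∧ g ^ M = 1) (fun a b hab ha => ?_) (by simp)
    · simp only [V.ne_one, ne_eq, not_false_eq_true, true_and] at h
      rw [← h, Nat.card_eq_fintype_card, Nat.card_eq_fintype_card, Fintype.card_subtype,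
        Fintype.card_subtype]
      rw [show (Finset.univ.filter fun g : G => g ^ M = 1) =
        insert 1 (Finset.univ.filter fun g : G => g ≠ 1 ∧ g ^ M = 1) from ?_,
        Finset.card_insert_of_notMem (by simp), add_comm]
      ext g
      by_cases hg : g = 1 <;> simp [hg]
    · obtain ⟨c, rfl⟩ := isConj_iff.1 hab
      refine ⟨fun h1 => ha.1 ?_, by rw [conj_pow, ha.2]; group⟩
      simpa using h1
  rw [congrAt, beq_iff_eq, ← hM, ← Nat.dvd_iff_mod_eq_zero]
  rw [assign, List.map_ofFn, List.sum_ofFn]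
  simp only [Function.comp_apply]
  refine hfrob.trans (dvd_of_eq (hcount.trans ?_))
  congr 1
  refine Finset.sum_congr rfl fun i _ => ?_
  rw [← hL]
  refine if_congr ?_ rfl rfl
  rw [← orderOf_dvd_iff_pow_eq_one]
  exact dvd_part_iff hf hL hπ _

theorem central_assign {L : ℕ} {fac : List (ℕ × ℕ)} (hf : facOK L fac = true)
    (hL : Nat.card G = L) : central fac (assign V (fac.map Prod.fst)) = true := by
  simp only [central, List.all_eq_true, List.any_eq_true, Bool.and_eq_true, beq_iff_eq]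
  intro q hq
  obtain ⟨hqp, hq1, -⟩ := fac_spec hf hq
  have hd : q.1 ^ q.2 ∣ Nat.card G := hL ▸ fac_dvd hf hq
  obtain ⟨z, hz, hzc⟩ := exists_central (G := G) hqp ((dvd_pow_self _ (by omega)).trans hd)
  have hz1 : z ≠ 1 := by rintro rfl; rw [orderOf_one] at hz; exact hqp.one_lt.ne hz
  refine ⟨_, mem_assign V _ z hz1, primesOf_eq fun p hp => ?_, Nat.dvd_iff_mod_eq_zero.1 (hzc _ hd)⟩
  obtain ⟨r, hr, rfl⟩ := List.mem_map.1 hp
  rw [hz, beq_iff_eq, Nat.prime_dvd_prime_iff_eq (fac_spec hf hr).1 hqp]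

theorem closed_assign {L : ℕ} {fac : List (ℕ × ℕ)} (hf : facOK L fac = true) :
    closed fac (assign V (fac.map Prod.fst)) = true := by
  simp only [closed, List.all_eq_true, List.any_eq_true, Bool.and_eq_true, beq_iff_eq,
    Bool.or_eq_true, Bool.not_eq_true', beq_eq_false_iff_ne]
  intro p hp r hr
  rw [assign, List.mem_ofFn] at hr
  obtain ⟨i, rfl⟩ := hr
  obtain ⟨q, hq, rfl⟩ := List.mem_map.1 hp
  have hqp := (fac_spec hf hq).1
  simp only [List.contains_iff_mem, mem_primesOf]
  by_cases hpo : q.1 ∣ orderOf (V.rep i)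
  · exact Or.inl (Or.inl ⟨hp, hpo⟩)
  by_cases hc : cord (V.rep i) % q.1 = 0
  swap
  · exact Or.inl (Or.inr hc)
  right
  set g := V.rep i with hg
  haveI : Fact q.1.Prime := ⟨hqp⟩
  obtain ⟨y, hy⟩ := exists_prime_orderOf_dvd_card' (G := centralizer ({g} : Set G)) q.1
    (Nat.dvd_of_mod_eq_zero hc)
  rw [← Subgroup.orderOf_coe] at hy
  have hcom : Commute g (y : G) := commute_of_mem_centralizer y.2
  have hco : (orderOf g).Coprime (orderOf (y : G)) := by
    rw [hy]; exact Nat.Coprime.symm (hqp.coprime_iff_not_dvd.2 hpo)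
  set h := g * (y : G) with hh
  have hord : orderOf h = orderOf g * q.1 := by
    rw [hh, hcom.orderOf_mul_eq_mul_orderOf_of_coprime hco, hy]
  have hh1 : h ≠ 1 := by
    intro e
    rw [e, orderOf_one] at hord
    exact hqp.one_lt.ne' (Nat.eq_one_of_mul_eq_one_left hord.symm)
  have hhg : cord h ∣ cord g := by
    obtain ⟨m, hm⟩ := exists_pow_eq_self_of_coprime (x := g) (n := q.1)
      (hqp.coprime_iff_not_dvd.2 hpo)
    have e : h ^ (q.1 * m) = g := by
      rw [pow_mul, hh, hcom.mul_pow, show (y : G) ^ q.1 = 1 by rw [← hy, pow_orderOf_eq_one],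
        mul_one, hm]
    exact e ▸ cord_dvd_cord_pow h (q.1 * m)
  refine ⟨_, mem_assign V _ h hh1, primesOf_eq fun t ht => ?_, Nat.dvd_iff_mod_eq_zero.1 hhg⟩
  obtain ⟨s, hs, rfl⟩ := List.mem_map.1 ht
  rw [hord, (fac_spec hf hs).1.dvd_mul, Nat.prime_dvd_prime_iff_eq (fac_spec hf hs).1 hqp]
  have hx : ∃ x, (s.1, x) ∈ fac := ⟨_, hs⟩
  simp [mem_primesOf, hx]

include V in
/-- A vector killed by the filter does not occur. -/
theorem kill_sound {L : ℕ} {fac : List (ℕ × ℕ)} (hL : Nat.card G = L)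
    (h : kill L fac V.cs = true) : False := by
  rw [kill, Bool.and_eq_true] at h
  obtain ⟨hf, hk⟩ := h
  rw [← map_fst_assign V (fac.map Prod.fst)] at hk
  have hl : ∀ q ∈ assign V (fac.map Prod.fst), q.2 ∈ opts fac q.1 := by
    intro q hq
    rw [assign, List.mem_ofFn] at hq
    obtain ⟨i, rfl⟩ := hq
    exact mem_opts hf hL (V.ne_one i)
  have := killFrom_sound _ [] hk hl
  rw [List.nil_append, admissible, central_assign V hf hL, closed_assign V hf,
    List.all_eq_true.2 fun π hπ => congrAt_assign V hf hL (List.mem_sublists.1 hπ)] at this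
  exact Bool.noConfusion this

end CfsgLib.Spor.TenClasses.Frob
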