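import Cfsg.Agent.Lib.Spor.TenClasses.FrobFilter

/-!
# Vectors killed by Frobenius' congruences
-/

set_option autoImplicit false
set_option linter.unusedSectionVars false

namespace CfsgLib.Spor.TenClasses.Frob

open CfsgLib.Spor.NineClasses

variable {G : Type*} [Group G] [Finite G] {n : ℕ} (V : Vec G n)

include V in
/-- The order of the group is the least common multiple of the centraliser orders. -/
theorem card_eq_lcm : Nat.card G = V.cs.foldr Nat.lcm 1 := by
  refine Nat.dvd_antisymm (V.dvd_of_forall_dvd fun x hx => ?_) ?_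
  · revert hx
    generalize V.cs = l
    induction l with
    | nil => simp
    | cons a l ih =>
      intro hx
      rw [List.foldr_cons]
      rcases List.mem_cons.1 hx with rfl | hx
      · exact Nat.dvd_lcm_left _ _
      · exact (ih hx).trans (Nat.dvd_lcm_right _ _)
  · have h : ∀ x ∈ V.cs, x ∣ Nat.card G := fun x hx => by
      obtain ⟨i, rfl⟩ := V.mem_cs.1 hx
      exact cord_dvd _
    revert h
    generalize V.cs = l
    induction l with
    | nil => simp
    | cons a l ih =>
      intro h
      rw [List.foldr_cons]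
      exact Nat.lcm_dvd (h a List.mem_cons_self) (ih fun x hx => h x (List.mem_cons_of_mem _ hx))

/-- A vector killed by the filter, with the order computed from it. -/
theorem ne_of_kill {c : List ℕ} {fac : List (ℕ × ℕ)}
    (h : kill (c.foldr Nat.lcm 1) fac c = true) : V.cs ≠ c := by
  rintro rfl
  exact kill_sound V (card_eq_lcm V) h

/-- The vectors of order `7560`. -/
def vecs7560 : List (List ℕ) :=
  [[5, 5, 7, 7, 7, 8, 36, 72, 216], [5, 5, 7, 7, 7, 8, 36, 108, 108],
    [5, 5, 7, 7, 7, 8, 54, 54, 108], [5, 5, 7, 7, 7, 9, 24, 72, 216],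
    [5, 5, 7, 7, 7, 12, 18, 54, 72], [5, 5, 7, 7, 7, 12, 24, 24, 216],
    [5, 5, 7, 7, 7, 12, 24, 27, 108]]

theorem kill7560 :
    vecs7560.all (fun c => kill (c.foldr Nat.lcm 1) [(2, 3), (3, 3), (5, 1), (7, 1)] c) = true := by
  decide +kernel

/-- No vector of order `7560` occurs. -/
theorem not_7560 {c : List ℕ} (hc : c ∈ vecs7560) : V.cs ≠ c :=
  ne_of_kill V (List.all_eq_true.1 kill7560 c hc)

end CfsgLib.Spor.TenClasses.Frob
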