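import Cfsg.Agent.Lib.Spor.NineClasses.Prime
import Cfsg.Agent.Lib.Spor.TenClasses.Kill

/-!
# The table of a group
-/

set_option autoImplicit false

open Subgroup

namespace CfsgLib.Spor.TenClasses

open CfsgLib.Spor.NineClasses

variable {G : Type*} [Group G] [Finite G] {n : ℕ}

/-- Centraliser orders and orders of the class representatives. -/
noncomputable def tab (V : Vec G n) : List (ℕ × ℕ) :=
  List.ofFn fun i => (cord (V.rep i), orderOf (V.rep i))

theorem mem_tab {V : Vec G n} {z : ℕ × ℕ} :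
    z ∈ tab V ↔ ∃ i, (cord (V.rep i), orderOf (V.rep i)) = z := by simp [tab, List.mem_ofFn]

theorem mem_tab_of_ne_one (V : Vec G n) {g : G} (hg : g ≠ 1) : (cord g, orderOf g) ∈ tab V :=
  mem_tab.2 ⟨V.idx g hg, by rw [V.cord_idx, V.orderOf_idx]⟩

theorem tab_map_fst (V : Vec G n) : (tab V).map Prod.fst = V.cs := by
  simp [tab, Vec.cs, List.map_ofFn, Function.comp_def]

/-- A prime with its full power. -/
structure PP (L p q : ℕ) : Prop where
  prime : p.Prime
  dvd : p ∣ L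
  qdvd : q ∣ L
  full : ¬ q * p ∣ L
  isPow : ∃ k, q = p ^ k

theorem pp_of_ppOK {Q : List (ℕ × ℕ)} {L : ℕ} (h : ppOK Q L = true) :
    ∀ q ∈ Q, PP L q.1 q.2 := by
  intro q hq
  have h' := List.all_eq_true.1 h q hq
  simp only [Bool.and_eq_true, beq_iff_eq, Bool.not_eq_true', beq_eq_false_iff_ne] at h'
  obtain ⟨⟨⟨⟨h1, h2⟩, h3⟩, h4⟩, h5⟩ := h'
  have hp := isP_sound h1
  obtain ⟨k, -, hk⟩ := (Nat.dvd_prime_pow hp).1 (Nat.dvd_of_mod_eq_zero h5)
  exact ⟨hp, Nat.dvd_of_mod_eq_zero h2, Nat.dvd_of_mod_eq_zero h3,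
    fun h => h4 (Nat.mod_eq_zero_of_dvd h), k, hk⟩

theorem PP.pow_le {L p q j : ℕ} (h : PP L p q) (hj : p ^ j ∣ L) : p ^ j ∣ q := by
  obtain ⟨k, rfl⟩ := h.isPow
  refine pow_dvd_pow p ?_
  by_contra hlt
  exact h.full (pow_succ p k ▸ (pow_dvd_pow p (show k + 1 ≤ j by omega)).trans hj)

/-- The elements counted by `sumIf`. -/
theorem sumIf_tab (V : Vec G n) (P : ℕ → Bool) :
    sumIf (Nat.card G) (tab V) P = Nat.card {g : G // g ≠ 1 ∧ P (orderOf g) = true} := by
  classical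
  rw [V.card_elems (fun g => g ≠ 1 ∧ P (orderOf g) = true)
    (fun a b hab ha => ⟨fun hb => ha.1 (isConj_one_left.1 (hb ▸ hab)), orderOf_conj hab ▸ ha.2⟩)
    (by simp)]
  have hmap : ∀ l : List (ℕ × ℕ), sumIf (Nat.card G) l P =
      (l.map fun z => if P z.2 = true then Nat.card G / z.1 else 0).sum := by
    intro l
    induction l with
    | nil => rfl
    | cons a l ih =>
      simp only [sumIf] at ih ⊢
      by_cases ha : P a.2 = true <;> simp [List.filter_cons, ha, ih]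
  rw [hmap, tab, List.map_ofFn, List.sum_ofFn]
  refine Finset.sum_congr rfl fun i _ => ?_
  simp [V.ne_one i]

end CfsgLib.Spor.TenClasses
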