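import Cfsg.Agent.Lib.Spor.TenClasses.KillBasic

/-!
# The classes of central elements, powers and products
-/

set_option autoImplicit false

open Subgroup

namespace CfsgLib.Spor.TenClasses

open CfsgLib.Spor.NineClasses

variable {G : Type*} [Group G] [Finite G] {n : ℕ} (V : Vec G n) {Q : List (ℕ × ℕ)}
  (hQ : ∀ q ∈ Q, PP (Nat.card G) q.1 q.2)

include hQ in
/-- Every prime has a central element of a Sylow subgroup. -/
theorem rCen_sound : rCen Q (tab V) = true := by
  rw [rCen, List.all_eq_true]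
  intro q hq
  obtain ⟨hp, hdvd, hqd, -, k, hk⟩ := hQ q hq
  obtain ⟨z, hz, hzc⟩ := exists_central (G := G) hp hdvd
  have hz1 : z ≠ 1 := by rintro rfl; rw [orderOf_one] at hz; exact hp.one_lt.ne hz
  refine List.any_eq_true.2 ⟨_, mem_tab_of_ne_one V hz1, ?_⟩
  simp only [Bool.and_eq_true, beq_iff_eq]
  exact ⟨hz, Nat.mod_eq_zero_of_dvd (hk ▸ hzc k (hk ▸ hqd))⟩

include hQ in
/-- The power by a prime divisor of the order lies in a class. -/
theorem rPow_sound : rPow Q (tab V) = true := by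
  rw [rPow, List.all_eq_true]
  intro z hz
  rw [List.all_eq_true]
  intro q hq
  obtain ⟨i, rfl⟩ := mem_tab.1 hz
  set g := V.rep i with hg
  simp only [Bool.or_eq_true, Bool.not_eq_true', beq_eq_false_iff_ne, beq_iff_eq]
  by_cases h1 : orderOf g % q.1 = 0
  swap
  · exact Or.inl (Or.inl h1)
  by_cases h2 : orderOf g = q.1
  · exact Or.inl (Or.inr h2)
  refine Or.inr ?_
  have hp := (hQ q hq).prime
  have hd : q.1 ∣ orderOf g := Nat.dvd_of_mod_eq_zero h1
  have ho : orderOf (g ^ q.1) = orderOf g / q.1 := by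
    rw [orderOf_pow' g hp.ne_zero, Nat.gcd_eq_right hd]
  have hne : g ^ q.1 ≠ 1 := fun h => by
    rcases (Nat.dvd_prime hp).1 (orderOf_dvd_of_pow_eq_one h) with h' | h'
    · exact V.ne_one i (orderOf_eq_one_iff.1 h')
    · exact h2 h'
  refine List.any_eq_true.2 ⟨_, mem_tab_of_ne_one V hne, ?_⟩
  simp only [Bool.and_eq_true, beq_iff_eq]
  exact ⟨ho, Nat.mod_eq_zero_of_dvd (cord_dvd_cord_pow g q.1)⟩

include hQ in
/-- The product with a commuting element of prime order lies in a class. -/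
theorem rExt_sound : rExt Q (tab V) = true := by
  rw [rExt, List.all_eq_true]
  intro z hz
  rw [List.all_eq_true]
  intro q hq
  obtain ⟨i, rfl⟩ := mem_tab.1 hz
  set g := V.rep i with hg
  simp only [Bool.or_eq_true, Bool.not_eq_true', beq_eq_false_iff_ne, beq_iff_eq]
  by_cases h1 : cord g % q.1 = 0
  swap
  · exact Or.inl (Or.inl h1)
  by_cases h2 : orderOf g % q.1 = 0
  · exact Or.inl (Or.inr h2)
  refine Or.inr ?_
  have hp := (hQ q hq).prime
  haveI : Fact q.1.Prime := ⟨hp⟩
  obtain ⟨⟨u, hu⟩, huo⟩ := exists_prime_orderOf_dvd_card' (G := centralizer ({g} : Set G)) q.1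
    (Nat.dvd_of_mod_eq_zero h1)
  rw [Subgroup.orderOf_mk] at huo
  have hcomm : Commute g u := commute_of_mem_centralizer hu
  have hcop : Nat.Coprime q.1 (orderOf g) :=
    hp.coprime_iff_not_dvd.2 fun h => h2 (Nat.mod_eq_zero_of_dvd h)
  have ho : orderOf (g * u) = orderOf g * q.1 := by
    rw [hcomm.orderOf_mul_eq_mul_orderOf_of_coprime (by rw [huo]; exact hcop.symm), huo]
  have hne : g * u ≠ 1 := fun h => by
    rw [h, orderOf_one] at ho
    exact hp.one_lt.ne' (Nat.eq_one_of_mul_eq_one_left ho.symm)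
  have hpow : (g * u) ^ q.1 = g ^ q.1 := by
    rw [hcomm.mul_pow, show u ^ q.1 = 1 by rw [← huo]; exact pow_orderOf_eq_one u, mul_one]
  have hzp : zpowers (g ^ q.1) = zpowers g := by
    refine Subgroup.eq_of_le_of_card_ge (zpowers_le.2 (pow_mem (mem_zpowers g) _)) ?_
    rw [Nat.card_zpowers, Nat.card_zpowers, Nat.Coprime.orderOf_pow hcop.symm]
  refine List.any_eq_true.2 ⟨_, mem_tab_of_ne_one V hne, ?_⟩
  simp only [Bool.and_eq_true, beq_iff_eq]
  refine ⟨ho, Nat.mod_eq_zero_of_dvd ?_⟩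
  have h := cord_dvd_cord_pow (g * u) q.1
  rw [hpow] at h
  rwa [cord, cord, centralizer_eq_of_zpowers_eq hzp, ← cord, ← cord] at h

include hQ in
/-- Elements of prime order have centralisers with the square of the prime when it divides. -/
theorem rSq_sound : rSq Q (tab V) = true := by
  rw [rSq, List.all_eq_true]
  intro q hq
  obtain ⟨hp, hdvd, hqd, hfull, k, hk⟩ := hQ q hq
  simp only [Bool.or_eq_true, beq_iff_eq, List.all_eq_true, Bool.not_eq_true', beq_eq_false_iff_ne]
  by_cases h : q.2 = q.1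
  · exact Or.inl h
  refine Or.inr fun z hz => ?_
  obtain ⟨i, rfl⟩ := mem_tab.1 hz
  by_cases ho : orderOf (V.rep i) = q.1
  swap
  · exact Or.inl ho
  have hk2 : 2 ≤ k := by
    rcases k with _ | _ | k
    · exact absurd (by rw [hk, pow_zero, one_mul]; exact hdvd) hfull
    · exact absurd (by rw [hk, zero_add, pow_one]) h
    · omega
  have h2 : q.1 ^ 2 ∣ Nat.card G := (pow_dvd_pow q.1 hk2).trans (hk ▸ hqd)
  exact Or.inr (Nat.mod_eq_zero_of_dvd (by
    have := sq_dvd_centralizer hp ho h2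
    rw [← pow_two]
    exact this))

end CfsgLib.Spor.TenClasses
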