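import Cfsg.Agent.Lib.Spor.TenClasses.KillBasic
import Cfsg.Agent.Lib.Base.FrobeniusSolutions

/-!
# The counting tests on a table
-/

set_option autoImplicit false
set_option linter.style.haveILetI false

open Subgroup

namespace CfsgLib.Spor.TenClasses

open CfsgLib.Spor.NineClasses

variable {G : Type*} [Group G] [Finite G] {n : ℕ} (V : Vec G n) {Q : List (ℕ × ℕ)}

/-- Frobenius' theorem on the table. -/
theorem rFrob_sound (D : List ℕ) : rFrob (Nat.card G) D (tab V) = true := by
  classical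
  refine List.all_eq_true.2 fun m _ => ?_
  by_cases hm : Nat.card G % m = 0
  swap
  · simp [hm]
  rw [Bool.or_eq_true]
  right
  rw [beq_iff_eq, sumIf_tab, ← Nat.dvd_iff_mod_eq_zero]
  refine (CfsgLib.Base.Solutions.dvd_card_pow_eq_one (Nat.dvd_of_mod_eq_zero hm)).trans
    (dvd_of_eq ?_)
  have : Fintype G := Fintype.ofFinite G
  rw [Nat.card_eq_fintype_card, Nat.card_eq_fintype_card, Fintype.card_subtype,
    Fintype.card_subtype, add_comm]
  rw [show (Finset.univ.filter fun g : G => g ^ m = 1) =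
    insert 1 (Finset.univ.filter fun g : G => g ≠ 1 ∧ (m % orderOf g == 0) = true) from ?_,
    Finset.card_insert_of_notMem (by simp)]
  ext g
  by_cases hg : g = 1
  · simp [hg]
  · simp [hg, ← orderOf_dvd_iff_pow_eq_one, Nat.dvd_iff_mod_eq_zero]

variable [IsSimpleGroup G] (hQ : ∀ q ∈ Q, PP (Nat.card G) q.1 q.2)

include hQ in
/-- More elements of prime power order than one Sylow subgroup holds. -/
theorem rCnt_sound (hG : ¬ IsMulCommutative G) : rCnt (Nat.card G) Q (tab V) = true := by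
  classical
  refine List.all_eq_true.2 fun q hq => ?_
  obtain ⟨p, r⟩ := q
  have hpp : PP (Nat.card G) p r := hQ _ hq
  haveI : Fact p.Prime := ⟨hpp.prime⟩
  rw [Nat.ble_eq, sumIf_tab]
  obtain ⟨j, hj⟩ := hpp.isPow
  have hP : ∀ P : Sylow p G, Nat.card (P : Subgroup G) = r := by
    intro P
    obtain ⟨k, hk⟩ := IsPGroup.iff_card.1 P.2
    refine Nat.dvd_antisymm ?_ ?_
    · rw [hk]; exact hpp.pow_le (hk ▸ card_subgroup_dvd_card _)
    · change r ∣ _
      rw [hj]
      exact P.pow_dvd_card_of_pow_dvd_card (hj ▸ hpp.qdvd)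
  have h1 := CfsgLib.Small.one_lt_card_sylow hG hpp.dvd
  haveI : Nontrivial (Sylow p G) := Finite.one_lt_card_iff_nontrivial.1 h1
  obtain ⟨P, P', hne⟩ := exists_pair_ne (Sylow p G)
  obtain ⟨x, hx', hx⟩ : ∃ x, x ∈ (P' : Subgroup G) ∧ x ∉ (P : Subgroup G) := by
    by_contra hno
    push Not at hno
    exact hne (Sylow.ext (Subgroup.eq_of_le_of_card_ge hno (by rw [hP, hP])).symm)
  have hx1 : x ≠ 1 := fun e => hx (e ▸ one_mem _)
  have hord : ∀ R : Sylow p G, ∀ y ∈ (R : Subgroup G), (r % orderOf y == 0) = true := by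
    intro R y hy
    rw [beq_iff_eq, ← Nat.dvd_iff_mod_eq_zero, ← Nat.card_zpowers, ← hP R]
    exact card_dvd_of_le (zpowers_le.2 hy)
  change r ≤ Nat.card {g : G // g ≠ 1 ∧ (r % orderOf g == 0) = true}
  refine le_of_eq_of_le (hP P).symm ?_
  refine Nat.card_le_card_of_injective (fun y : (P : Subgroup G) =>
    if h : (y : G) = 1 then ⟨x, hx1, hord P' x hx'⟩ else ⟨(y : G), h, hord P y y.2⟩) ?_
  intro a b hab
  simp only at hab
  by_cases ha : (a : G) = 1 <;> by_cases hb : (b : G) = 1
  · exact Subtype.ext (ha.trans hb.symm)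
  · rw [dif_pos ha, dif_neg hb] at hab
    have e : x = (b : G) := congrArg Subtype.val hab
    exact absurd (e.symm ▸ b.2) hx
  · rw [dif_neg ha, dif_pos hb] at hab
    have e : (a : G) = x := congrArg Subtype.val hab
    exact absurd (e ▸ a.2) hx
  · rw [dif_neg ha, dif_neg hb] at hab
    exact Subtype.ext (congrArg (fun z : {g : G // _} => (z : G)) hab)

end CfsgLib.Spor.TenClasses
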