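import Cfsg.Agent.Lib.Spor.TenClasses.Big
import Cfsg.Agent.Lib.Spor.TenClasses.KillBasic

/-!
# Soundness of the test for a dihedral normalizer
-/

set_option autoImplicit false

open Subgroup

namespace CfsgLib.Spor.TenClasses

open CfsgLib.Spor.NineClasses

variable {G : Type*} [Group G] [Finite G] [IsSimpleGroup G] {n : ℕ}

/-- The test on self-centralising subgroups with dihedral normalizer holds. -/
theorem rDih_sound (hG : ¬ IsMulCommutative G) (V : Vec G n) {Q : List (ℕ × ℕ)}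
    (hQ : ∀ q ∈ Q, PP (Nat.card G) q.1 q.2) {D : List ℕ}
    (hD : ∀ d, d ∣ Nat.card G → d ∈ D) :
    rDih (Nat.card G) V.cs Q D (tab V) = true := by
  rw [rDih, List.all_eq_true]
  intro q hq
  by_cases h5 : 5 ≤ q.1
  swap
  · simp [Bool.eq_false_iff.2 (fun h => h5 (Nat.le_of_ble_eq_true h))]
  by_cases hc : 2 * V.cs.count q.1 = q.1 - 1
  swap
  · simp [hc]
  have hp : q.1.Prime := (hQ q hq).prime
  haveI : Fact q.1.Prime := ⟨hp⟩
  letI : Fintype G := Fintype.ofFinite G
  obtain ⟨u, hu, hsq, hC, hN⟩ := Big.dihedral_normalizer hG V hp h5 hc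
  obtain ⟨d, f, a, ε, ha, hε, hmod, heq, hd, hf, hdL, hfL, -, -, ht⟩ :=
    CfsgLib.Small.dihedral_data hG u hu hsq hC hN h5
  have hone : dihOne (Nat.card G) q.1 (tab V) d f = true := by
    simp only [dihOne, Bool.and_eq_true, beq_iff_eq, List.all_eq_true, Bool.or_eq_true,
      Bool.not_eq_true', beq_eq_false_iff_ne, Nat.ble_eq]
    refine ⟨Nat.mod_eq_zero_of_dvd hfL, fun z hz => ?_⟩
    obtain ⟨i, rfl⟩ := mem_tab.1 hz
    by_cases ho : orderOf (V.rep i) = 2
    swap
    · exact Or.inl ho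
    obtain ⟨w, -, hw, he⟩ := ht (V.rep i) ho
    have he' : cord (V.rep i) * cord (V.rep i) * q.1 * d * f = Nat.card G * w ^ 2 := by
      rw [← he, cord]; ring
    refine Or.inr ⟨?_, ?_⟩
    · simp only [he', Nat.mul_mod_right]
    · simp only [he', Nat.mul_div_cancel_left _ Nat.card_pos]
      have := Nat.mul_le_mul hw hw
      rw [pow_two]
      calc w * w ≤ 2 * d * (2 * d) := this
        _ = 4 * d * d := by ring
  simp only [Bool.or_eq_true, List.any_eq_true, Bool.and_eq_true, beq_iff_eq, Nat.ble_eq]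
  refine Or.inr ⟨d, hD d hdL, hd, ?_⟩
  have hlt : 1 < q.1 := hp.one_lt
  rcases ha with rfl | rfl
  · rcases hε with rfl | rfl
    · left
      have hm : d % q.1 = 1 % q.1 := by
        have : ((d : ℕ) : ℤ) ≡ ((1 : ℕ) : ℤ) [ZMOD (q.1 : ℤ)] := by exact_mod_cast hmod
        exact Int.natCast_modEq_iff.1 this
      rw [Nat.mod_eq_of_lt hlt] at hm
      rw [show d + 1 = f by omega]
      exact ⟨hm, hone⟩
    · omega
  · rcases hε with rfl | rfl
    · omega
    · right
      have hm : d % q.1 = (q.1 - 1) % q.1 := by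
        have h1 : ((d : ℕ) : ℤ) ≡ ((q.1 - 1 : ℕ) : ℤ) [ZMOD (q.1 : ℤ)] := by
          rw [Nat.cast_sub (by omega), Nat.cast_one]
          refine hmod.trans ?_
          simp [Int.modEq_iff_dvd]
        exact Int.natCast_modEq_iff.1 h1
      rw [Nat.mod_eq_of_lt (by omega : q.1 - 1 < q.1)] at hm
      rw [show d - 1 = f by omega]
      exact ⟨hm, hone⟩

end CfsgLib.Spor.TenClasses
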