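import Cfsg.Agent.Lib.Spor.TenClasses.KillBasic

/-!
# The normalizer test on a table
-/

set_option autoImplicit false
set_option linter.style.haveILetI false

open Subgroup

namespace CfsgLib.Spor.TenClasses

open CfsgLib.Spor.NineClasses

variable {G : Type*} [Group G] [Finite G] [IsSimpleGroup G] {n : ℕ} (V : Vec G n)
  {Q : List (ℕ × ℕ)} (hQ : ∀ q ∈ Q, PP (Nat.card G) q.1 q.2)

include hQ in
/-- The normalizer of a Sylow subgroup of prime order exceeds its centraliser. -/
theorem rNorm_sound (hG : ¬ IsMulCommutative G) : rNorm (Nat.card G) Q (tab V) = true := by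
  classical
  refine List.all_eq_true.2 fun q hq => ?_
  obtain ⟨p, r⟩ := q
  have hpp := hQ _ hq
  by_cases hp2 : p = 2
  · simp [hp2]
  by_cases hrp : r = p
  swap
  · simp [hrp]
  subst hrp
  have hp : r.Prime := hpp.prime
  haveI : Fact r.Prime := ⟨hp⟩
  have hP : ∀ P : Sylow r G, Nat.card (P : Subgroup G) = r := by
    intro P
    obtain ⟨k, hk⟩ := IsPGroup.iff_card.1 P.2
    have h1 := P.pow_dvd_card_of_pow_dvd_card (show r ^ 1 ∣ Nat.card G from (pow_one r).symm ▸ hpp.dvd)
    rw [hk, Nat.pow_dvd_pow_iff_le_right hp.one_lt] at h1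
    rw [hk]
    rcases Nat.lt_or_ge k 2 with h | h
    · rw [show k = 1 by omega, pow_one]
    · exact absurd (dvd_trans (pow_two r ▸ dvd_trans (pow_dvd_pow r h) hk.symm.dvd :
        r * r ∣ Nat.card (P : Subgroup G)) (card_subgroup_dvd_card _)) hpp.full
  set N := Nat.card (Sylow r G) with hN
  have hsum : sumIf (Nat.card G) (tab V) (fun w => w == r) = N * (r - 1) := by
    rw [sumIf_tab, hN, ← CfsgLib.Small.card_orderOf_eq_prime hP]
    refine Nat.card_congr (Equiv.subtypeEquivRight fun g => ?_)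
    constructor
    · exact fun h => beq_iff_eq.1 h.2
    · exact fun h => ⟨fun h1 => hp.one_lt.ne (by rw [← h, h1, orderOf_one]), beq_iff_eq.2 h⟩
  have hdiv : sumIf (Nat.card G) (tab V) (fun w => w == r) / (r - 1) = N := by
    rw [hsum, Nat.mul_div_cancel _ (by have := hp.two_le; omega)]
  have hN1 : N % r = 1 := by
    have := card_sylow_modEq_one r G
    rw [← hN, Nat.ModEq, Nat.one_mod_eq_one.2 hp.one_lt.ne'] at this
    exact this
  have hlt : ∀ z ∈ tab V, z.2 = r → N < Nat.card G / z.1 := by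
    intro z hz hzo
    obtain ⟨i, rfl⟩ := mem_tab.1 hz
    replace hzo : orderOf (V.rep i) = r := hzo
    obtain ⟨P, hle⟩ := (IsPGroup.of_card (p := r) (n := 1)
      (show Nat.card (zpowers (V.rep i)) = r ^ 1 by rw [Nat.card_zpowers, hzo, pow_one])).exists_le_sylow
    have hPx : zpowers (V.rep i) = (P : Subgroup G) :=
      Subgroup.eq_of_le_of_card_ge hle (by rw [Nat.card_zpowers, hzo, hP P])
    have hCP : Nat.card (centralizer ((P : Subgroup G) : Set G)) = cord (V.rep i) := by
      rw [← hPx, zpowers_eq_closure, centralizer_closure]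
      rfl
    obtain ⟨e, he1, -, heN⟩ := CfsgLib.Small.exists_normalizer_centralizer hG P (hP P)
    have hNn := CfsgLib.Small.card_normalizer_mul P
    rw [hCP] at heN
    have hL : Nat.card G = cord (V.rep i) * (e * N) := by rw [← hNn, ← heN, hN]; ring
    have hN0 : 0 < N := Nat.card_pos
    show N < Nat.card G / cord (V.rep i)
    rw [hL, Nat.mul_div_cancel_left _ (cord_pos _)]
    calc N = 1 * N := (one_mul N).symm
      _ < e * N := Nat.mul_lt_mul_of_pos_right he1 hN0
  rw [Bool.or_eq_true]
  right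
  rw [Bool.and_eq_true, beq_iff_eq, hdiv, List.all_eq_true]
  refine ⟨hN1, fun z hz => ?_⟩
  by_cases hzo : z.2 = r
  · simp [hzo, Nat.blt_eq, hlt z hz hzo]
  · simp [hzo]

end CfsgLib.Spor.TenClasses
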