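import Cfsg.Agent.Lib.Spor.NineClasses.Dfs
import Cfsg.Agent.Lib.Spor.TenClasses.Kill

/-!
# Soundness of the search over element orders
-/

set_option autoImplicit false

namespace CfsgLib.Spor.TenClasses

open CfsgLib.Spor.NineClasses (pfs isP pPart divPairs allMem allMem_iff mem_divPairs)

theorem mem_divisors_pairs {t v : ℕ} (ht : 0 < t) (hv : v ∣ t) : v ∈ divPairs t (t + 1) 1 := by
  obtain ⟨q, hq⟩ := hv
  have hv0 : 0 < v := Nat.pos_of_mul_pos_right (hq ▸ ht)
  have hq0 : 0 < q := Nat.pos_of_mul_pos_left (hq ▸ ht)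
  rcases le_total v q with h | h
  · have h2 : v * v ≤ t := hq ▸ Nat.mul_le_mul_left v h
    have : v ≤ v * v := Nat.le_mul_self v
    exact (mem_divPairs (t + 1) 1 hv0 h2 ⟨q, hq⟩ (by omega)).1
  · have h2 : q * q ≤ t := hq ▸ Nat.mul_le_mul_right q h
    have : q ≤ q * q := Nat.le_mul_self q
    have := (mem_divPairs (t + 1) 1 hq0 h2 ⟨v, by rw [hq, mul_comm]⟩ (by omega)).2
    rwa [show t / q = v by rw [hq, Nat.mul_div_cancel _ hq0]] at this

/-- The order on a table. -/
def TabLE (z w : ℕ × ℕ) : Prop := z.1 ≤ w.1 ∧ (z.1 = w.1 → z.2 ≤ w.2)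

/-- A table passing all tests is found by the search. -/
theorem not_srch {L : ℕ} {c : List ℕ} {Q : List (ℕ × ℕ)} {D : List ℕ} {T : List (ℕ × ℕ)}
    (hQ : ∀ q ∈ Q, 2 ≤ q.1) (hx : ∀ z ∈ T, 0 < z.1) (hdvd : ∀ z ∈ T, z.2 ∣ z.1)
    (h2 : ∀ z ∈ T, 2 ≤ z.2) (hsort : List.Pairwise TabLE T)
    (hok : okTable L c Q D T = true) :
    ∀ r A : List (ℕ × ℕ), r.reverse ++ A = T → srch L c Q D (r.map Prod.fst) A = false := by
  intro r
  induction r with
  | nil =>
    intro A hA
    simp only [List.reverse_nil, List.nil_append] at hA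
    subst hA
    simp [srch, hok]
  | cons z r ih =>
    intro A hA
    rw [List.reverse_cons, List.append_assoc, List.singleton_append] at hA
    have hz : z ∈ T := by rw [← hA]; simp
    rw [Bool.eq_false_iff]
    intro hs
    rw [show srch L c Q D ((z :: r).map Prod.fst) A = allMem (divPairs z.1 (z.1 + 1) 1) fun v =>
      !(Nat.ble 2 v) || symBad A z.1 v || (!((r.map Prod.fst).headD 0 == z.1) && powBad Q A z.1 v)
        || srch L c Q D (r.map Prod.fst) ((z.1, v) :: A) from rfl, allMem_iff] at hs
    have h := hs z.2 (mem_divisors_pairs (hx z hz) (hdvd z hz))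
    rw [ih _ hA, Bool.or_false, Bool.or_eq_true, Bool.or_eq_true, Bool.and_eq_true,
      Bool.not_eq_true', Bool.not_eq_true'] at h
    rw [← hA, List.pairwise_append] at hsort
    obtain ⟨hr, hzA, hrz⟩ := hsort
    rcases h with (h | h) | ⟨hne, hp⟩
    · rw [Bool.eq_false_iff, ne_eq, Nat.ble_eq] at h
      exact h (h2 z hz)
    · cases A with
      | nil => simp [symBad] at h
      | cons w A =>
        simp only [symBad, Bool.and_eq_true, beq_iff_eq, Nat.blt_eq] at h
        have := ((List.pairwise_cons.1 hzA).1 w List.mem_cons_self).2 h.1.symm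
        omega
    · simp only [beq_eq_false_iff_ne] at hne
      simp only [powBad, List.any_eq_true, Bool.and_eq_true, Bool.not_eq_true', beq_iff_eq,
        beq_eq_false_iff_ne] at hp
      obtain ⟨q, hq, ⟨hdiv, hvq⟩, hno⟩ := hp
      have hpow : rPow Q T = true := by
        simp only [okTable, Bool.and_eq_true] at hok
        exact hok.1.1.1.1.2
      have hP := List.all_eq_true.1 (List.all_eq_true.1 hpow z hz) q hq
      simp only [hdiv, beq_self_eq_true, Bool.not_true, Bool.false_or, Bool.or_eq_true,
        beq_iff_eq, hvq, false_or, List.any_eq_true, Bool.and_eq_true] at hP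
      obtain ⟨w, hw, hw2, hw1⟩ := hP
      have hxw : z.1 ≤ w.1 := Nat.le_of_dvd (hx w hw) (Nat.dvd_of_mod_eq_zero hw1)
      rw [← hA, List.mem_append, List.mem_cons] at hw
      rcases hw with hw | hw | hw
      · cases r with
        | nil => simp at hw
        | cons y r =>
          have hy : y.1 ≤ z.1 := (hrz y (by simp) z List.mem_cons_self).1
          have hwy : w.1 ≤ y.1 := by
            rw [List.mem_reverse, List.mem_cons] at hw
            rcases hw with rfl | hw
            · exact le_rfl
            · exact ((List.pairwise_cons.1 (List.pairwise_reverse.1 hr)).1 w hw).1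
          exact hne (by simp only [List.map_cons, List.headD_cons]; omega)
      · subst hw
        have := h2 w hz
        have := Nat.div_lt_self (by omega : 0 < w.2) (hQ q hq)
        omega
      · rw [List.any_eq_false] at hno
        exact hno w hw (by simp [hw2, hw1])

end CfsgLib.Spor.TenClasses
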