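import Cfsg.Agent.Lib.Spor.TenClasses.KillClasses
import Cfsg.Agent.Lib.Spor.TenClasses.KillCount
import Cfsg.Agent.Lib.Spor.TenClasses.KillDih
import Cfsg.Agent.Lib.Spor.TenClasses.KillNorm
import Cfsg.Agent.Lib.Spor.TenClasses.KillSearch

/-!
# A killed vector does not occur
-/

set_option autoImplicit false

open Subgroup

namespace CfsgLib.Spor.TenClasses

open CfsgLib.Spor.NineClasses

variable {G : Type*} [Group G] [Finite G] [IsSimpleGroup G] {n : ℕ}

/-- The representatives with equal centraliser orders are sorted by their orders. -/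
def OrdVec (V : Vec G n) : Prop :=
  ∀ i j, i ≤ j → cord (V.rep i) = cord (V.rep j) → orderOf (V.rep i) ≤ orderOf (V.rep j)

omit [IsSimpleGroup G] in
/-- Representatives can be sorted this way. -/
theorem exists_ordVec (h : Nat.card (ConjClasses G) = n + 1) : ∃ V : Vec G n, OrdVec V := by
  obtain ⟨W⟩ := exists_vec h
  let key : Fin n → ℕ := fun i => cord (W.rep i) * (Nat.card G + 1) + orderOf (W.rep i)
  let σ := Tuple.sort key
  have hb : ∀ i, orderOf (W.rep i) < Nat.card G + 1 := fun i =>
    Nat.lt_succ_of_le (Nat.le_of_dvd Nat.card_pos (orderOf_dvd_natCard _))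
  have hmono : ∀ i j, i ≤ j → cord (W.rep (σ i)) ≤ cord (W.rep (σ j)) := by
    intro i j hij
    have := Tuple.monotone_sort key hij
    simp only [Function.comp_apply, key] at this
    by_contra hlt
    push Not at hlt
    have h1 := Nat.mul_le_mul_right (Nat.card G + 1) (Nat.succ_le_of_lt hlt)
    have h2 := hb (σ j)
    rw [Nat.succ_eq_add_one] at h1
    nlinarith
  refine ⟨⟨fun i => W.rep (σ i), fun i => W.ne_one _, fun i j hij => σ.injective (W.inj _ _ hij),
    fun g hg => ⟨σ.symm (W.surj g hg).choose, by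
      simpa using (W.surj g hg).choose_spec⟩, hmono⟩, fun i j hij heq => ?_⟩
  have := Tuple.monotone_sort key hij
  simp only [Function.comp_apply, key] at this
  simp only at heq
  rw [heq] at this
  exact Nat.le_of_add_le_add_left this

/-- A killed vector does not occur. -/
theorem killed_sound (hG : ¬ IsMulCommutative G) (V : Vec G n) (hV : OrdVec V)
    (h : killed V.cs (Nat.card G) = true) : False := by
  rw [killed, Bool.and_eq_true] at h
  obtain ⟨hpp, hs⟩ := h
  have hQ := pp_of_ppOK hpp
  set Q := ppList V.cs (Nat.card G)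
  set D := divPairs (Nat.card G) (Nat.card G + 1) 1
  have hD : ∀ d, d ∣ Nat.card G → d ∈ D := fun d hd => mem_divisors_pairs Nat.card_pos hd
  have hok : okTable (Nat.card G) V.cs Q D (tab V) = true := by
    simp only [okTable, Bool.and_eq_true]
    exact ⟨⟨⟨⟨⟨⟨⟨rCen_sound V hQ, rCnt_sound V hQ hG⟩, rSq_sound V hQ⟩, rPow_sound V hQ⟩,
      rExt_sound V hQ⟩, rNorm_sound V hQ hG⟩, rDih_sound hG V hQ hD⟩, rFrob_sound V D⟩
  have := not_srch (c := V.cs) (D := D) (T := tab V) (fun q hq => (hQ q hq).prime.two_le)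
    (fun z hz => by obtain ⟨i, rfl⟩ := mem_tab.1 hz; exact cord_pos _)
    (fun z hz => by obtain ⟨i, rfl⟩ := mem_tab.1 hz; exact orderOf_dvd_cord _)
    (fun z hz => by
      obtain ⟨i, rfl⟩ := mem_tab.1 hz
      have h1 := orderOf_pos (V.rep i)
      have h2 : orderOf (V.rep i) ≠ 1 := fun e => V.ne_one i (orderOf_eq_one_iff.1 e)
      show 2 ≤ orderOf (V.rep i)
      omega)
    (by
      rw [tab, List.pairwise_ofFn]
      exact fun i j h => ⟨V.mono i j h.le, hV i j h.le⟩)
    hok (tab V).reverse [] (by simp)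
  rw [List.map_reverse, tab_map_fst, hs] at this
  exact Bool.noConfusion this

/-- A killed vector does not occur, with the order computed from it. -/
theorem ne_of_killed (hG : ¬ IsMulCommutative G) (V : Vec G n) (hV : OrdVec V) {c : List ℕ}
    {L : ℕ} (hL : Nat.card G = L) (h : killed c L = true) : V.cs ≠ c := fun e =>
  killed_sound hG V hV (by rw [e, hL]; exact h)

end CfsgLib.Spor.TenClasses
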