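import Cfsg.Agent.Lib.Spor.TenClasses.Exceptions

/-!
# The survivors 167 to 205 are settled
-/

set_option autoImplicit false

namespace CfsgLib.Spor.TenClasses

theorem settled_partE : ((survivors.drop 167).take 39).all settled = true := by
  decide +kernel

end CfsgLib.Spor.TenClasses
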