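import Cfsg.Agent.Lib.Spor.TenClasses.Killed
import Cfsg.Agent.Lib.Spor.TenClasses.KilledPartA
import Cfsg.Agent.Lib.Spor.TenClasses.KilledPartB
import Cfsg.Agent.Lib.Spor.TenClasses.KilledPartC
import Cfsg.Agent.Lib.Spor.TenClasses.KilledPartD
import Cfsg.Agent.Lib.Spor.TenClasses.KilledPartE
import Cfsg.Agent.Lib.Spor.TenClasses.KilledPartF
import Cfsg.Agent.Lib.Spor.NineClasses.Small

/-!
# Only the exceptions are left of the survivors
-/

set_option autoImplicit false

namespace CfsgLib.Spor.TenClasses

open CfsgLib.Spor.NineClasses

theorem survivors_split : survivors = (survivors.drop 0).take 117 ++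
    (survivors.drop 117).take 16 ++
    (survivors.drop 133).take 18 ++
    (survivors.drop 151).take 16 ++
    (survivors.drop 167).take 39 ++
    (survivors.drop 206).take 39 := by
  decide +kernel

theorem settled_of_mem {c : List ℕ} (hc : c ∈ survivors) : settled c = true := by
  rw [survivors_split] at hc
  simp only [List.mem_append] at hc
  rcases hc with ((((hc | hc) | hc) | hc) | hc) | hc
  exacts [List.all_eq_true.1 settled_partA c hc, List.all_eq_true.1 settled_partB c hc,
    List.all_eq_true.1 settled_partC c hc, List.all_eq_true.1 settled_partD c hc,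
    List.all_eq_true.1 settled_partE c hc, List.all_eq_true.1 settled_partF c hc]

variable {G : Type*} [Group G] [Finite G] [IsSimpleGroup G]

theorem card_eq_foldr_lcm {n : ℕ} (V : Vec G n) : Nat.card G = V.cs.foldr Nat.lcm 1 := by
  refine Nat.dvd_antisymm (V.dvd_of_forall_dvd fun x hx => ?_) ?_
  · revert hx
    generalize V.cs = l
    induction l with
    | nil => simp
    | cons a l ih =>
      intro hx
      rw [List.foldr_cons]
      rcases List.mem_cons.1 hx with rfl | hx
      · exact Nat.dvd_lcm_left _ _
      · exact (ih hx).trans (Nat.dvd_lcm_right _ _)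
  · have h : ∀ x ∈ V.cs, x ∣ Nat.card G := fun x hx => by
      obtain ⟨i, rfl⟩ := V.mem_cs.1 hx
      exact cord_dvd _
    revert h
    generalize V.cs = l
    induction l with
    | nil => simp
    | cons a l ih =>
      intro h
      rw [List.foldr_cons]
      exact Nat.lcm_dvd (h a List.mem_cons_self) (ih fun x hx => h x (List.mem_cons_of_mem _ hx))

/-- Only the exceptions are left. -/
theorem survivor_cases (hG : ¬ IsMulCommutative G) (hk : 8 ≤ Nat.card (ConjClasses G)) {n : ℕ}
    (V : Vec G n) (hV : OrdVec V) (h : V.cs ∈ survivors) : V.cs ∈ exceptions := by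
  have hs := settled_of_mem h
  rw [settled, Bool.or_eq_true, Bool.or_eq_true] at hs
  rcases hs with (hs | hs) | hs
  · simpa using hs
  · exfalso
    rw [← card_eq_foldr_lcm V] at hs
    simp only [List.elem_eq_mem, decide_eq_true_eq, List.mem_cons, List.not_mem_nil, or_false] at hs
    have := card_classes_le_seven (G := G) hs
    omega
  · exact (ne_of_killed hG V hV (card_eq_foldr_lcm V) hs rfl).elim

end CfsgLib.Spor.TenClasses
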