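import Cfsg.Agent.Lib.Spor.NineClasses.Prime
import Cfsg.Agent.Lib.Small.SelfCentralPrime
import Cfsg.Agent.Lib.Small.Order7920

/-!
# Ten classes: the vector of the Suzuki group order

The degrees in the principal blocks at thirteen and seven leave ten characters whose squares do not
add up to 29120.
-/

set_option autoImplicit false
set_option linter.style.haveILetI false

open Subgroup Cfsg CfsgLib.Chars CfsgLib.CharApps CfsgLib.Blocks CfsgLib.Small

namespace CfsgLib.Spor.TenClasses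

open CfsgLib.Spor.NineClasses

universe u

variable {G : Type u} [Group G] [Finite G] [IsSimpleGroup G] (hG : ¬ IsMulCommutative G)

omit [IsSimpleGroup G] in
/-- The order of the group from its vector. -/
theorem card_of_vec {n : ℕ} (V : Vec G n) {l : List ℕ} {K : ℕ} (h : V.cs = l)
    (h1 : ∀ x ∈ l, x ∣ K) (h2 : ∀ M, (∀ x ∈ l, x ∣ M) → K ∣ M) : Nat.card G = K :=
  Nat.dvd_antisymm (V.dvd_of_forall_dvd (by rw [h]; exact h1)) (h2 _ fun x hx => by
    rw [← h] at hx
    obtain ⟨i, rfl⟩ := V.mem_cs.1 hx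
    exact cord_dvd _)

include hG in
/-- A class with prime centraliser order gives a self-centralizing Sylow subgroup. -/
theorem sylow_of_count {n : ℕ} (V : Vec G n) {p : ℕ} [hp : Fact p.Prime] (hs : p ∈ V.cs) {e : ℕ}
    (he : V.cs.count p * e = p - 1) :
    ∃ (P : Sylow p G) (u : G), orderOf u = p ∧ zpowers u = (P : Subgroup G) ∧
      ¬ p ^ 2 ∣ Nat.card G ∧ Nat.card (P : Subgroup G) = p ∧
      centralizer ((P : Subgroup G) : Set G) = (P : Subgroup G) ∧
      Nat.card (normalizer ((P : Subgroup G) : Set G)) = p * e := by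
  classical
  obtain ⟨i0, hi0⟩ := V.mem_cs.1 hs
  obtain ⟨ho, hsq, hall⟩ := prime_cord hp.out (V.ne_one i0) hi0
  have hsq' : ¬ p ^ 2 ∣ Nat.card G := hsq
  set s := V.cs.count p with hsdef
  have hs' : s = Nat.card {i : Fin n // cord (V.rep i) = p} := by
    rw [hsdef, List.count, V.countP_cs]; simp
  have hP : ∀ P : Sylow p G, Nat.card (P : Subgroup G) = p := by
    intro P
    obtain ⟨k, hk⟩ := IsPGroup.iff_card.1 P.2
    have hd : p ^ 1 ∣ Nat.card G := by rw [pow_one, ← hi0]; exact cord_dvd _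
    have h1 := P.pow_dvd_card_of_pow_dvd_card hd
    rw [hk, Nat.pow_dvd_pow_iff_le_right hp.out.one_lt] at h1
    rw [hk]
    rcases Nat.lt_or_ge k 2 with h | h
    · rw [show k = 1 by omega, pow_one]
    · exact absurd (dvd_trans (dvd_trans (pow_dvd_pow p h) hk.symm.dvd)
        (card_subgroup_dvd_card _)) hsq
  obtain ⟨P, hxP⟩ := (IsPGroup.of_card (p := p) (n := 1)
    (show Nat.card (zpowers (V.rep i0)) = p ^ 1 by rw [Nat.card_zpowers, ho, pow_one])).exists_le_sylow
  have hPx : zpowers (V.rep i0) = (P : Subgroup G) :=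
    Subgroup.eq_of_le_of_card_ge hxP (by rw [Nat.card_zpowers, ho, hP P])
  have hCP : centralizer ((P : Subgroup G) : Set G) = centralizer ({V.rep i0} : Set G) := by
    rw [← hPx, zpowers_eq_closure, centralizer_closure]
  have hCc : Nat.card (centralizer ((P : Subgroup G) : Set G)) = p := by rw [hCP]; exact hi0
  obtain ⟨e', he1, -, heN⟩ := CfsgLib.Small.exists_normalizer_centralizer hG P (hP P)
  rw [hCc] at heN
  have hNn := CfsgLib.Small.card_normalizer_mul P
  set N := Nat.card (Sylow p G) with hN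
  have hL : Nat.card G = N * (p * e') := by rw [← hNn, ← heN]; ring
  have hN0 : 0 < N := Nat.card_pos
  have hcount : s * (Nat.card G / p) = N * (p - 1) := by
    rw [hN, ← CfsgLib.Small.card_orderOf_eq_prime hP,
      V.card_elems (fun g => orderOf g = p) (fun a b hab h => orderOf_conj hab ▸ h)
        (by rw [orderOf_one]; exact hp.out.one_lt.ne), hs', Nat.card_eq_fintype_card,
      Fintype.card_subtype, ← Finset.sum_filter]
    have hset : (Finset.univ.filter fun i => orderOf (V.rep i) = p) =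
        Finset.univ.filter fun i => cord (V.rep i) = p := by
      refine Finset.filter_congr fun i _ => ⟨fun h => ?_, fun h => ?_⟩
      · exact (hall _ (V.ne_one i) (h ▸ orderOf_dvd_cord _)).1
      · exact (hall _ (V.ne_one i) h.symm.dvd).2
    rw [hset, Finset.sum_congr rfl (fun i hi => by rw [(Finset.mem_filter.1 hi).2]),
      Finset.sum_const, smul_eq_mul]
  rw [hL, show N * (p * e') = p * (N * e') by ring, Nat.mul_div_cancel_left _ hp.out.pos] at hcount
  have hse : s * e' = p - 1 := by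
    have : N * (s * e') = N * (p - 1) := by rw [← hcount]; ring
    exact Nat.eq_of_mul_eq_mul_left hN0 this
  have hee : e' = e := Nat.eq_of_mul_eq_mul_left
    (List.count_pos_iff.2 hs) (hse.trans he.symm)
  haveI := (isCyclic_of_prime_card (hP P)).isMulCommutative
  exact ⟨P, V.rep i0, ho, hPx, hsq', hP P,
    (Subgroup.eq_of_le_of_card_ge (Subgroup.le_centralizer _) (by rw [hCc, hP P])).symm,
    by rw [← heN, hee]⟩

include hG in
/-- The degrees of the principal block at a prime with several exceptional characters. -/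
theorem block_degrees {n : ℕ} (V : Vec G n) {p : ℕ} [hp : Fact p.Prime] (hp2 : p ≠ 2)
    (hs : p ∈ V.cs) {e : ℕ} (he : V.cs.count p * e = p - 1) (hsev : 2 ≤ (p - 1) / e) :
    ∃ (S Y : Finset (IrrCharacter G)) (s : IrrCharacter G → ℤ) (f : ℕ) (ε : ℤ),
      S.card = e - 1 ∧ Y.card = (p - 1) / e ∧ Disjoint S Y ∧ (principal G ∉ S ∧ principal G ∉ Y) ∧
      (∀ χ ∈ S, 1 < charDegree (χ : G → ℂ) ∧ (s χ = 1 ∨ s χ = -1) ∧
        (s χ * (charDegree (χ : G → ℂ) : ℤ) - 1) % (p : ℤ) = 0) ∧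
      (∀ θ ∈ Y, charDegree (θ : G → ℂ) = f) ∧ 1 < f ∧ f ∣ Nat.card G ∧ (ε = 1 ∨ ε = -1) ∧
      ε * (f : ℤ) = 1 + ∑ χ ∈ S, s χ * (charDegree (χ : G → ℂ) : ℤ) ∧
      1 + ∑ χ ∈ S, charDegree (χ : G → ℂ) ^ 2 + Y.card * f ^ 2 ≤ Nat.card G := by
  classical
  haveI := Fintype.ofFinite G
  haveI := irrFintype G
  obtain ⟨P, u, -, -, hsq, hP, hC, hN⟩ := sylow_of_count hG V hs he
  obtain ⟨M, hM⟩ := CharApps.exists_pModular (p := p)
  haveI := hM.2.1.isPrime
  have hrel' : (centralizer ((P : Subgroup G) : Set G)).relIndex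
      (normalizer ((P : Subgroup G) : Set G)) = e := by
    have h := Subgroup.relIndex_mul_relIndex _ _ _ bot_le
      (Subgroup.centralizer_le_normalizer _ : centralizer ((P : Subgroup G) : Set G) ≤
        normalizer ((P : Subgroup G) : Set G))
    rw [Subgroup.relIndex_bot_left, Subgroup.relIndex_bot_left, hN,
      show Nat.card (centralizer ((P : Subgroup G) : Set G)) = p by rw [hC, hP]] at h
    exact Nat.eq_of_mul_eq_mul_left hp.out.pos h
  obtain ⟨X, Y, σ, ε, hB, hdisj, hX, hY, hXp, hε, -, hYeq, hrel⟩ :=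
    Small.O7920.exists_block_data hp2 hM P hP hrel'
  have h1one : ¬ p ∣ orderOf (1 : G) := by
    rw [orderOf_one, Nat.dvd_one]; exact hp.out.one_lt.ne'
  have hpd : charDegree (principal G : G → ℂ) = 1 :=
    (CfsgLib.CharApps.deg_eq_one_iff (principal G)).mp (principal_apply _)
  have hpY : principal G ∉ Y := fun hmem => by
    obtain ⟨a, ha, hane⟩ := Finset.exists_mem_ne (s := Y) (by omega) (principal G)
    have h1 := hYeq a ha _ hmem 1 h1one
    rw [deg_eq, principal_apply, Nat.cast_eq_one] at h1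
    exact absurd h1 (CfsgLib.Small.one_lt_charDegree hG hane).ne'
  have hpX : principal G ∈ X :=
    ((hB _).1 (CfsgLib.Blocks.principal_mem_principalBlock M)).resolve_right hpY
  obtain ⟨θ, hθ⟩ : Y.Nonempty := Finset.card_pos.1 (by omega)
  have hθp : θ ≠ principal G := fun h => hpY (h ▸ hθ)
  have hsame : ∀ φ ∈ Y, charDegree (φ : G → ℂ) = charDegree (θ : G → ℂ) := fun φ hφ => by
    have h := hYeq φ hφ θ hθ 1 h1one
    simpa [deg_eq] using h
  have hXmod : ∀ χ ∈ X, (σ χ = 1 ∨ σ χ = -1) ∧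
      (σ χ * (charDegree (χ : G → ℂ) : ℤ) - 1) % (p : ℤ) = 0 := fun χ hχ =>
    ⟨(hXp χ hχ).1, Int.emod_eq_emod_iff_emod_sub_eq_zero.1 (hXp χ hχ).2.1⟩
  have hσp : σ (principal G) = 1 := by
    obtain ⟨h1, h2⟩ := hXmod _ hpX
    rw [hpd] at h2
    rcases h1 with h | h
    · exact h
    · rw [h] at h2
      have h3 : (p : ℤ) ∣ -2 := Int.dvd_of_emod_eq_zero (by simpa using h2)
      have h4 : p ∣ 2 := by exact_mod_cast dvd_neg.1 h3
      exact absurd ((Nat.prime_dvd_prime_iff_eq hp.out Nat.prime_two).1 h4) hp2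
  have hS : Disjoint (X.erase (principal G)) Y := hdisj.mono_left (Finset.erase_subset _ _)
  refine ⟨X.erase (principal G), Y, σ, charDegree (θ : G → ℂ), ε, by
    rw [Finset.card_erase_of_mem hpX, hX], hY, hS, by
    exact ⟨by simp, hpY⟩, fun χ hχ => ⟨CfsgLib.Small.one_lt_charDegree hG (Finset.ne_of_mem_erase hχ),
      hXmod χ (Finset.mem_of_mem_erase hχ)⟩, hsame, CfsgLib.Small.one_lt_charDegree hG hθp,
    charDegree_dvd_card θ, hε, ?_, ?_⟩
  · have h := hrel θ hθ 1 h1one
    rw [← Finset.add_sum_erase _ _ hpX, hσp] at h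
    simp only [deg_eq, hpd] at h
    have h' : ((ε * (charDegree (θ : G → ℂ) : ℤ) : ℤ) : ℂ) =
        ((1 + ∑ χ ∈ X.erase (principal G), σ χ * (charDegree (χ : G → ℂ) : ℤ) : ℤ) : ℂ) := by
      push_cast
      simpa using h
    exact_mod_cast h'
  · have h' := Finset.sum_le_univ_sum_of_nonneg (s := insert (principal G) (X.erase (principal G) ∪ Y))
      (f := fun χ : IrrCharacter G => charDegree (χ : G → ℂ) ^ 2) fun χ => Nat.zero_le _
    rw [sum_degree_sq_nat (G := G), Finset.sum_insert (by simp [hpY]), Finset.sum_union hS, hpd,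
      Finset.sum_congr rfl (s₁ := Y) fun φ hφ => by rw [hsame φ hφ], Finset.sum_const, smul_eq_mul] at h'
    omega

section Arith

set_option maxRecDepth 100000
set_option synthInstance.maxHeartbeats 100000
set_option synthInstance.maxSize 4096

theorem cand_29120 : ∀ d < (171 : ℕ), d ∣ 29120 → ∀ s ∈ ([1, -1] : List ℤ),
    1 < d → (((s * (d : ℤ) - 1) % 13 = 0 → (d = 14 ∧ s = 1) ∨ (d = 40 ∧ s = 1) ∨ (d = 64 ∧ s = -1)) ∧
      ((s * (d : ℤ) - 1) % 7 = 0 → d ∈ ([8, 13, 20, 64, 104, 160] : List ℕ) ∧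
        (s = 1 ↔ d % 7 = 1))) := by
  decide +kernel

end Arith

include hG

/-- No group has the vector of order 29120. -/
theorem ne_29120 (h : Nat.card (ConjClasses G) = 10) (V : Vec G 9) :
    V.cs ≠ [5, 7, 7, 7, 8, 13, 13, 13, 64] := by
  classical
  intro hcs
  haveI := Fintype.ofFinite G
  haveI := irrFintype G
  have hL : Nat.card G = 29120 := card_of_vec V hcs (by decide) fun M hM => by
    have h := Nat.lcm_dvd (Nat.lcm_dvd (hM 5 (by decide)) (hM 64 (by decide)))
      (Nat.lcm_dvd (hM 7 (by decide)) (hM 13 (by decide)))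
    exact h
  haveI := Fact.mk (show Nat.Prime 7 by norm_num)
  obtain ⟨S₇, Y₇, s₇, f₇, ε₇, hS₇, hY₇, -, hp₇, hs₇, hf₇, hf₇1, hf₇d, hε₇, heq₇, hsum₇⟩ :=
    block_degrees hG V (p := 7) (e := 2) (by norm_num) (by rw [hcs]; decide)
      (by rw [hcs]; decide) (by norm_num)
  haveI := Fact.mk (show Nat.Prime 13 by norm_num)
  obtain ⟨S, Y, s, f, ε, hS, hY, hdis, hp, hs, hf, hf1, hfd, hε, heq, hsum⟩ :=
    block_degrees hG V (p := 13) (e := 4) (by norm_num) (by rw [hcs]; decide)
      (by rw [hcs]; decide) (by norm_num)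
  rw [hL] at hfd hsum hf₇d hsum₇
  rw [hY] at hsum
  rw [hY₇] at hsum₇
  norm_num at hY hY₇ hsum hsum₇
  have hlt : ∀ χ : IrrCharacter G, charDegree (χ : G → ℂ) < 171 := fun χ => by
    have hle := Finset.single_le_sum (f := fun χ : IrrCharacter G => charDegree (χ : G → ℂ) ^ 2)
      (fun _ _ => Nat.zero_le _) (Finset.mem_univ χ)
    rw [sum_degree_sq_nat (G := G), hL] at hle
    by_contra hc
    have := Nat.pow_le_pow_left (not_lt.1 hc) 2
    omega
  have hcand := fun (χ : IrrCharacter G) (t : ℤ) (ht : t = 1 ∨ t = -1) (h1 : 1 < charDegree (χ : G → ℂ)) =>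
    cand_29120 _ (hlt χ) (hL ▸ charDegree_dvd_card χ) t (by rcases ht with h | h <;> simp [h]) h1
  -- at seven
  obtain ⟨χ, hχ⟩ := Finset.card_eq_one.1 hS₇
  have h65 : f₇ = 65 := by
    obtain ⟨h1, h2, h3⟩ := hs₇ χ (hχ ▸ Finset.mem_singleton_self χ)
    obtain ⟨hm, hiff⟩ := (hcand χ _ h2 h1).2 h3
    rw [hχ, Finset.sum_singleton] at heq₇ hsum₇
    simp only [List.mem_cons, List.not_mem_nil, or_false] at hm
    have hfv : (1 + s₇ χ * (charDegree (χ : G → ℂ) : ℤ)).natAbs = f₇ := by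
      rw [← heq₇]; rcases hε₇ with h | h <;> simp [h]
    rcases h2 with h | h <;> rw [h] at hfv hiff <;>
      rcases hm with h' | h' | h' | h' | h' | h' <;> rw [h'] at hfv hiff hsum₇ <;>
      (try norm_num at hiff) <;> (try norm_num at hfv) <;> subst hfv <;> (try norm_num at hsum₇ ⊢) <;> omega
  -- at thirteen
  obtain ⟨a, b, c, hab, hac, hbc, habc⟩ := Finset.card_eq_three.1 (show S.card = 3 by rw [hS])
  have hmem : a ∈ S ∧ b ∈ S ∧ c ∈ S := by simp [habc]
  rw [habc, Finset.sum_insert (by simp [hab, hac]), Finset.sum_insert (by simp [hbc]),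
    Finset.sum_singleton] at heq hsum
  have h35 : f = 35 ∧ charDegree (a : G → ℂ) ^ 2 + (charDegree (b : G → ℂ) ^ 2 + charDegree (c : G → ℂ) ^ 2) = 4488 := by
    have key : ∀ χ ∈ S, (charDegree (χ : G → ℂ) = 14 ∧ s χ = 1) ∨ (charDegree (χ : G → ℂ) = 40 ∧ s χ = 1) ∨
        (charDegree (χ : G → ℂ) = 64 ∧ s χ = -1) := fun χ hχ =>
      (hcand χ _ (hs χ hχ).2.1 (hs χ hχ).1).1 (hs χ hχ).2.2
    have hfv : (1 + (s a * (charDegree (a : G → ℂ) : ℤ) + (s b * (charDegree (b : G → ℂ) : ℤ) +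
        s c * (charDegree (c : G → ℂ) : ℤ)))).natAbs = f := by
      rw [← heq]; rcases hε with h | h <;> simp [h]
    rcases key a hmem.1 with ⟨ha, ha'⟩ | ⟨ha, ha'⟩ | ⟨ha, ha'⟩ <;>
      rcases key b hmem.2.1 with ⟨hb, hb'⟩ | ⟨hb, hb'⟩ | ⟨hb, hb'⟩ <;>
      rcases key c hmem.2.2 with ⟨hc, hc'⟩ | ⟨hc, hc'⟩ | ⟨hc, hc'⟩ <;>
      rw [ha, hb, hc, ha', hb', hc'] at hfv <;> rw [ha, hb, hc] at hsum ⊢ <;>
      norm_num at hfv <;> subst hfv <;> (try norm_num at hsum ⊢) <;> omega
  obtain ⟨rfl, h4488⟩ := h35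
  -- ten different characters
  have hp' : principal G ∉ S ∧ principal G ∉ Y := hp
  have hp7 : principal G ∉ Y₇ := hp₇.2
  have hdis7 : Disjoint (S ∪ Y) Y₇ := Finset.disjoint_left.2 fun φ hφ h7 => by
    have h := hf₇ φ h7
    rw [h65] at h
    rcases Finset.mem_union.1 hφ with hφS | hφY
    · rcases (hcand φ _ (hs φ hφS).2.1 (hs φ hφS).1).1 (hs φ hφS).2.2 with ⟨h', -⟩ | ⟨h', -⟩ | ⟨h', -⟩ <;>
        omega
    · have := hf φ hφY
      omega
  have hnot : principal G ∉ S ∪ Y ∪ Y₇ := by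
    simp only [Finset.mem_union, not_or]
    exact ⟨⟨hp'.1, hp'.2⟩, hp7⟩
  have hall : insert (principal G) (S ∪ Y ∪ Y₇) = (Finset.univ : Finset (IrrCharacter G)) := by
    refine Finset.eq_univ_of_card _ ?_
    rw [Finset.card_insert_of_notMem hnot, Finset.card_union_of_disjoint hdis7,
      Finset.card_union_of_disjoint hdis, hS, hY, hY₇, ← Nat.card_eq_fintype_card,
      card_irr_eq_card_classes, h]
  have hsq := sum_degree_sq_nat (G := G)
  rw [hL, ← hall, Finset.sum_insert hnot, Finset.sum_union hdis7, Finset.sum_union hdis,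
    Finset.sum_congr rfl (s₁ := Y₇) fun φ hφ => by rw [hf₇ φ hφ, h65],
    Finset.sum_congr rfl (s₁ := Y) fun φ hφ => by rw [hf φ hφ],
    Finset.sum_const, Finset.sum_const, hY, hY₇, habc, Finset.sum_insert (by simp [hab, hac]),
    Finset.sum_insert (by simp [hbc]), Finset.sum_singleton, h4488,
    (CfsgLib.CharApps.deg_eq_one_iff (principal G)).mp (principal_apply _)] at hsq
  norm_num at hsq

end CfsgLib.Spor.TenClasses
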