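import Cfsg.Agent.Lib.Spor.TenClasses.Ends
import Cfsg.Agent.Lib.Spor.TenClasses.ExceptOrders
import Cfsg.Agent.Lib.Spor.TenClasses.FrobKills
import Cfsg.Agent.Lib.Spor.TenClasses.Suzuki
import Cfsg.Agent.Lib.Spor.TenClasses.Defs
import Cfsg.Agent.Lib.Small.Order7920Mathieu
import Cfsg.Agent.Lib.Small.Orders3640

/-!
# Simple groups with ten classes: assembly
-/

set_option autoImplicit false

open Subgroup

namespace CfsgLib.Spor.TenClasses

open NineClasses

/-- The vectors that the element tests do not exclude. -/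
def endVec (c : List ℕ) : Prop :=
  c.foldr Nat.lcm 1 ∈ ([2520, 7920, 16320, 21504, 30720] : List ℕ) ∨ c ∈ eppoVecs ∨
    c = [5, 7, 7, 7, 8, 13, 13, 13, 64] ∨ c = [5, 8, 8, 8, 8, 8, 9, 16, 729]

instance (c : List ℕ) : Decidable (endVec c) := by unfold endVec; infer_instance

variable {G : Type*} [Group G] [Finite G] [IsSimpleGroup G]

/-- Ten classes, once the search leaves only the end vectors. -/
theorem conclusion_of (hG : ¬ IsMulCommutative G) (h : Nat.card (ConjClasses G) = 10)
    (V : Vec G 9)
    (hcases : (Nat.card G < 6000 ∧ smallOrders.elem (Nat.card G) = false) ∨ endVec V.cs) :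
    Nonempty (G ≃* ↥Cfsg.Spor.M11) ∨
      ∃ (F : Type) (_ : Field F) (_ : Fintype F), Fintype.card F = 4 ∧
        Nonempty (G ≃* Matrix.ProjectiveSpecialLinearGroup (Fin 3) F) := by
  rcases hcases with ⟨hlt, hne⟩ | hL | he | h13 | h729
  · have hlist := CfsgLib.Small.Below6000.card_simple_lt_6000 hG hlt
    have : smallOrders.elem (Nat.card G) = true := List.elem_iff.2 hlist
    rw [this] at hne
    exact Bool.noConfusion hne
  · rw [← Frob.card_eq_lcm V] at hL
    simp only [List.mem_cons, List.not_mem_nil, or_false] at hL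
    rcases hL with hc | hc | hc | hc | hc
    · exact absurd h (card_classes_ne_ten_of_2520 hc)
    · exact Or.inl (CfsgLib.Small.O7920.iso_M11 hc)
    · exact absurd hc (card_ne_of_cofactor hG).1
    · exact absurd hc (card_ne_of_cofactor hG).2.1
    · exact absurd hc (card_ne_of_cofactor hG).2.2
  · exact Or.inr (psl_of_eppo hG V he)
  · exact absurd h13 (ne_29120 hG h V)
  · exact absurd h729 (ne_58320 hG V)

end CfsgLib.Spor.TenClasses
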