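import Cfsg.Agent.Lib.Spor.TenClasses.Edge
import Cfsg.Agent.Lib.Spor.NineClasses.Prime
import Cfsg.Agent.Lib.Spor.NineClasses.Mixed
import Cfsg.Agent.Lib.Spor.NineClasses.Dfs

/-!
# Soundness of the pruning by self-centralising primes
-/

set_option autoImplicit false

namespace CfsgLib.Spor.TenClasses.PcPre

open CfsgLib.Spor.NineClasses (force force_eq anyMem allMem allMem_iff divPairs Vec bigDivisors)

theorem anyMem_of_mem {p : ℕ → Bool} {a : ℕ} {l : List ℕ} (ha : a ∈ l) (hp : p a = true) :
    anyMem p l = true := (anyMem_iff' p l).2 ⟨a, ha, hp⟩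

theorem dvd_of_mem_divPairs {t a : ℕ} : ∀ fuel d, a ∈ divPairs t fuel d → a ∣ t := by
  intro fuel
  induction fuel with
  | zero => intro d h; exact absurd h (List.not_mem_nil)
  | succ k ih =>
    intro d h
    change a ∈ force d (fun d => cond (Nat.blt t (d * d)) []
      (cond (Nat.beq (t % d) 0) (d :: force (t / d) (· :: divPairs t k (d + 1)))
        (divPairs t k (d + 1)))) at h
    simp only [force_eq] at h
    cases hb : Nat.blt t (d * d)
    · rw [hb] at h
      cases hd : Nat.beq (t % d) 0
      · rw [hd] at h; exact ih _ h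
      · rw [hd] at h
        have hdt : d ∣ t := Nat.dvd_of_mod_eq_zero (Nat.eq_of_beq_eq_true hd)
        rcases List.mem_cons.1 h with rfl | h
        · exact hdt
        rcases List.mem_cons.1 h with rfl | h
        · exact Nat.div_dvd_of_dvd hdt
        · exact ih _ h
    · rw [hb] at h; exact absurd h (List.not_mem_nil)

theorem bigList_length_le {e : ℕ} (he : 0 < e) :
    (bigList e).length ≤ (bigDivisors e).length := by
  have hn : (bigList e).Nodup := NineClasses.nodup_eraseDups_nat _ _ le_rfl
  refine (hn.subperm fun d hd => ?_).length_le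
  rw [bigList, List.mem_eraseDups, List.mem_filter] at hd
  have hdvd := dvd_of_mem_divPairs _ _ hd.1
  rw [bigDivisors, List.mem_filter, List.mem_range]
  refine ⟨Nat.lt_succ_of_le (Nat.le_of_dvd he hdvd), ?_⟩
  simp [hd.2, Nat.mod_eq_zero_of_dvd hdvd]

theorem lowDivs_le {e : ℕ} (he : 2 ≤ e) : lowDivs e ≤ (bigDivisors e).length := by
  have hs : (([2, 3, 4, 5].filter fun d => Nat.blt d e && Nat.beq (e % d) 0) ++ [e]).Subperm
      (bigDivisors e) := by
    refine List.Nodup.subperm ?_ fun d hd => ?_
    · rw [List.nodup_append]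
      refine ⟨(List.Nodup.filter _ (by decide)), by simp, fun a ha b hb => ?_⟩
      rw [List.mem_singleton] at hb
      rw [List.mem_filter, Bool.and_eq_true] at ha
      have := Nat.le_of_ble_eq_true ha.2.1
      omega
    · rw [bigDivisors, List.mem_filter, List.mem_range]
      rcases List.mem_append.1 hd with hd | hd
      · rw [List.mem_filter, Bool.and_eq_true] at hd
        obtain ⟨hd, h1, h2⟩ := hd
        have := Nat.le_of_ble_eq_true h1
        have h3 : 2 ≤ d := by
          simp only [List.mem_cons, List.not_mem_nil, or_false] at hd; omega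
        exact ⟨by omega, by simp [h3, Nat.eq_of_beq_eq_true h2]⟩
      · rw [List.mem_singleton] at hd
        subst hd
        exact ⟨by omega, by simp [he]⟩
  refine le_trans (le_of_eq ?_) hs.length_le
  simp only [List.length_append, List.length_singleton, lowDivs, List.filter_cons, List.filter_nil]
  cases Nat.blt 2 e && Nat.beq (e % 2) 0 <;> cases Nat.blt 3 e && Nat.beq (e % 3) 0 <;>
    cases Nat.blt 4 e && Nat.beq (e % 4) 0 <;> cases Nat.blt 5 e && Nat.beq (e % 5) 0 <;> rfl

/-- The tests of the self-centralising primes hold on every prefix. -/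
theorem sound {G : Type*} [Group G] [Finite G] [IsSimpleGroup G] {n : ℕ}
    (hprime : ∀ p, primeGe5 p = true → p.Prime) (hG : ¬ IsMulCommutative G) (V : Vec G n)
    (l1 l2 : List ℕ) (x : ℕ) (h : V.cs = l1 ++ x :: l2) :
    pcPre (x :: l1.reverse) l2.length x = true := by
  rw [pcPre, allMem_iff]
  intro p hp
  cases hP : primeGe5 p
  · rfl
  rw [Bool.not_true, Bool.false_or]
  have hpp := hprime p hP
  have hmem : p ∈ V.cs := by
    rw [h]
    rcases List.mem_cons.1 hp with rfl | hp
    · simp
    · simp [List.mem_reverse.1 hp]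
  obtain ⟨hpc, -⟩ := NineClasses.pcOne_sound V hG hpp
  have hsort := V.sorted_cs
  rw [h, List.pairwise_append] at hsort
  obtain ⟨-, hxl, hle⟩ := hsort
  rw [List.pairwise_cons] at hxl
  have hcnt : V.cs.count p = (x :: l1.reverse).count p + l2.count p := by
    rw [h, List.count_append, List.count_cons, List.count_cons, List.count_reverse]; omega
  have hpos : 0 < V.cs.count p := List.count_pos_iff.2 hmem
  simp only [NineClasses.pcOne, Bool.or_eq_true, Bool.and_eq_true, beq_iff_eq, Nat.ble_eq] at hpc
  rcases hpc with hpc | ⟨⟨⟨⟨⟨⟨-, hdiv⟩, he⟩, -⟩, -⟩, -⟩, hbig⟩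
  · omega
  set e := (p - 1) / V.cs.count p with he'
  have hep : ¬ p % e = 0 := fun hd => by
    have hle' : e ≤ p - 1 := Nat.div_le_self _ _
    rcases (Nat.dvd_prime hpp).1 (Nat.dvd_of_mod_eq_zero hd) with e1 | e1 <;> omega
  have key : ∀ J, l2.count p ≤ J → pcOK (x :: l1.reverse) l2.length J p = true := by
    intro J hJ
    rw [pcOK, force_eq, countEq_eq]
    refine anyMem_of_mem (List.mem_range.2 (Nat.lt_succ_of_le hJ)) ?_
    rw [force_eq, ← hcnt, force_eq, ← he']
    simp only [Bool.and_eq_true, Bool.or_eq_true, Nat.ble_eq]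
    have hlow := lowDivs_le he
    suffices hfin : (bigList e).length + l2.count p ≤ countDvd e (x :: l1.reverse) + l2.length ∧
        lowDivs e + l2.count p ≤ countDvd e (x :: l1.reverse) + l2.length from
      ⟨by rw [hdiv]; rfl, ⟨he, hfin.2⟩, Or.inr hfin.1⟩
    have hb := le_trans (bigList_length_le (by omega : 0 < e)) hbig
    have hlow' := le_trans hlow hbig
    have hc : V.cs.countP (fun a => a % e == 0) =
        countDvd e (x :: l1.reverse) + l2.countP (fun a => a % e == 0) := by
      rw [countDvd_eq, h, List.countP_append, List.countP_cons, List.countP_cons,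
        List.countP_reverse]
      omega
    have hl2 : l2.countP (fun a => a % e == 0) + l2.count p ≤ l2.length := by
      clear hc hb hbig hcnt h hxl hle hJ hlow hlow'
      induction l2 with
      | nil => simp
      | cons a l ih =>
        rw [List.countP_cons, List.count_cons, List.length_cons]
        by_cases ha : a = p
        · subst ha
          simp [hep]
          omega
        · simp [ha]
          split <;> omega
    omega
  cases hx : Nat.beq p x
  · rw [cond_false]
    refine key 0 (le_of_eq (List.count_eq_zero.2 fun hl => ?_))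
    have hpx : p ≠ x := fun e => by simp [e] at hx
    rcases List.mem_cons.1 hp with e | hp
    · exact hpx e
    · have h1 := hle p (List.mem_reverse.1 hp) x List.mem_cons_self
      have h2 := hxl.1 p hl
      omega
  · rw [cond_true]
    exact key _ (List.count_le_length)

end CfsgLib.Spor.TenClasses.PcPre

namespace CfsgLib.Spor.TenClasses

/-- The tests of the self-centralising primes hold on every prefix. -/
theorem pcPre_sound {G : Type*} [Group G] [Finite G] [IsSimpleGroup G] {n : ℕ}
    (hG : ¬ IsMulCommutative G) (V : CfsgLib.Spor.NineClasses.Vec G n) (l1 l2 : List ℕ) (x : ℕ)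
    (h : V.cs = l1 ++ x :: l2) : pcPre (x :: l1.reverse) l2.length x = true :=
  PcPre.sound (fun _ hp => (primeGe5_sound hp).1) hG V l1 l2 x h

end CfsgLib.Spor.TenClasses
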