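import Cfsg.Agent.Lib.Spor.TenClasses.Edge
import Cfsg.Agent.Lib.Spor.TenClasses.PcPre
import Cfsg.Agent.Lib.Spor.NineClasses.Main

/-!
# No vector of a simple group is pruned
-/

set_option autoImplicit false

namespace CfsgLib.Spor.TenClasses

open NineClasses (Vec allMem_iff force force_eq)

theorem prune_false {G : Type*} [Group G] [Finite G] [IsSimpleGroup G]
    (hG : ¬ IsMulCommutative G) (V : Vec G 9) :
    ∀ l₁ x l₂, V.cs = l₁ ++ x :: l₂ → prune l₁.reverse x = false := by
  intro l₁ x l₂ h
  have hlen : l₁.length + (l₂.length + 1) = 9 := by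
    have := congrArg List.length h
    rw [V.length_cs, List.length_append, List.length_cons] at this
    omega
  have hR : 8 - l₁.reverse.length = l₂.length := by rw [List.length_reverse]; omega
  rw [prune, NineClasses.prune_false hG V l₁ x l₂ h, force_eq, hR, pcPre_sound hG V l₁ l₂ x h]
  by_cases h1 : l₂.length = 1
  · have hp : V.cs.Perm ((x :: l₁.reverse) ++ l₂) := by
      rw [h]
      exact List.perm_middle.trans (((List.reverse_perm l₁).symm.append_right l₂).cons x)
    have hm := edge_mono hp (edge_sound V)
    rw [edgeOK, h1] at hm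
    have hm' : NineClasses.allMem (x :: l₁.reverse) (edgeOne (x :: l₁.reverse) 1) = true := hm
    have hx : 0 < x := by
      have hmem : x ∈ V.cs := by rw [h]; simp
      obtain ⟨i, hi⟩ := V.mem_cs.1 hmem
      rw [← hi]; exact NineClasses.cord_pos _
    rw [h1, edgeBad_false hx ((allMem_iff _ _).1 hm' x List.mem_cons_self)]
    rfl
  · have hb : Nat.beq l₂.length 1 = false := by
      rw [Bool.eq_false_iff]
      exact fun e => h1 (Nat.eq_of_beq_eq_true e)
    rw [hb]
    rfl

end CfsgLib.Spor.TenClasses
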