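import Cfsg.Agent.Lib.Spor.TenClasses.Search
import Cfsg.Agent.Lib.Spor.TenClasses.PruneFalse
import Cfsg.Agent.Lib.Spor.TenClasses.Edge
import Cfsg.Agent.Lib.Spor.NineClasses.Main

/-!
# Ten classes: what a successful search says about the group
-/

set_option autoImplicit false

namespace CfsgLib.Spor.TenClasses
open NineClasses
theorem cs_cases_of {G : Type*} [Group G] [Finite G] [IsSimpleGroup G]
    (hc : check = true) (hG : ¬ IsMulCommutative G) (V : Vec G 9) (h5 : ∀ g : G, 5 ≤ cord g) :
    (Nat.card G < 6000 ∧ smallOrders.elem (Nat.card G) = false) ∨ V.cs ∈ survivors := by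
  have hgood := good_of_check hc V.length_cs Nat.card_pos
    (fun x hx => by obtain ⟨i, rfl⟩ := V.mem_cs.1 hx; exact cord_dvd _)
    (fun x hx => by obtain ⟨i, rfl⟩ := V.mem_cs.1 hx; exact h5 _)
    V.sorted_cs (fun K hK => V.dvd_of_forall_dvd hK) V.class_eq (edge_sound V)
    (fun l₁ x y l₂ h => TenClasses.prune_false hG V l₁ x (y :: l₂) h)
    (fun l₁ x h => NineClasses.prune_false hG V l₁ x [] h)
  have e1 : (Nat.blt (Nat.card G) 6000 && !(smallOrders.elem (Nat.card G))) = true ∨
      survivors.elem V.cs = true := by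
    rcases hgood with h | h
    · exact Or.inl h
    · rw [good, pc_sound V hG, sq_sound V hG, six_sound hG V, mixed_sound V] at h
      simpa only [Bool.not_true, Bool.or_false, Bool.or_eq_true] using h
  rcases e1 with h | h
  · rw [Bool.and_eq_true, Bool.not_eq_true', Nat.blt_eq] at h
    exact Or.inl h
  · exact Or.inr (List.elem_iff.1 h)
end CfsgLib.Spor.TenClasses
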