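import Cfsg.Agent.Lib.Spor.TenClasses.Cert
import Cfsg.Agent.Lib.Spor.TenClasses.MemOf

/-!
# The centraliser orders of a simple group with ten classes are listed
-/

set_option autoImplicit false

namespace CfsgLib.Spor.TenClasses

open NineClasses (Vec cord)

variable {G : Type*} [Group G] [Finite G] [IsSimpleGroup G]

/-- The order is small and not examined, or the vector is listed. -/
theorem cs_mem (hG : ¬ IsMulCommutative G) (V : Vec G 9) (h5 : ∀ g : G, 5 ≤ cord g) :
    (Nat.card G < 6000 ∧ smallOrders.elem (Nat.card G) = false) ∨ V.cs ∈ survivors :=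
  cs_cases_of check_eq_true hG V h5

end CfsgLib.Spor.TenClasses
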