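import Cfsg.Agent.Lib.Spor.NineClasses.Vec

/-!
# No ten classes with group order 92160

A simple group with a subgroup of index 15 has order dividing the half of `15!`.
-/

set_option autoImplicit false

open Subgroup CfsgLib.Spor.NineClasses

namespace CfsgLib.Spor.TenClasses

variable {G : Type*} [Group G] [Finite G]

/-- The vector of centraliser orders with group order 92160 does not occur in a simple group. -/
theorem ne_92160_a [IsSimpleGroup G] (hG : ¬ IsMulCommutative G) (V : NineClasses.Vec G 9) :
    V.cs ≠ [5, 5, 6, 8, 8, 8, 18, 384, 6144] := by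
  intro h
  have hd : ∀ x ∈ V.cs, x ∣ Nat.card G := fun x hx => by
    obtain ⟨i, rfl⟩ := V.mem_cs.1 hx
    exact cord_dvd _
  have hL : Nat.card G = 92160 := by
    refine Nat.dvd_antisymm (V.dvd_of_forall_dvd (by rw [h]; decide)) ?_
    rw [h] at hd
    exact (Nat.lcm_dvd (Nat.lcm_dvd (hd 5 (by decide)) (hd 18 (by decide))) (hd 6144 (by decide)) :
      Nat.lcm (Nat.lcm 5 18) 6144 ∣ Nat.card G)
  obtain ⟨i, hi⟩ := V.mem_cs.1 (show 6144 ∈ V.cs by rw [h]; decide)
  have hc : Nat.card (centralizer ({V.rep i} : Set G)) = 6144 := hi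
  have hne : centralizer ({V.rep i} : Set G) ≠ ⊤ := fun e => by
    rw [e, Subgroup.card_top, hL] at hc
    norm_num at hc
  have h15 : (centralizer ({V.rep i} : Set G)).index = 15 := by
    have := (centralizer ({V.rep i} : Set G)).card_mul_index
    rw [hc, hL] at this
    omega
  have hdvd := CfsgLib.Small.two_mul_card_dvd_factorial hG hne
  rw [h15, hL] at hdvd
  revert hdvd
  decide +kernel

end CfsgLib.Spor.TenClasses
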