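import Cfsg.Agent.Lib.Spor.TenClasses.Dfs
import Cfsg.Agent.Lib.Spor.TenClasses.Edge

/-!
# The search over nine centraliser orders finds every vector
-/

set_option autoImplicit false

namespace CfsgLib.Spor.TenClasses

open NineClasses (force force_eq allFrom allFrom_iff allMem allMem_iff pPart pPart_spec)

theorem mem_moreDivs {D : List ℕ} {M t : ℕ} (ht : 0 < t) (hD : ∀ g, g ∣ M → g ∈ D) {g : ℕ}
    (hg : g ∣ M * t) : g ∈ moreDivs D t := by
  have h := NineClasses.mem_moreDivs ht hD hg
  unfold NineClasses.moreDivs at h
  unfold moreDivs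
  by_cases h1 : t = 1
  · subst h1
    simpa using h
  · rw [if_neg (by simpa using h1)] at h
    rw [show Nat.beq t 1 = false from Bool.eq_false_iff.2 fun e => h1 (Nat.eq_of_beq_eq_true e),
      cond_false]
    obtain ⟨a, ha, hb'⟩ := List.mem_flatMap.1 h
    obtain ⟨b, hb, hv⟩ := List.mem_flatMap.1 hb'
    clear hb' h
    simp only [force_eq, List.mem_singleton] at hv
    subst hv
    generalize NineClasses.divPairs t (t + 1) 1 = S at hb ⊢
    have inner : ∀ (D' tl : List ℕ) (c : ℕ), a * b ∈ tl ∨ (a ∈ D' ∧ c = b) →
        a * b ∈ List.rec (motive := fun _ => List ℕ) tl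
          (fun a' _ ih' => force (a' * c) fun v => v :: ih') D' := by
      intro D'
      induction D' with
      | nil => intro tl c hh; simpa using hh
      | cons a' D' ih =>
        intro tl c hh
        change a * b ∈ force (a' * c) fun v => v :: _
        rw [force_eq, List.mem_cons]
        rcases hh with hh | ⟨hh, rfl⟩
        · exact Or.inr (ih tl c (Or.inl hh))
        · rcases List.mem_cons.1 hh with rfl | hh
          · exact Or.inl rfl
          · exact Or.inr (ih tl c (Or.inr ⟨hh, rfl⟩))
    induction S with
    | nil => simp at hb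
    | cons c S ih =>
      rcases List.mem_cons.1 hb with rfl | hb
      · exact inner D _ b (Or.inr ⟨ha, rfl⟩)
      · exact inner D _ c (Or.inl (ih hb))

theorem edgeOne_mono {c : List ℕ} {v : ℕ} (h : edgeOne c 0 v = true) : edgeOne c 1 v = true := by
  simp only [edgeOne, force_eq, Bool.or_eq_true, anyMem_iff', allMem_iff, Nat.ble_eq] at h ⊢
  rcases h with ⟨r, hr, hall⟩ | h
  · exact Or.inl ⟨r, hr, fun q hq => (hall q hq).imp_right fun e => by omega⟩
  · exact Or.inr h

theorem nodup_supAux : ∀ fuel d n B, 2 ≤ d → 0 < n → n ≤ B → d ≤ B + 2 → B + 3 ≤ d + fuel →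
    (∀ p, p.Prime → p ∣ n → d ≤ p) → (supAux fuel d n).Nodup := by
  intro fuel
  induction fuel with
  | zero => intro d n B _ _ _ h4 h5; omega
  | succ f ih =>
    intro d n B h1 h2 h3 h4 h5 h6
    rw [show supAux (f + 1) d n = force d fun d => force n fun n =>
      cond (Nat.blt n (d * d)) (cond (Nat.blt 1 n) [n] [])
        (cond (Nat.beq (n % d) 0) (d :: supAux f (d + 1) (n / NineClasses.pPart d n n))
          (supAux f (d + 1) n)) from rfl]
    simp only [force_eq]
    by_cases hlt : n < d * d
    · rw [show Nat.blt n (d * d) = true from Nat.ble_eq_true_of_le hlt, cond_true]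
      cases Nat.blt 1 n <;> simp
    · have hdn : d ≤ n := by
        have := Nat.le_mul_self d; omega
      rw [show Nat.blt n (d * d) = false from
        Bool.eq_false_iff.2 fun h => hlt (Nat.le_of_ble_eq_true h), cond_false]
      by_cases hmod : n % d = 0
      · rw [show Nat.beq (n % d) 0 = true by rw [hmod]; rfl, cond_true, List.nodup_cons]
        obtain ⟨hq, hn'⟩ := pPart_full h1 n n h2 (Nat.lt_pow_self (by omega))
        set m := n / NineClasses.pPart d n n with hm
        have hmn : m ∣ n := Nat.div_dvd_of_dvd hq
        have hm0 : 0 < m := Nat.pos_of_dvd_of_pos hmn h2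
        have hinv : ∀ q, q.Prime → q ∣ m → d + 1 ≤ q := fun q hq' hqm => by
          rcases Nat.eq_or_lt_of_le (h6 q hq' (hqm.trans hmn)) with e | e
          · exact absurd (e ▸ hqm) hn'
          · exact e
        have hle := (Nat.le_of_dvd h2 hmn).trans h3
        refine ⟨fun hmem => hn' ?_, ih (d + 1) m B (by omega) hm0 hle (by omega) (by omega) hinv⟩
        exact ((mem_supAux f (d + 1) m B (by omega) hm0 hle (by omega) (by omega) hinv d).1 hmem).2
      · rw [show Nat.beq (n % d) 0 = false from Bool.eq_false_iff.2 fun h =>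
            hmod (Nat.eq_of_beq_eq_true h), cond_false]
        exact ih (d + 1) n B (by omega) h2 h3 (by omega) (by omega) (fun q hq hqn => by
          rcases Nat.eq_or_lt_of_le (h6 q hq hqn) with e | e
          · exact absurd (Nat.mod_eq_zero_of_dvd (e ▸ hqn)) hmod
          · exact e)

theorem nodup_sup {x : ℕ} (hx : 0 < x) : (sup x).Nodup :=
  nodup_supAux (x + 2) 2 x x le_rfl hx le_rfl (by omega) (by omega) (fun _ hq _ => hq.two_le)

/-- The last but one entry is a multiple of the step of the entries before it. -/
theorem stepOf_spec {pre c : List ℕ} {x y : ℕ} (hpos : ∀ v ∈ pre, 0 < v)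
    (hp : c.Perm (pre ++ [x, y])) (he : edgeOK c 0 = true) :
    stepOf pre ∣ x ∧ 0 < stepOf pre := by
  have hone : ∀ v ∈ pre, edgeOne c 0 v = true := by
    intro v hv
    rw [edgeOK, Bool.or_eq_true] at he
    rcases he with h | h
    · exact absurd (Nat.le_of_ble_eq_true h) (by omega)
    · exact (allMem_iff _ _).1 h v (hp.mem_iff.2 (List.mem_append_left _ hv))
  have hstep : ∀ v ∈ pre, ∀ D, D ∣ x → 0 < D →
      cond (Nat.beq (sup v).length 2)
          (List.rec (motive := fun _ => ℕ) D
            (fun r l _ => List.rec (motive := fun _ => ℕ) D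
              (fun q _ _ => cond (Nat.beq (countDvd (r * q) pre) 1) (Nat.lcm D (r * q)) D) l) (sup v))
          D ∣ x ∧
        0 < cond (Nat.beq (sup v).length 2)
          (List.rec (motive := fun _ => ℕ) D
            (fun r l _ => List.rec (motive := fun _ => ℕ) D
              (fun q _ _ => cond (Nat.beq (countDvd (r * q) pre) 1) (Nat.lcm D (r * q)) D) l) (sup v))
          D := by
    intro v hv D h1 h2
    cases hlen : Nat.beq (sup v).length 2 with
    | false => simpa using And.intro h1 h2
    | true =>
      rw [cond_true]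
      obtain ⟨r, q, hs⟩ := List.length_eq_two.1 (Nat.eq_of_beq_eq_true hlen)
      rw [hs]
      simp only
      cases hcnt : Nat.beq (countDvd (r * q) pre) 1 with
      | false => simpa using And.intro h1 h2
      | true =>
        rw [cond_true]
        have hnd := nodup_sup (hpos v hv)
        rw [hs] at hnd
        have hne : r ≠ q := by simpa using hnd
        have hr := (mem_sup (hpos v hv)).1 (show r ∈ sup v by rw [hs]; simp)
        have hq := (mem_sup (hpos v hv)).1 (show q ∈ sup v by rw [hs]; simp)
        refine ⟨Nat.lcm_dvd h1 ?_, Nat.lcm_pos h2 (Nat.mul_pos hr.1.pos hq.1.pos)⟩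
        have hcnt' := Nat.eq_of_beq_eq_true hcnt
        have h3 : 3 ≤ countDvd (r * q) c := by
          have hv1 := hone v hv
          simp only [edgeOne, force_eq, Bool.or_eq_true, anyMem_iff', allMem_iff, Nat.ble_eq,
            hs, Nat.add_zero] at hv1
          rcases hv1 with ⟨r', hr', hall⟩ | hv1
          · rcases List.mem_pair.1 hr' with rfl | rfl
            · rcases hall q (by simp) with e | e
              · exact absurd (Nat.eq_of_beq_eq_true e).symm hne
              · exact e
            · rcases hall r (by simp) with e | e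
              · exact absurd (Nat.eq_of_beq_eq_true e) hne
              · rwa [mul_comm]
          · exact absurd ((Nat.le_of_dvd (hpos v hv) hr.2).trans hv1) (by
              have := hr.1.two_le; omega)
        rw [countDvd_eq, hp.countP_eq, List.countP_append] at h3
        rw [countDvd_eq] at hcnt'
        simp only [List.countP_cons, List.countP_nil, beq_iff_eq] at h3
        by_contra hx
        have : x % (r * q) ≠ 0 := fun h => hx (Nat.dvd_of_mod_eq_zero h)
        simp only [this, if_false] at h3
        split_ifs at h3 <;> omega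
  suffices ∀ l, (∀ v ∈ l, v ∈ pre) → ∀ D', (List.rec (motive := fun _ => ℕ) 1
      (fun v _ ih => force ih fun D =>
        cond (Nat.beq (sup v).length 2)
          (List.rec (motive := fun _ => ℕ) D
            (fun r l _ => List.rec (motive := fun _ => ℕ) D
              (fun q _ _ => cond (Nat.beq (countDvd (r * q) pre) 1) (Nat.lcm D (r * q)) D) l) (sup v))
          D) l : ℕ) = D' → D' ∣ x ∧ 0 < D' from
    this pre (fun _ h => h) _ rfl
  intro l
  induction l with
  | nil => intro _ D' h; subst h; simp
  | cons v l ih =>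
    intro hl D' h
    subst h
    obtain ⟨h1, h2⟩ := ih (fun w hw => hl w (List.mem_cons_of_mem _ hw)) _ rfl
    simp only [force_eq] at h1 h2 ⊢
    exact hstep v (hl v List.mem_cons_self) _ h1 h2

/-- The hypotheses on a suffix `l` of a vector `c` with prefix `pre.reverse`. -/
structure Suffix (pre : List ℕ) (N M L : ℕ) (l : List ℕ) : Prop where
  hpos : 0 < L
  hM : M ∣ L
  hpre : ∀ x ∈ pre, 0 < x
  hdvd : ∀ x ∈ l, x ∣ L
  hge : ∀ x ∈ l, pre.headD 5 ≤ x
  hsort : List.Pairwise (· ≤ ·) l
  hlcm : ∀ K, M ∣ K → (∀ x ∈ l, x ∣ K) → L ∣ K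
  heq : N * (L / M) = (l.map (L / ·)).sum + 1
  hedge : edgeOK (pre.reverse ++ l) 0 = true
  hprune : ∀ l₁ x y l₂, l = l₁ ++ x :: y :: l₂ → prune (l₁.reverse ++ pre) x = false
  hlast : ∀ l₁ x, l = l₁ ++ [x] → NineClasses.prune (l₁.reverse ++ pre) x = false

theorem dfs_sound (r : ℕ) : ∀ (pre : List ℕ) (N M L : ℕ) (D l : List ℕ),
    dfs r pre N M D = true → (∀ g, g ∣ M → g ∈ D) → Suffix pre N M L l → l.length = r + 1 →
      ((Nat.blt L 6000 && !(smallOrders.elem L)) = true ∨ good (pre.reverse ++ l) L = true) := by
  induction r with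
  | zero =>
    intro pre N M L D l hd hD hs hl
    obtain ⟨x, rfl⟩ := List.length_eq_one_iff.1 hl
    have hx : x ∣ L := hs.hdvd x (by simp)
    have hx0 : 0 < x := Nat.pos_of_dvd_of_pos hx hs.hpos
    have hM0 : 0 < M := Nat.pos_of_dvd_of_pos hs.hM hs.hpos
    have hL : L = M / Nat.gcd x M * x := by
      have h1 : L ∣ Nat.lcm M x := hs.hlcm _ (Nat.dvd_lcm_left M x)
        (by intro y hy; rw [List.mem_singleton.1 hy]; exact Nat.dvd_lcm_right M x)
      rw [Nat.dvd_antisymm h1 (Nat.lcm_dvd hs.hM hx), Nat.lcm, Nat.gcd_comm M x]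
      exact Nat.mul_div_right_comm (Nat.gcd_dvd_right x M) x
    have hg0 : 0 < Nat.gcd x M := Nat.gcd_pos_of_pos_left _ hx0
    have he := hs.heq
    simp only [List.map_cons, List.map_nil, List.sum_cons, List.sum_nil, Nat.add_zero] at he
    have hedge := hs.hedge
    obtain ⟨a, ha⟩ := Nat.gcd_dvd_left x M
    obtain ⟨b, hb⟩ := Nat.gcd_dvd_right x M
    generalize hg : Nat.gcd x M = g at *
    subst ha hb
    have hb0 : 0 < b := Nat.pos_of_mul_pos_left hM0
    have ha0 : 0 < a := Nat.pos_of_mul_pos_left hx0
    rw [Nat.mul_div_cancel_left _ hg0] at hL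
    have hLM : L / (g * b) = a := by
      rw [hL, show b * (g * a) = g * b * a by ring, Nat.mul_div_cancel_left _ hM0]
    have hLx : L / (g * a) = b := by
      rw [hL, Nat.mul_div_cancel _ hx0]
    rw [hLM, hLx] at he
    have hNx : g * b + g = N * (g * a) := by
      rw [show N * (g * a) = g * (N * a) by ring, he]; ring
    rcases Nat.eq_zero_or_pos N with hN | hN
    · subst hN; simp at he
    have hdiv : (g * b + g) / N = g * a := by
      rw [hNx, Nat.mul_div_cancel_left _ hN]
    have hmod : Nat.beq ((g * b + g) % N) 0 = true := by rw [hNx, Nat.mul_mod_right]; rfl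
    have hp : NineClasses.prune pre (g * a) = false := hs.hlast [] (g * a) rfl
    have hlo : max (pre.headD 5) (g * b / N + 1) ≤ g * a := by
      have h1 : g * b < g * a * N := by rw [mul_comm (g * a) N, ← hNx]; omega
      exact max_le (hs.hge _ (by simp)) ((Nat.div_lt_iff_lt_mul hN).2 h1)
    have he2 : edgeOK (g * a :: pre) 0 = true := by
      have hperm : (pre.reverse ++ [g * a]).Perm ((g * a :: pre) ++ []) := by
        rw [List.append_nil]
        exact (List.perm_append_comm).trans (List.Perm.cons _ (List.reverse_perm pre))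
      exact edge_mono hperm hedge
    have hleaf : leaf pre (g * b) (g * a) g = true →
        ((Nat.blt L 6000 && !(smallOrders.elem L)) = true ∨
          good (pre.reverse ++ [g * a]) L = true) := by
      intro h
      have hgg : Nat.beq g g = true := Nat.beq_refl g
      have heb : edgeBad pre (g * a) = false := edgeBad_false hx0 (edgeOne_mono (by
        have h2 := he2
        rw [edgeOK, Bool.or_eq_true] at h2
        rcases h2 with h2 | h2
        · exact absurd (Nat.le_of_ble_eq_true h2) (by omega)
        · exact (allMem_iff _ _).1 h2 _ List.mem_cons_self))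
      simp only [leaf, hg, hgg, hp, heb, force_eq, Nat.mul_div_cancel_left _ hg0, ← hL, he2,
        Bool.not_true, Bool.false_or, Bool.or_false] at h
      exact (Bool.or_eq_true _ _).mp h
    apply hleaf
    simp only [dfs, force_eq] at hd
    split_ifs at hd with hw
    · have hsub : N * (g * a) - g * b = g := by omega
      have hx2 : g * a ≤ 2 * (g * b) / N := by
        refine (Nat.le_div_iff_mul_le hN).2 ?_
        rw [mul_comm (g * a) N, ← hNx]
        have : g ≤ g * b := Nat.le_mul_of_pos_right g hb0
        omega
      have := (allFrom_iff _ _ _).1 hd (g * a) (by rw [List.mem_range'_1]; omega)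
      rwa [hsub] at this
    · have := (allMem_iff _ _).1 hd g (hD g ⟨b, rfl⟩)
      have hle : Nat.ble (max (pre.headD 5) (g * b / N + 1)) (g * a) = true := by
        rw [Nat.ble_eq]; exact hlo
      simpa only [hmod, hdiv, hle, force_eq, Bool.not_true, Bool.false_or] using this
  | succ r ih =>
    intro pre N M L D l hd hD hs hl
    obtain ⟨x, y', l'', rfl⟩ : ∃ x y' l'', l = x :: y' :: l'' := by
      match l, hl with
      | x :: y' :: l'', _ => exact ⟨x, y', l'', rfl⟩
    have hl' : (y' :: l'').length = r + 1 := by simpa using hl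
    generalize hL' : y' :: l'' = l' at *
    have hx : x ∣ L := hs.hdvd x (by simp)
    have hx0 : 0 < x := Nat.pos_of_dvd_of_pos hx hs.hpos
    have hM0 : 0 < M := Nat.pos_of_dvd_of_pos hs.hM hs.hpos
    set t := x / Nat.gcd x M with ht
    have hlcmM : M * t = Nat.lcm M x := by
      rw [ht, Nat.lcm, Nat.gcd_comm M x, Nat.mul_div_assoc _ (Nat.gcd_dvd_left x M)]
    have hM' : M * t ∣ L := hlcmM ▸ Nat.lcm_dvd hs.hM hx
    have hxM' : x ∣ M * t := hlcmM ▸ Nat.dvd_lcm_right M x
    have ht0 : 0 < t := Nat.pos_of_mul_pos_left (Nat.pos_of_dvd_of_pos hM' hs.hpos)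
    obtain ⟨q, hq⟩ := hM'
    obtain ⟨y, hy⟩ := hxM'
    have hq0 : 0 < q := by
      rcases Nat.eq_zero_or_pos q with h | h
      · subst h; simp at hq; have := hs.hpos; omega
      · exact h
    have hLM : L / M = t * q := by rw [hq, Nat.mul_assoc, Nat.mul_div_cancel_left _ hM0]
    have hLM' : L / (M * t) = q := by rw [hq, Nat.mul_div_cancel_left _ (Nat.mul_pos hM0 ht0)]
    have hLx : L / x = y * q := by rw [hq, hy, Nat.mul_assoc, Nat.mul_div_cancel_left _ hx0]
    have hM'x : M * t / x = y := by rw [hy, Nat.mul_div_cancel_left _ hx0]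
    have he := hs.heq
    simp only [List.map_cons, List.sum_cons] at he
    rw [hLM, hLx] at he
    have hlow : M < x * N := by
      have h1 : y * q < N * (t * q) := by omega
      have h2 : y < N * t := by
        by_contra hcon
        push Not at hcon
        have h3 := Nat.mul_le_mul_right q hcon
        rw [show N * t * q = N * (t * q) by ring] at h3
        omega
      have h4 : M * t < x * N * t := by
        rw [hy, Nat.mul_assoc]; exact Nat.mul_lt_mul_of_pos_left h2 hx0
      exact Nat.lt_of_mul_lt_mul_right h4
    have hhigh : x * N ≤ (r + 3) * M := by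
      have hsum : (l'.map (L / ·)).sum ≤ l'.length * (y * q) := by
        have := List.sum_le_card_nsmul (l'.map (L / ·)) (y * q) (by
          intro z hz
          obtain ⟨w, hw, rfl⟩ := List.mem_map.1 hz
          rw [← hLx]
          exact Nat.div_le_div_left ((List.pairwise_cons.1 hs.hsort).1 w hw) hx0)
        simpa using this
      have h1 : 1 ≤ y * q := by
        rw [← hLx]; exact Nat.div_pos (Nat.le_of_dvd hs.hpos hx) hx0
      rw [hl'] at hsum
      have h2 : N * (t * q) ≤ (r + 3) * (y * q) := by
        rw [he, show (r + 3) * (y * q) = y * q + ((r + 1) * (y * q) + y * q) by ring]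
        omega
      have h3 : N * t ≤ (r + 3) * y := by
        refine Nat.le_of_mul_le_mul_right ?_ hq0
        rw [show N * t * q = N * (t * q) by ring, show (r + 3) * y * q = (r + 3) * (y * q) by ring]
        exact h2
      refine Nat.le_of_mul_le_mul_right ?_ ht0
      rw [show x * N * t = x * (N * t) by ring, show (r + 3) * M * t = (r + 3) * (M * t) by ring,
        hy, show (r + 3) * (x * y) = x * ((r + 3) * y) by ring]
      exact Nat.mul_le_mul_left x h3
    have hN : 0 < N := by
      rcases Nat.eq_zero_or_pos N with h | h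
      · subst h; simp at hlow
      · exact h
    simp only [dfs, force_eq] at hd
    have hst : cond (Nat.beq r 0) (stepOf pre) 1 ∣ x ∧ 0 < cond (Nat.beq r 0) (stepOf pre) 1 := by
      cases hr : Nat.beq r 0 with
      | false => simp
      | true =>
        have hr0 := Nat.eq_of_beq_eq_true hr
        obtain ⟨z, hz⟩ := List.length_eq_one_iff.1 (show l'.length = 1 by omega)
        have hedge := hs.hedge
        rw [hz] at hedge
        rw [cond_true]
        exact stepOf_spec hs.hpre ((List.reverse_perm pre).append_right _) hedge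
    generalize cond (Nat.beq r 0) (stepOf pre) 1 = st at hd hst
    obtain ⟨⟨k, hk⟩, hst0⟩ := hst
    set lo := max (pre.headD 5) (M / N + 1) with hlodef
    set w := (r + 3) * M / N + 1 - lo with hwdef
    have h1 : M / N < x := (Nat.div_lt_iff_lt_mul hN).2 hlow
    have h2 : x ≤ (r + 3) * M / N := (Nat.le_div_iff_mul_le hN).2 hhigh
    have h3 := hs.hge x (by simp)
    have hlox : lo ≤ x := max_le h3 h1
    set a := (lo + st - 1) / st with hadef
    have hak : a ≤ k := by
      rw [hadef, Nat.div_le_iff_le_mul_add_pred hst0]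
      have : st * k = x := hk.symm
      omega
    have hd' := (allStep_iff _ _ _ _).1 hd (k - a) (by
      have e1 : (k - a) * st = x - a * st := by rw [Nat.sub_mul, hk, Nat.mul_comm k st]
      have e2 : a * st ≤ x := by rw [hk, Nat.mul_comm st k]; exact Nat.mul_le_mul_right _ hak
      rw [Nat.lt_iff_add_one_le, Nat.le_div_iff_mul_le hst0, Nat.add_mul, e1, Nat.one_mul]
      omega)
    rw [show a * st + (k - a) * st = x by
      rw [← Nat.add_mul, Nat.add_sub_cancel' hak, Nat.mul_comm, hk]] at hd'
    have hp : prune pre x = false := by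
      have := hs.hprune [] x y' l'' (by rw [← hL']; rfl)
      simpa using this
    simp only [hp, Bool.false_or] at hd'
    rw [← ht, hM'x] at hd'
    have := ih (x :: pre) (N * t - y) (M * t) L (moreDivs D t) l' hd'
      (fun g hg => mem_moreDivs ht0 hD hg)
      { hpos := hs.hpos
        hM := ⟨q, hq⟩
        hpre := by
          intro z hz
          rcases List.mem_cons.1 hz with rfl | hz
          · exact hx0
          · exact hs.hpre z hz
        hdvd := fun z hz => hs.hdvd z (List.mem_cons_of_mem _ hz)
        hge := fun z hz => by simpa using (List.pairwise_cons.1 hs.hsort).1 z hz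
        hsort := (List.pairwise_cons.1 hs.hsort).2
        hlcm := fun K hK hl'' => hs.hlcm K (dvd_trans ⟨t, rfl⟩ hK) (by
          intro z hz
          rcases List.mem_cons.1 hz with rfl | hz
          · exact dvd_trans ⟨y, hy⟩ hK
          · exact hl'' z hz)
        heq := by
          rw [hLM', Nat.sub_mul, show N * t * q = N * (t * q) by ring, he]
          omega
        hedge := by simpa using hs.hedge
        hprune := fun l₁ z z' l₂ h => by
          have := hs.hprune (x :: l₁) z z' l₂ (by rw [h]; rfl)
          simpa using this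
        hlast := fun l₁ z h => by
          have := hs.hlast (x :: l₁) z (by rw [h]; rfl)
          simpa using this } hl'
    simpa using this

/-- Every vector of the class equation passing the pruning tests is found. -/
theorem good_of_check (hc : check = true) {L : ℕ} {c : List ℕ} (hlen : c.length = 9)
    (hL : 0 < L) (hdvd : ∀ x ∈ c, x ∣ L) (h5 : ∀ x ∈ c, 5 ≤ x)
    (hsort : List.Pairwise (· ≤ ·) c) (hlcm : ∀ K, (∀ x ∈ c, x ∣ K) → L ∣ K)
    (heq : (c.map (L / ·)).sum + 1 = L) (hedge : edgeOK c 0 = true)
    (hprune : ∀ l₁ x y l₂, c = l₁ ++ x :: y :: l₂ → prune l₁.reverse x = false)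
    (hlast : ∀ l₁ x, c = l₁ ++ [x] → NineClasses.prune l₁.reverse x = false) :
    ((Nat.blt L 6000 && !(smallOrders.elem L)) = true ∨ good c L = true) := by
  have := dfs_sound 8 [] 1 1 L [1] c hc (fun g hg => by simpa using hg)
    { hpos := hL, hM := one_dvd L, hpre := by simp, hdvd := hdvd
      hge := fun x hx => by simpa using h5 x hx
      hsort := hsort, hlcm := fun K _ h => hlcm K h, heq := by simpa using heq.symm
      hedge := by simpa using hedge
      hprune := fun l₁ x y l₂ h => by simpa using hprune l₁ x y l₂ h
      hlast := fun l₁ x h => by simpa using hlast l₁ x h } (by rw [hlen])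
  simpa using this

end CfsgLib.Spor.TenClasses
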